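import Mathlib
import Groth.Agent.H28.DualFinite
import Groth.Agent.H28.RestrAdj

/-!
# Semilinear transfer along `restrictD ⊣ R`, with shifts  (helper2)

`thetaEquiv : Hom_{D(B)}(X, (R Y)[i]) ≃ Hom_{D(A)}(X|_A, Y[i])`, additive and semilinear along
`A → B`.
-/

set_option autoImplicit false
set_option linter.unusedSectionVars false
set_option linter.style.haveILetI false

namespace Groth.Agent.H2.DualCx

universe u

open CategoryTheory CategoryTheory.Limits Pretriangulated DerivedCategory

attribute [local instance] HasDerivedCategory.standard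

section Transfer

variable {A B : Type u} [CommRing A] [CommRing B] [Algebra A B]
  (R : Dual.D A ⥤ Dual.D B) (adj : DRing.restrictD (algebraMap A B) ⊣ R)
  (X : Dual.D B) (Y : Dual.D A) (i : ℤ)

/-- the shift adjunction `[-i] ⊣ [i]` -/
noncomputable abbrev shAdj (C : Type*) [Category C] [Preadditive C] [HasShift C ℤ] (i : ℤ) :
    shiftFunctor C (-i) ⊣ shiftFunctor C i :=
  (shiftEquiv' C (-i) i (by omega)).toAdjunction

/-- the underlying function of `thetaEquiv` -/
noncomputable def thetaFun (g : X ⟶ (R.obj Y)⟦i⟧) :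
    ((DRing.restrictD (algebraMap A B)).obj X ⟶ Y⟦i⟧) :=
  (shAdj (Dual.D A) i).unit.app _ ≫
    ((((DRing.restrictD (algebraMap A B)).commShiftIso (-i)).app X).inv ≫
      ((DRing.restrictD (algebraMap A B)).map
        ((shiftFunctor (Dual.D B) (-i)).map g ≫ (shAdj (Dual.D B) i).counit.app (R.obj Y)) ≫
          adj.counit.app Y))⟦i⟧'

/-- `Hom_{D(B)}(X, (R Y)[i]) ≃ Hom_{D(A)}(X|_A, Y[i])` -/
noncomputable def thetaEquiv :
    (X ⟶ (R.obj Y)⟦i⟧) ≃ ((DRing.restrictD (algebraMap A B)).obj X ⟶ Y⟦i⟧) :=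
  (((shAdj (Dual.D B) i).homEquiv X (R.obj Y)).symm.trans
    ((adj.homEquiv (X⟦-i⟧) Y).symm.trans
      ((Iso.homCongr (((DRing.restrictD (algebraMap A B)).commShiftIso (-i)).app X)
        (Iso.refl Y)).trans
        ((shAdj (Dual.D A) i).homEquiv _ Y))))

theorem thetaEquiv_apply (g : X ⟶ (R.obj Y)⟦i⟧) :
    thetaEquiv R adj X Y i g = thetaFun R adj X Y i g := by
  simp only [thetaEquiv, thetaFun, Equiv.trans_apply, Adjunction.homEquiv_counit,
    Adjunction.homEquiv_unit, Iso.homCongr_apply, Iso.refl_hom, Category.comp_id]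

theorem thetaFun_add (g g' : X ⟶ (R.obj Y)⟦i⟧) :
    thetaFun R adj X Y i (g + g') = thetaFun R adj X Y i g + thetaFun R adj X Y i g' := by
  simp only [thetaFun, Functor.map_add, Preadditive.add_comp, Preadditive.comp_add]

theorem thetaFun_smul (a : A) (g : X ⟶ (R.obj Y)⟦i⟧) :
    thetaFun R adj X Y i (algebraMap A B a • g) = a • thetaFun R adj X Y i g := by
  simp only [thetaFun]
  rw [Functor.map_smul, Linear.smul_comp, Groth.Agent.H28.RestrAdj.restrictD_map_smul,
    Linear.smul_comp, Linear.comp_smul, Functor.map_smul, Linear.comp_smul]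

end Transfer

end Groth.Agent.H2.DualCx
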