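import Mathlib
import Groth.Prelude.Def_Wider

/-!
# The cohomological δ-functor `T^j(M) = Hom_{D(A)}(M[0], W[j])`  (helper2)
-/

set_option autoImplicit false
set_option linter.unusedSectionVars false
set_option linter.style.haveILetI false

namespace Groth.Agent.H2.DualCx

universe u

open CategoryTheory CategoryTheory.Limits Pretriangulated DerivedCategory

attribute [local instance] HasDerivedCategory.standard

variable {A : Type u} [CommRing A] (W : Dual.D A)

/-- `T^j(M) = Hom_{D(A)}(M[0], W[j])` -/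
abbrev T (j : ℤ) (M : Type u) [AddCommGroup M] [Module A M] : Type (u + 1) :=
  (Dual.inD A M ⟶ W⟦j⟧)

section Precomp

variable {M N P : Type u} [AddCommGroup M] [Module A M] [AddCommGroup N] [Module A N]
  [AddCommGroup P] [Module A P]

/-- the image of a linear map in `D(A)` -/
noncomputable def sg (φ : M →ₗ[A] N) : Dual.inD A M ⟶ Dual.inD A N :=
  (DerivedCategory.singleFunctor (ModuleCat.{u} A) 0).map (ModuleCat.ofHom φ)

theorem sg_id : sg (LinearMap.id : M →ₗ[A] M) = 𝟙 _ := by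
  unfold sg
  rw [ModuleCat.ofHom_id]
  exact (DerivedCategory.singleFunctor (ModuleCat.{u} A) 0).map_id _

theorem sg_comp (φ : M →ₗ[A] N) (ψ : N →ₗ[A] P) : sg (ψ ∘ₗ φ) = sg φ ≫ sg ψ := by
  unfold sg
  rw [ModuleCat.ofHom_comp]
  exact (DerivedCategory.singleFunctor (ModuleCat.{u} A) 0).map_comp _ _

theorem sg_zero : sg (0 : M →ₗ[A] N) = 0 := by
  unfold sg
  have : ModuleCat.ofHom (0 : M →ₗ[A] N) = 0 := rfl
  rw [this]
  exact (DerivedCategory.singleFunctor (ModuleCat.{u} A) 0).map_zero _ _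

theorem sg_smul (a : A) (φ : M →ₗ[A] N) : sg (a • φ) = a • sg φ := by
  unfold sg
  have : ModuleCat.ofHom (a • φ) = a • ModuleCat.ofHom φ := rfl
  rw [this]
  exact Functor.map_smul (DerivedCategory.singleFunctor (ModuleCat.{u} A) 0) a _

/-- precomposition `T^j(N) → T^j(M)` -/
noncomputable def precomp (j : ℤ) (φ : M →ₗ[A] N) : T W j N →ₗ[A] T W j M where
  toFun f := sg φ ≫ f
  map_add' f g := Preadditive.comp_add _ _ _ _ _ _
  map_smul' a f := Linear.comp_smul _ _ _ (sg φ) a f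

theorem precomp_apply (j : ℤ) (φ : M →ₗ[A] N) (f : T W j N) : precomp W j φ f = sg φ ≫ f := rfl

theorem precomp_smul_id (j : ℤ) (a : A) (f : T W j M) :
    precomp W j (a • (LinearMap.id : M →ₗ[A] M)) f = a • f := by
  rw [precomp_apply, sg_smul, sg_id, Linear.smul_comp, Category.id_comp]

/-- `T^j` of isomorphic modules -/
noncomputable def congr (j : ℤ) (e : M ≃ₗ[A] N) : T W j N ≃ₗ[A] T W j M where
  __ := precomp W j e.toLinearMap
  invFun := precomp W j e.symm.toLinearMap
  left_inv f := by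
    change sg e.symm.toLinearMap ≫ (sg e.toLinearMap ≫ f) = f
    rw [← Category.assoc, ← sg_comp]
    have : e.toLinearMap ∘ₗ e.symm.toLinearMap = LinearMap.id := by ext; simp
    rw [this, sg_id, Category.id_comp]
  right_inv f := by
    change sg e.toLinearMap ≫ (sg e.symm.toLinearMap ≫ f) = f
    rw [← Category.assoc, ← sg_comp]
    have : e.symm.toLinearMap ∘ₗ e.toLinearMap = LinearMap.id := by ext; simp
    rw [this, sg_id, Category.id_comp]

theorem subsingleton_of_subsingleton (j : ℤ) [Subsingleton M] : Subsingleton (T W j M) := by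
  have h0 : (LinearMap.id : M →ₗ[A] M) = 0 := Subsingleton.elim _ _
  refine ⟨fun f g => ?_⟩
  have hf : ∀ f : T W j M, f = 0 := by
    intro f
    have := precomp_smul_id W j (1 : A) f
    rw [one_smul, one_smul, precomp_apply, h0, sg_zero, zero_comp] at this
    exact this.symm
  rw [hf f, hf g]

end Precomp

section LES

variable {S : ShortComplex (ModuleCat.{u} A)} (hS : S.ShortExact)

include hS in
/-- exactness at the middle term -/
theorem exact_mid {K : Dual.D A} (f : Dual.inD A S.X₂ ⟶ K)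
    (hf : (DerivedCategory.singleFunctor (ModuleCat.{u} A) 0).map S.f ≫ f = 0) :
    ∃ g : Dual.inD A S.X₃ ⟶ K,
      f = (DerivedCategory.singleFunctor (ModuleCat.{u} A) 0).map S.g ≫ g :=
  Triangle.yoneda_exact₂ _ hS.singleTriangle_distinguished f hf

include hS in
/-- exactness at the third term -/
theorem exact_right {K : Dual.D A} (f : Dual.inD A S.X₃ ⟶ K)
    (hf : (DerivedCategory.singleFunctor (ModuleCat.{u} A) 0).map S.g ≫ f = 0) :
    ∃ g : (Dual.inD A S.X₁)⟦(1 : ℤ)⟧ ⟶ K, f = hS.singleδ ≫ g :=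
  Triangle.yoneda_exact₃ _ hS.singleTriangle_distinguished f hf

include hS in
/-- exactness at the first term -/
theorem exact_left {K : Dual.D A} (f : Dual.inD A S.X₁ ⟶ K)
    (hf : hS.singleδ ≫ f⟦(1 : ℤ)⟧' = 0) :
    ∃ g : Dual.inD A S.X₂ ⟶ K,
      f = (DerivedCategory.singleFunctor (ModuleCat.{u} A) 0).map S.f ≫ g := by
  have hT := rot_of_distTriang _ hS.singleTriangle_distinguished
  obtain ⟨g, hg⟩ : ∃ g : (Dual.inD A S.X₂)⟦(1 : ℤ)⟧ ⟶ K⟦(1 : ℤ)⟧,
      f⟦(1 : ℤ)⟧' = (-((DerivedCategory.singleFunctor (ModuleCat.{u} A) 0).map S.f)⟦(1 : ℤ)⟧') ≫ g :=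
    Triangle.yoneda_exact₃ _ hT (f⟦(1 : ℤ)⟧') hf
  obtain ⟨g₀, rfl⟩ := (shiftFunctor (DerivedCategory (ModuleCat.{u} A)) (1 : ℤ)).map_surjective g
  refine ⟨-g₀, ?_⟩
  apply (shiftFunctor (DerivedCategory (ModuleCat.{u} A)) (1 : ℤ)).map_injective
  rw [hg, Functor.map_comp, Functor.map_neg, Preadditive.neg_comp, Preadditive.comp_neg]

end LES


section Shifted

variable {S : ShortComplex (ModuleCat.{u} A)} (hS : S.ShortExact)

/-- the iso `W[j'] ≅ W[j][1]` -/
noncomputable def shIso (j j' : ℤ) (h : j + 1 = j') : W⟦j'⟧ ≅ (W⟦j⟧)⟦(1 : ℤ)⟧ :=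
  (shiftFunctorAdd' (Dual.D A) j 1 j' h).app W

/-- the connecting map `T^j(X₁) → T^{j+1}(X₃)` -/
noncomputable def conn (j j' : ℤ) (h : j + 1 = j') : T W j S.X₁ →ₗ[A] T W j' S.X₃ where
  toFun g := hS.singleδ ≫ g⟦(1 : ℤ)⟧' ≫ (shIso W j j' h).inv
  map_add' g g' := by
    rw [Functor.map_add, Preadditive.add_comp, Preadditive.comp_add]
  map_smul' a g := by
    rw [Functor.map_smul, Linear.smul_comp, Linear.comp_smul]
    rfl

theorem conn_apply (j j' : ℤ) (h : j + 1 = j') (g : T W j S.X₁) :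
    conn W hS j j' h g = hS.singleδ ≫ g⟦(1 : ℤ)⟧' ≫ (shIso W j j' h).inv := rfl

include hS in
/-- exactness at `T^{j+1}(X₃)`: the kernel of `T^{j+1}(X₃) → T^{j+1}(X₂)` is the image of `conn` -/
theorem mem_range_conn (j j' : ℤ) (h : j + 1 = j') (t : T W j' S.X₃)
    (ht : (DerivedCategory.singleFunctor (ModuleCat.{u} A) 0).map S.g ≫ t = 0) :
    t ∈ LinearMap.range (conn W hS j j' h) := by
  obtain ⟨g, hg⟩ := exact_right hS t ht
  obtain ⟨g₀, hg₀⟩ := (shiftFunctor (DerivedCategory (ModuleCat.{u} A)) (1 : ℤ)).map_surjective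
    (g ≫ (shIso W j j' h).hom)
  refine ⟨g₀, ?_⟩
  rw [conn_apply]
  change hS.singleδ ≫ (shiftFunctor (DerivedCategory (ModuleCat.{u} A)) (1 : ℤ)).map g₀ ≫ _ = t
  rw [hg₀, Category.assoc, Iso.hom_inv_id, Category.comp_id, hg]

include hS in
theorem subsingleton_mid (j : ℤ) (h₁ : Subsingleton (T W j S.X₁)) (h₃ : Subsingleton (T W j S.X₃)) :
    Subsingleton (T W j S.X₂) := by
  have key : ∀ f : T W j S.X₂, f = 0 := by
    intro f
    obtain ⟨g, hg⟩ := exact_mid hS f (Subsingleton.elim (α := T W j S.X₁) _ _)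
    rw [hg, Subsingleton.elim (α := T W j S.X₃) g 0, comp_zero]
  exact ⟨fun f g => by rw [key f, key g]⟩

include hS in
theorem subsingleton_right (j j' : ℤ) (h : j + 1 = j') (h₁ : Subsingleton (T W j S.X₁))
    (h₂ : Subsingleton (T W j' S.X₂)) : Subsingleton (T W j' S.X₃) := by
  have key : ∀ t : T W j' S.X₃, t = 0 := by
    intro t
    obtain ⟨g₀, hg₀⟩ := mem_range_conn W hS j j' h t (Subsingleton.elim (α := T W j' S.X₂) _ _)
    rw [← hg₀, Subsingleton.elim g₀ 0, map_zero]
  exact ⟨fun f g => by rw [key f, key g]⟩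

include hS in
/-- if `T^{j+1}(X₃) = 0` then every element of `T^j(X₁)` extends to `X₂` -/
theorem exists_extend (j j' : ℤ) (h : j + 1 = j') (h₃ : Subsingleton (T W j' S.X₃))
    (f : T W j S.X₁) :
    ∃ g : T W j S.X₂, f = (DerivedCategory.singleFunctor (ModuleCat.{u} A) 0).map S.f ≫ g := by
  apply exact_left hS f
  have h0 : conn W hS j j' h f = 0 := Subsingleton.elim _ _
  rw [conn_apply, ← Category.assoc] at h0
  have := congrArg (fun t => t ≫ (shIso W j j' h).hom) h0
  simpa using this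

include hS in
theorem subsingleton_left (j j' : ℤ) (h : j + 1 = j') (h₂ : Subsingleton (T W j S.X₂))
    (h₃ : Subsingleton (T W j' S.X₃)) : Subsingleton (T W j S.X₁) := by
  have key : ∀ f : T W j S.X₁, f = 0 := by
    intro f
    obtain ⟨g, hg⟩ := exists_extend W hS j j' h h₃ f
    rw [hg, Subsingleton.elim (α := T W j S.X₂) g 0, comp_zero]
  exact ⟨fun f g => by rw [key f, key g]⟩

end Shifted

end Groth.Agent.H2.DualCx
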