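import Mathlib
import Groth.Agent.H2.DualCx.LES
import Groth.Agent.H33.BrownGA.GenSingle

/-!
# `Hom_{D(A)}(A[0], K)` versus `H^0(K)`  (helper2)
-/

set_option autoImplicit false
set_option linter.unusedSectionVars false
set_option linter.style.haveILetI false

namespace Groth.Agent.H2.DualCx

universe u

open CategoryTheory CategoryTheory.Limits Pretriangulated DerivedCategory HomologicalComplex

attribute [local instance] HasDerivedCategory.standard

section General

variable {C : Type (u + 1)} [Category.{u} C] [Abelian C]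

/-- a chain map out of `P[0]`, `P` projective, inducing zero on `H^0`, is null-homotopic -/
theorem homotopy_zero_of_homologyMap_eq_zero (P : C) [Projective P] (L : CochainComplex C ℤ)
    (φ : (HomologicalComplex.single C (ComplexShape.up ℤ) 0).obj P ⟶ L)
    (h : HomologicalComplex.homologyMap φ 0 = 0) : Nonempty (Homotopy φ 0) := by
  let zc : P ⟶ L.cycles 0 :=
    (singleObjCyclesSelfIso (ComplexShape.up ℤ) 0 P).inv ≫ cyclesMap φ 0
  have hzc1 : zc ≫ L.homologyπ 0 = 0 := by
    dsimp only [zc]
    rw [Category.assoc, ← homologyπ_naturality, h, comp_zero, comp_zero]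
  have hzc2 : zc ≫ L.iCycles 0 = (singleObjXSelf (ComplexShape.up ℤ) 0 P).inv ≫ φ.f 0 := by
    dsimp only [zc]
    rw [Category.assoc, cyclesMap_i, singleObjCyclesSelfIso_inv_iCycles_assoc]
  -- lift through `toCycles`
  let S : ShortComplex C := ShortComplex.mk (L.toCycles (-1) 0) (L.homologyπ 0)
    (L.toCycles_comp_homologyπ (-1) 0)
  have hS : S.Exact :=
    ShortComplex.exact_of_g_is_cokernel S (L.homologyIsCokernel (-1) 0 (by simp))
  let y : P ⟶ L.X (-1) := hS.liftFromProjective zc hzc1
  have hy : y ≫ L.toCycles (-1) 0 = zc := hS.liftFromProjective_comp zc hzc1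
  have hy2 : y ≫ L.d (-1) 0 = (singleObjXSelf (ComplexShape.up ℤ) 0 P).inv ≫ φ.f 0 := by
    rw [← hzc2, ← hy, Category.assoc, toCycles_i]
  -- the homotopy
  let hh : ∀ i j : ℤ, (ComplexShape.up ℤ).Rel j i →
      (((HomologicalComplex.single C (ComplexShape.up ℤ) 0).obj P).X i ⟶ L.X j) := fun i j hij =>
    if hi : i = 0 then
      eqToHom (by rw [hi]) ≫ (singleObjXSelf (ComplexShape.up ℤ) 0 P).hom ≫ y ≫
        eqToHom (by
          have : j = -1 := by
            have h1 : j + 1 = i := hij
            omega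
          rw [this])
    else 0
  have hφ : φ = Homotopy.nullHomotopicMap' hh := by
    apply from_single_hom_ext
    rw [Homotopy.nullHomotopicMap'_f (k₂ := -1) (k₁ := 0) (k₀ := 1) (by simp) (by simp)]
    have h1 : ((HomologicalComplex.single C (ComplexShape.up ℤ) 0).obj P).d 0 1 = 0 :=
      single_obj_d _ _ _ _ _
    rw [h1, zero_comp, zero_add]
    dsimp only [hh]
    rw [dif_pos rfl]
    simp only [eqToHom_refl, Category.id_comp, Category.comp_id, Category.assoc]
    rw [hy2, Iso.hom_inv_id_assoc]
  rw [hφ]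
  exact ⟨Homotopy.nullHomotopy' hh⟩

/-- a morphism `P[0] ⟶ K` in `D(C)`, `P` projective, inducing zero on `H^0`, is zero -/
theorem eq_zero_of_homologyFunctor_map_eq_zero (P : C) [Projective P] (K : DerivedCategory C)
    (f : (DerivedCategory.singleFunctor C 0).obj P ⟶ K)
    (h : (DerivedCategory.homologyFunctor C 0).map f = 0) : f = 0 := by
  let L : CochainComplex C ℤ := DerivedCategory.Q.objPreimage K
  let e : DerivedCategory.Q.obj L ≅ K := DerivedCategory.Q.objObjPreimageIso K
  let P0 : CochainComplex C ℤ := (HomologicalComplex.single C (ComplexShape.up ℤ) 0).obj P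
  have : P0.IsKProjective := Groth.Agent.H33.BrownGA.isKProjective_single P
  let f' : DerivedCategory.Q.obj P0 ⟶ K := f
  have h' : (DerivedCategory.homologyFunctor C 0).map f' = 0 := h
  obtain ⟨φ, hφ⟩ := Groth.Agent.H33.BrownGA.exists_Q_map_eq_of_isKProjective P0 L (f' ≫ e.inv)
  have h1 : (DerivedCategory.homologyFunctor C 0).map (DerivedCategory.Q.map φ) = 0 := by
    rw [hφ, Functor.map_comp, h', zero_comp]
  have h2 : HomologicalComplex.homologyMap φ 0 = 0 := by
    have nat := (DerivedCategory.homologyFunctorFactors C 0).hom.naturality φ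
    dsimp at nat
    rw [h1, zero_comp] at nat
    have h3 : (DerivedCategory.homologyFunctorFactors C 0).hom.app P0 ≫
        HomologicalComplex.homologyMap φ 0 =
        (DerivedCategory.homologyFunctorFactors C 0).hom.app P0 ≫ 0 := by
      rw [comp_zero]
      exact nat.symm
    exact (Iso.cancel_iso_hom_left ((DerivedCategory.homologyFunctorFactors C 0).app P0) _ _).mp h3
  obtain ⟨H⟩ := homotopy_zero_of_homologyMap_eq_zero P L φ h2
  have h3 : (HomotopyCategory.quotient C (ComplexShape.up ℤ)).map φ =
      (HomotopyCategory.quotient C (ComplexShape.up ℤ)).map 0 := HomotopyCategory.eq_of_homotopy _ _ H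
  have h4 : DerivedCategory.Q.map φ = 0 := by
    have hq : ∀ g : P0 ⟶ L, DerivedCategory.Q.map g =
        (DerivedCategory.quotientCompQhIso C).inv.app P0 ≫
        DerivedCategory.Qh.map ((HomotopyCategory.quotient C (ComplexShape.up ℤ)).map g) ≫
        (DerivedCategory.quotientCompQhIso C).hom.app L := by
      intro g
      have := (DerivedCategory.quotientCompQhIso C).hom.naturality g
      dsimp at this
      rw [this, Iso.inv_hom_id_app_assoc]
    rw [hq φ, h3, Functor.map_zero, Functor.map_zero, zero_comp, comp_zero]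
  rw [h4] at hφ
  have h5 : f' = 0 := by
    have := congrArg (fun t => t ≫ e.hom) hφ
    simpa using this.symm
  exact h5

end General


section Mod

variable {A : Type u} [CommRing A]

/-- the morphism `A ⟶ H^0(K)` attached to `f : A[0] ⟶ K` -/
noncomputable def Φ₀ (K : Dual.D A) (f : Dual.inD A A ⟶ K) :
    ModuleCat.of A A ⟶ (DerivedCategory.homologyFunctor (ModuleCat.{u} A) 0).obj K :=
  (DerivedCategory.singleFunctorCompHomologyFunctorIso (ModuleCat.{u} A) 0).inv.app
      (ModuleCat.of A A) ≫
    (DerivedCategory.homologyFunctor (ModuleCat.{u} A) 0).map f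

theorem Φ₀_add (K : Dual.D A) (f g : Dual.inD A A ⟶ K) : Φ₀ K (f + g) = Φ₀ K f + Φ₀ K g := by
  unfold Φ₀
  rw [Functor.map_add, Preadditive.comp_add]

theorem Φ₀_smul (K : Dual.D A) (a : A) (f : Dual.inD A A ⟶ K) :
    Φ₀ K (a • f) = ModuleCat.ofHom (a • (LinearMap.id : A →ₗ[A] A)) ≫ Φ₀ K f := by
  have h1 : a • f = sg (a • (LinearMap.id : A →ₗ[A] A)) ≫ f := by
    rw [sg_smul, sg_id, Linear.smul_comp, Category.id_comp]
  unfold Φ₀
  rw [h1, Functor.map_comp]
  have nat := (DerivedCategory.singleFunctorCompHomologyFunctorIso (ModuleCat.{u} A) 0).inv.naturality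
    (ModuleCat.ofHom (a • (LinearMap.id : A →ₗ[A] A)))
  dsimp at nat
  unfold sg
  rw [← Category.assoc, ← nat, Category.assoc]

theorem Φ₀_injective (K : Dual.D A) : Function.Injective (Φ₀ K) := by
  intro f g hfg
  have h0 : Φ₀ K (f - g) = 0 := by
    have : f = (f - g) + g := by abel
    have h1 := Φ₀_add K (f - g) g
    rw [← this, hfg] at h1
    exact add_eq_right.mp h1.symm
  have h2 : (DerivedCategory.homologyFunctor (ModuleCat.{u} A) 0).map (f - g) = 0 := by
    unfold Φ₀ at h0
    have := congrArg (fun t =>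
      (DerivedCategory.singleFunctorCompHomologyFunctorIso (ModuleCat.{u} A) 0).hom.app
        (ModuleCat.of A A) ≫ t) h0
    simpa using this
  haveI : Projective (ModuleCat.of A A) := (IsProjective.iff_projective _).mp inferInstance
  have := eq_zero_of_homologyFunctor_map_eq_zero (ModuleCat.of A A) K (f - g) h2
  exact sub_eq_zero.mp this

/-- the injective linear map `Hom(A[0], K) → H^0(K)` -/
noncomputable def Ψ₀ (K : Dual.D A) :
    (Dual.inD A A ⟶ K) →ₗ[A] ((DerivedCategory.homologyFunctor (ModuleCat.{u} A) 0).obj K) where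
  toFun f := (Φ₀ K f).hom (1 : A)
  map_add' f g := by rw [Φ₀_add]; rfl
  map_smul' a f := by
    rw [Φ₀_smul]
    change (Φ₀ K f).hom (a • (1 : A)) = a • (Φ₀ K f).hom (1 : A)
    rw [map_smul]

theorem Ψ₀_injective (K : Dual.D A) : Function.Injective (Ψ₀ K) := by
  intro f g hfg
  apply Φ₀_injective K
  apply ModuleCat.hom_ext
  apply LinearMap.ext_ring
  exact hfg

variable (W : Dual.D A)

/-- `H^0(W[j]) ≃ H^j(W)` -/
noncomputable def shiftEquiv (j : ℤ) :
    ((DerivedCategory.homologyFunctor (ModuleCat.{u} A) 0).obj (W⟦j⟧)) ≃ₗ[A] Dual.HD A W j :=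
  (((DerivedCategory.homologyFunctor (ModuleCat.{u} A) 0).shiftIso j 0 j (by simp)).app W).toLinearEquiv

/-- the injective linear map `T^j(A) → H^j(W)` -/
noncomputable def Ψ (j : ℤ) : T W j A →ₗ[A] Dual.HD A W j :=
  (shiftEquiv W j).toLinearMap ∘ₗ Ψ₀ (W⟦j⟧)

theorem Ψ_injective (j : ℤ) : Function.Injective (Ψ W j) :=
  (shiftEquiv W j).injective.comp (Ψ₀_injective (W⟦j⟧))

theorem finite_T_self [IsNoetherianRing A] (j : ℤ) (h : Module.Finite A (Dual.HD A W j)) :
    Module.Finite A (T W j A) :=
  Module.Finite.of_injective (Ψ W j) (Ψ_injective W j)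

theorem isSeparator_self : IsSeparator (ModuleCat.of A A) := by
  rw [isSeparator_def]
  intro X Y f g h
  apply ModuleCat.hom_ext
  apply LinearMap.ext
  intro x
  have := h (ModuleCat.ofHom (LinearMap.toSpanSingleton A X x))
  have h2 := congrArg (fun t => t.hom (1 : A)) this
  simpa using h2

theorem subsingleton_T_self_iff (j : ℤ) :
    Subsingleton (T W j A) ↔ Subsingleton (Dual.HD A W j) := by
  constructor
  · intro h
    haveI : Projective (ModuleCat.of A A) := (IsProjective.iff_projective _).mp inferInstance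
    have h0 := Groth.Agent.H33.BrownGA.isZero_homology_zero_of_hom_eq_zero (ModuleCat.of A A)
      isSeparator_self (W⟦j⟧) (fun f => Subsingleton.elim (α := T W j A) f 0)
    have h1 : Subsingleton ((DerivedCategory.homologyFunctor (ModuleCat.{u} A) 0).obj (W⟦j⟧)) :=
      ModuleCat.subsingleton_of_isZero h0
    exact (shiftEquiv W j).symm.toEquiv.subsingleton
  · intro h
    exact (Ψ_injective W j).subsingleton

end Mod

end Groth.Agent.H2.DualCx
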