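import Mathlib
import Groth.Agent.H2.DualCx.Single

/-!
# Finiteness of `T^j(M) = Hom_{D(A)}(M[0], W[j])` for finite `M`  (helper2)
-/

set_option autoImplicit false
set_option linter.unusedSectionVars false
set_option linter.style.haveILetI false

namespace Groth.Agent.H2.DualCx

universe u v w

open CategoryTheory CategoryTheory.Limits Pretriangulated DerivedCategory

attribute [local instance] HasDerivedCategory.standard

/-- the middle term of a (half) exact sequence with finite ends is finite -/
theorem finite_of_ker_le_range {A : Type u} [CommRing A] [IsNoetherianRing A] {X : Type v}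
    {Y : Type v} {Z : Type v}
    [AddCommGroup X] [Module A X] [AddCommGroup Y] [Module A Y] [AddCommGroup Z] [Module A Z]
    (f : X →ₗ[A] Y) (g : Y →ₗ[A] Z) (h : LinearMap.ker g ≤ LinearMap.range f)
    [Module.Finite A X] [Module.Finite A Z] : Module.Finite A Y := by
  haveI : IsNoetherian A Z := isNoetherian_of_isNoetherianRing_of_finite A Z
  haveI : Module.Finite A (LinearMap.range f) := Module.Finite.range f
  haveI : IsNoetherian A (LinearMap.range f) := isNoetherian_of_isNoetherianRing_of_finite A _
  rw [Module.finite_def]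
  apply Submodule.fg_of_fg_map_of_fg_inf_ker g
  · exact IsNoetherian.noetherian _
  · rw [top_inf_eq]
    have hsub : (Submodule.comap (LinearMap.range f).subtype (LinearMap.ker g)).FG :=
      IsNoetherian.noetherian _
    have := hsub.map (LinearMap.range f).subtype
    rwa [Submodule.map_comap_subtype, inf_of_le_right h] at this

variable {A : Type u} [CommRing A] [IsNoetherianRing A] (W : Dual.D A)

section SES

variable {N₁ N₂ N₃ : Type u} [AddCommGroup N₁] [Module A N₁] [AddCommGroup N₂] [Module A N₂]
  [AddCommGroup N₃] [Module A N₃] (f : N₁ →ₗ[A] N₂) (g : N₂ →ₗ[A] N₃)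

theorem sc_zero (hfg : Function.Exact f g) : ModuleCat.ofHom f ≫ ModuleCat.ofHom g = 0 := by
  ext x
  exact hfg.apply_apply_eq_zero x

/-- the short complex of a short exact sequence of modules -/
noncomputable abbrev sc (hfg : Function.Exact f g) : ShortComplex (ModuleCat.{u} A) :=
  ShortComplex.mk (ModuleCat.ofHom f) (ModuleCat.ofHom g) (sc_zero f g hfg)

theorem sc_shortExact (hf : Function.Injective f) (hg : Function.Surjective g)
    (hfg : Function.Exact f g) : (sc f g hfg).ShortExact :=
  ModuleCat.shortComplex_shortExact _ hfg hf hg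

theorem ker_precomp_le_range (hf : Function.Injective f) (hg : Function.Surjective g)
    (hfg : Function.Exact f g) (j : ℤ) :
    LinearMap.ker (precomp W j f) ≤ LinearMap.range (precomp W j g) := by
  intro t ht
  rw [LinearMap.mem_ker, precomp_apply] at ht
  obtain ⟨s, hs⟩ := exact_mid (sc_shortExact f g hf hg hfg) t ht
  exact ⟨s, hs.symm⟩

theorem ker_precomp_le_range_conn (hf : Function.Injective f) (hg : Function.Surjective g)
    (hfg : Function.Exact f g) (j j' : ℤ) (h : j + 1 = j') :
    LinearMap.ker (precomp W j' g) ≤
      LinearMap.range (conn W (sc_shortExact f g hf hg hfg) j j' h) := by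
  intro t ht
  rw [LinearMap.mem_ker, precomp_apply] at ht
  exact mem_range_conn W (sc_shortExact f g hf hg hfg) j j' h t ht

end SES

/-- finiteness of `T^j(M)` for all finite `M`, by induction on `j` -/
theorem finite_T_aux (a : ℤ)
    (hlow : ∀ (M : Type u) [AddCommGroup M] [Module A M] (i : ℤ), i < a → Subsingleton (T W i M))
    (hfin : ∀ i : ℤ, Module.Finite A (Dual.HD A W i)) (k : ℕ) :
    ∀ (M : Type u) [AddCommGroup M] [Module A M] [Module.Finite A M],
      Module.Finite A (T W (a - 1 + k) M) := by
  induction k with
  | zero =>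
    intro M _ _ _
    haveI := hlow M (a - 1 + (0 : ℕ)) (by simp)
    infer_instance
  | succ k ih =>
    intro M _ _ hM
    have hj : (a - 1 + (k : ℤ)) + 1 = a - 1 + ((k + 1 : ℕ) : ℤ) := by push_cast; ring
    induction hM using IsNoetherianRing.induction_on_isQuotientEquivQuotientPrime A with
    | subsingleton N =>
      haveI := subsingleton_of_subsingleton W (M := N) (a - 1 + ((k + 1 : ℕ) : ℤ))
      infer_instance
    | quotient N p e =>
      -- `0 → p → A → A/p → 0`
      have hf : Function.Injective (p.1.subtype : p.1 →ₗ[A] A) := Submodule.injective_subtype _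
      have hg : Function.Surjective (Submodule.mkQ p.1 : A →ₗ[A] A ⧸ p.1) :=
        Submodule.mkQ_surjective _
      have hfg : Function.Exact (p.1.subtype : p.1 →ₗ[A] A) (Submodule.mkQ p.1) :=
        LinearMap.exact_subtype_mkQ p.1
      haveI : Module.Finite A p.1 := Module.Finite.of_fg (IsNoetherian.noetherian p.1)
      haveI := ih p.1
      haveI := finite_T_self W (a - 1 + ((k + 1 : ℕ) : ℤ)) (hfin _)
      have h1 : Module.Finite A (T W (a - 1 + ((k + 1 : ℕ) : ℤ)) (A ⧸ p.1)) :=
        finite_of_ker_le_range _ _
          (ker_precomp_le_range_conn W p.1.subtype (Submodule.mkQ p.1) hf hg hfg _ _ hj)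
      exact Module.Finite.equiv (congr W _ e)
    | exact N₁ N₂ N₃ f g hf hg hfg h₁ h₃ =>
      exact finite_of_ker_le_range _ _ (ker_precomp_le_range W f g hf hg hfg _)

theorem finite_T (a : ℤ)
    (hlow : ∀ (M : Type u) [AddCommGroup M] [Module A M] (i : ℤ), i < a → Subsingleton (T W i M))
    (hfin : ∀ i : ℤ, Module.Finite A (Dual.HD A W i)) (j : ℤ)
    (M : Type u) [AddCommGroup M] [Module A M] [Module.Finite A M] :
    Module.Finite A (T W j M) := by
  by_cases hj : j < a
  · haveI := hlow M j hj
    infer_instance
  · push Not at hj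
    obtain ⟨k, hk⟩ := Int.eq_ofNat_of_zero_le (by omega : 0 ≤ j - (a - 1))
    have : j = a - 1 + k := by omega
    rw [this]
    exact finite_T_aux W a hlow hfin k M

end Groth.Agent.H2.DualCx
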