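import Mathlib
import Groth.Agent.H2.DualCx.Finite
import Groth.Agent.H2.CdTop
import Groth.Agent.H58.LCDepth

/-!
# Vanishing of `T^j(M) = Hom_{D(A)}(M[0], ω[j])` over a local ring  (helper2)
-/

set_option autoImplicit false
set_option linter.unusedSectionVars false
set_option linter.style.haveILetI false

namespace Groth.Agent.H2.DualCx

universe u

open CategoryTheory CategoryTheory.Limits Pretriangulated DerivedCategory IsLocalRing

attribute [local instance] HasDerivedCategory.standard

variable {A : Type u} [CommRing A] [IsNoetherianRing A] [IsLocalRing A] (W : Dual.D A)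

/-- `T^j(M)` is finite for all `j` and all finite `M` -/
def FinT : Prop :=
  ∀ (j : ℤ) (M : Type u) [AddCommGroup M] [Module A M] [Module.Finite A M],
    Module.Finite A (T W j M)

variable {W}

/-- **Nakayama step**: if `x ∈ 𝔪` is `M`-regular and `T^{j+1}(M/xM) = 0` then `T^j(M) = 0`. -/
theorem subsingleton_of_regular (hfin : FinT W) (M : Type u) [AddCommGroup M] [Module A M]
    [Module.Finite A M] (x : A) (hx : x ∈ maximalIdeal A) (hreg : IsSMulRegular M x) (j j' : ℤ)
    (h : j + 1 = j') (h' : Subsingleton (T W j' (QuotSMulTop x M))) :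
    Subsingleton (T W j M) := by
  have hS := Groth.Agent.H58.LC.shortExact_smul (R := A) M hreg
  haveI := hfin j M
  have hle : (⊤ : Submodule A (T W j M)) ≤ maximalIdeal A • (⊤ : Submodule A (T W j M)) := by
    intro t _
    obtain ⟨g, hg⟩ : ∃ g : T W j M, t = sg (LinearMap.lsmul A M x) ≫ g :=
      exists_extend W hS j j' h h' t
    have h1 : t = x • g := by
      rw [hg]
      have : LinearMap.lsmul A M x = x • (LinearMap.id : M →ₗ[A] M) := by
        ext m
        simp
      rw [this, sg_smul, sg_id, Linear.smul_comp, Category.id_comp]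
    rw [h1]
    exact Submodule.smul_mem_smul hx trivial
  have hbot := Submodule.eq_bot_of_le_smul_of_le_jacobson_bot (maximalIdeal A)
    (⊤ : Submodule A (T W j M)) (Module.finite_def.mp inferInstance) hle
    (IsLocalRing.maximalIdeal_le_jacobson _)
  exact ⟨fun a b => by
    rw [(Submodule.eq_bot_iff _).mp hbot a trivial, (Submodule.eq_bot_iff _).mp hbot b trivial]⟩


/-- propagation of vanishing along prime filtrations of modules killed by `I` -/
theorem subsingleton_of_killed (I : Ideal A) (J : ℤ → Prop)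
    (hq : ∀ q : Ideal A, q.IsPrime → I ≤ q → ∀ j, J j → Subsingleton (T W j (A ⧸ q)))
    (N : Type u) [AddCommGroup N] [Module A N] [hN : Module.Finite A N]
    (hkill : ∀ a ∈ I, ∀ n : N, a • n = 0) : ∀ j, J j → Subsingleton (T W j N) := by
  induction hN using IsNoetherianRing.induction_on_isQuotientEquivQuotientPrime A with
  | subsingleton N =>
    intro j _
    exact subsingleton_of_subsingleton W j
  | quotient N p e =>
    intro j hj
    have hIp : I ≤ p.1 := by
      intro a ha
      have h1 := hkill a ha (e.symm (Submodule.Quotient.mk 1))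
      rw [← map_smul, LinearEquiv.map_eq_zero_iff] at h1
      have h2 : (Submodule.Quotient.mk (a • (1 : A)) : A ⧸ p.1) = 0 := h1
      rw [Submodule.Quotient.mk_eq_zero, smul_eq_mul, mul_one] at h2
      exact h2
    haveI := hq p.1 p.2 hIp j hj
    exact (congr W j e).symm.toEquiv.subsingleton
  | exact N₁ N₂ N₃ f g hf hg hfg h₁ h₃ =>
    intro j hj
    have hk1 : ∀ a ∈ I, ∀ n : N₁, a • n = 0 := by
      intro a ha n
      apply hf
      rw [map_smul, hkill a ha, map_zero]
    have hk3 : ∀ a ∈ I, ∀ n : N₃, a • n = 0 := by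
      intro a ha n
      obtain ⟨n₂, rfl⟩ := hg n
      rw [← map_smul, hkill a ha, map_zero]
    exact subsingleton_mid W (sc_shortExact f g hf hg hfg) j (h₁ hk1 j hj) (h₃ hk3 j hj)

/-- for a prime `p ≠ 𝔪` there is `x ∈ 𝔪 ∖ p`; it is regular on `A/p` and `(A/p)/x` is killed by
`p + (x)` -/
theorem exists_regular_of_ne (p : Ideal A) [hp : p.IsPrime] (hpm : p ≠ maximalIdeal A) :
    ∃ x ∈ maximalIdeal A, x ∉ p ∧ IsSMulRegular (A ⧸ p) x ∧
      ∀ a ∈ p ⊔ Ideal.span {x}, ∀ n : QuotSMulTop x (A ⧸ p), a • n = 0 := by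
  have hle : p ≤ maximalIdeal A := IsLocalRing.le_maximalIdeal hp.ne_top
  have hnle : ¬ maximalIdeal A ≤ p := fun h => hpm (le_antisymm hle h)
  obtain ⟨x, hxm, hxp⟩ := SetLike.not_le_iff_exists.mp hnle
  refine ⟨x, hxm, hxp, ?_, ?_⟩
  · intro y z hyz
    obtain ⟨y, rfl⟩ := Ideal.Quotient.mk_surjective y
    obtain ⟨z, rfl⟩ := Ideal.Quotient.mk_surjective z
    have h1 : (Ideal.Quotient.mk p (x * y)) = Ideal.Quotient.mk p (x * z) := hyz
    rw [Ideal.Quotient.eq, ← mul_sub] at h1
    rw [Ideal.Quotient.eq]
    exact (hp.mem_or_mem h1).resolve_left hxp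
  · intro a ha n
    obtain ⟨n, rfl⟩ := Submodule.Quotient.mk_surjective _ n
    obtain ⟨b, rfl⟩ := Ideal.Quotient.mk_surjective n
    obtain ⟨a₁, ha₁, a₂, ha₂, rfl⟩ := Submodule.mem_sup.mp ha
    obtain ⟨r, rfl⟩ := Ideal.mem_span_singleton'.mp ha₂
    rw [← Submodule.Quotient.mk_smul, Submodule.Quotient.mk_eq_zero]
    have h1 : (a₁ + r * x) • (Ideal.Quotient.mk p b) = x • (Ideal.Quotient.mk p (r * b)) := by
      change Ideal.Quotient.mk p ((a₁ + r * x) * b) = Ideal.Quotient.mk p (x * (r * b))
      rw [Ideal.Quotient.eq]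
      have : (a₁ + r * x) * b - x * (r * b) = a₁ * b := by ring
      rw [this]
      exact p.mul_mem_right _ ha₁
    rw [h1]
    exact Submodule.smul_mem_pointwise_smul _ x ⊤ trivial

/-- **upward vanishing** on the quotients `A/p` -/
theorem up (hfin : FinT W) (j₀ : ℤ)
    (hκ : ∀ j, j₀ ≤ j → Subsingleton (T W j (A ⧸ maximalIdeal A))) :
    ∀ p : Ideal A, p.IsPrime → (∀ j, j₀ ≤ j → Subsingleton (T W j (A ⧸ p))) ∧
      (p ≠ maximalIdeal A → Subsingleton (T W (j₀ - 1) (A ⧸ p))) := by
  intro p
  induction p using WellFoundedGT.induction with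
  | ind p ih =>
    intro hp
    by_cases hpm : p = maximalIdeal A
    · subst hpm
      exact ⟨hκ, fun h => absurd rfl h⟩
    · obtain ⟨x, hxm, hxp, hreg, hkill⟩ := exists_regular_of_ne p hpm
      have hM' : ∀ j, j₀ ≤ j → Subsingleton (T W j (QuotSMulTop x (A ⧸ p))) := by
        apply subsingleton_of_killed (p ⊔ Ideal.span {x}) (fun j => j₀ ≤ j) _ _ hkill
        intro q hq hIq j hj
        have hpq : p < q := by
          refine lt_of_le_of_ne (le_sup_left.trans hIq) ?_
          rintro rfl
          exact hxp (hIq (Ideal.mem_sup_right (Ideal.mem_span_singleton_self x)))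
        exact (ih q hpq hq).1 j hj
      have key : ∀ j, j₀ - 1 ≤ j → Subsingleton (T W j (A ⧸ p)) := by
        intro j hj
        exact subsingleton_of_regular hfin (A ⧸ p) x hxm hreg j (j + 1) rfl (hM' (j + 1) (by omega))
      exact ⟨fun j hj => key j (by omega), fun _ => key (j₀ - 1) le_rfl⟩

/-- **upward vanishing** for all finite modules -/
theorem up_all (hfin : FinT W) (j₀ : ℤ)
    (hκ : ∀ j, j₀ ≤ j → Subsingleton (T W j (A ⧸ maximalIdeal A)))
    (N : Type u) [AddCommGroup N] [Module A N] [Module.Finite A N] (j : ℤ) (hj : j₀ ≤ j) :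
    Subsingleton (T W j N) := by
  apply subsingleton_of_killed (⊥ : Ideal A) (fun j => j₀ ≤ j) _ N _ j hj
  · intro q hq _ j hj
    exact (up hfin j₀ hκ q hq).1 j hj
  · intro a ha n
    rw [Ideal.mem_bot.mp ha, zero_smul]

/-- **downward vanishing** on the quotients `A/p` -/
theorem down (hfin : FinT W)
    (hκ : ∀ j : ℤ, j < 0 → Subsingleton (T W j (A ⧸ maximalIdeal A))) :
    ∀ p : Ideal A, p.IsPrime → ∀ e : ℕ, ringKrullDim (A ⧸ p) ≤ e → ∀ j : ℤ, j < -(e : ℤ) →
      Subsingleton (T W j (A ⧸ p)) := by
  intro p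
  induction p using WellFoundedGT.induction with
  | ind p ih =>
    intro hp e he j hj
    by_cases hpm : p = maximalIdeal A
    · subst hpm
      exact hκ j (by omega)
    · obtain ⟨x, hxm, hxp, hreg, hkill⟩ := exists_regular_of_ne p hpm
      have hM' : ∀ j : ℤ, j + e ≤ 0 → Subsingleton (T W j (QuotSMulTop x (A ⧸ p))) := by
        apply subsingleton_of_killed (p ⊔ Ideal.span {x}) (fun j : ℤ => j + e ≤ 0) _ _ hkill
        intro q hq hIq j hj
        have hpq : p < q := by
          refine lt_of_le_of_ne (le_sup_left.trans hIq) ?_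
          rintro rfl
          exact hxp (hIq (Ideal.mem_sup_right (Ideal.mem_span_singleton_self x)))
        have hlt := Groth.Agent.H2.CdTop.ringKrullDim_quotient_lt_of_lt p q hpq e he
        haveI : Nontrivial (A ⧸ q) := Ideal.Quotient.nontrivial_iff.mpr hq.ne_top
        have h0 : (0 : WithBot ℕ∞) ≤ ringKrullDim (A ⧸ q) := ringKrullDim_nonneg_of_nontrivial
        have hpos : 0 < e := by
          have := lt_of_le_of_lt h0 hlt
          exact_mod_cast this
        have hle' : ringKrullDim (A ⧸ q) ≤ ((e - 1 : ℕ) : WithBot ℕ∞) := by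
          cases hk : ringKrullDim (A ⧸ q) with
          | bot => exact bot_le
          | coe v =>
            rw [hk] at hlt
            cases v with
            | top =>
              exfalso
              have h2 : ((⊤ : ℕ∞) : WithBot ℕ∞) < ((e : ℕ∞) : WithBot ℕ∞) := hlt
              rw [WithBot.coe_lt_coe] at h2
              exact absurd h2 (by simp)
            | coe k =>
              have h2 : ((k : ℕ∞) : WithBot ℕ∞) < ((e : ℕ∞) : WithBot ℕ∞) := hlt
              rw [WithBot.coe_lt_coe] at h2
              have h3 : k < e := by exact_mod_cast h2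
              have h4 : k ≤ e - 1 := by omega
              have h5 : ((k : ℕ∞) : WithBot ℕ∞) ≤ (((e - 1 : ℕ) : ℕ∞) : WithBot ℕ∞) := by
                rw [WithBot.coe_le_coe]
                exact_mod_cast h4
              exact h5
        refine ih q hpq hq (e - 1) hle' j ?_
        have : ((e - 1 : ℕ) : ℤ) = (e : ℤ) - 1 := by omega
        rw [this]
        omega
      exact subsingleton_of_regular hfin (A ⧸ p) x hxm hreg j (j + 1) rfl (hM' (j + 1) (by omega))

/-- **downward vanishing** for all finite modules -/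
theorem down_all (hfin : FinT W)
    (hκ : ∀ j : ℤ, j < 0 → Subsingleton (T W j (A ⧸ maximalIdeal A)))
    (N : Type u) [AddCommGroup N] [Module A N] [Module.Finite A N] (d : ℕ)
    (hd : Module.supportDim A N ≤ d) (j : ℤ) (hj : j < -(d : ℤ)) : Subsingleton (T W j N) := by
  apply subsingleton_of_killed (Module.annihilator A N) (fun j : ℤ => j < -(d : ℤ)) _ N _ j hj
  · intro q hq hle j hj
    refine down hfin hκ q hq d ?_ j hj
    rw [Module.supportDim_eq_ringKrullDim_quotient_annihilator] at hd
    refine le_trans ?_ hd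
    exact ringKrullDim_le_of_surjective (Ideal.Quotient.factor hle)
      (Ideal.Quotient.factor_surjective hle)
  · intro a ha n
    exact Module.mem_annihilator.mp ha n

end Groth.Agent.H2.DualCx
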