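import Mathlib
import Groth.Agent.H2.DualCx.Vanish
import Groth.Agent.H72.DepthFlat
import Groth.Agent.H2.LCDepthNonvanish

/-!
# Depth via a normalized dualizing complex  (helper2)
-/

set_option autoImplicit false
set_option linter.unusedSectionVars false
set_option linter.style.haveILetI false

namespace Groth.Agent.H2.DualCx

universe u

open CategoryTheory CategoryTheory.Limits Pretriangulated DerivedCategory IsLocalRing

attribute [local instance] HasDerivedCategory.standard

variable {A : Type u} [CommRing A] [IsNoetherianRing A] [IsLocalRing A]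

/-- the properties of a normalized dualizing complex used below -/
structure Norm (ω : Dual.D A) : Prop where
  finT : FinT ω
  kappa : ∀ j : ℤ, j ≠ 0 → Subsingleton (T ω j (A ⧸ maximalIdeal A))
  kappa0 : Nontrivial (T ω 0 (A ⧸ maximalIdeal A))

/-- `A/𝔪 ≃ κ` -/
noncomputable def quotEquivResidue : (A ⧸ maximalIdeal A) ≃ₗ[A] ResidueField A :=
  LinearEquiv.refl A _

theorem finT_of_isDualizing {ω : Dual.D A} (hω : Dual.IsDualizing A ω) : FinT ω := by
  obtain ⟨a, b, hab⟩ := hω.finite_injective_dimension
  intro j M _ _ _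
  exact finite_T ω a (fun M _ _ i hi => hab M i (Or.inl hi)) hω.finite_cohomology j M

theorem norm_of_isDualizing {ω : Dual.D A} (hω : Dual.IsDualizing A ω)
    (hn : Dual.IsNormalized A ω) : Norm ω := by
  have hfin := finT_of_isDualizing hω
  have hκ : ∀ j : ℤ, j ≠ 0 → Subsingleton (T ω j (A ⧸ maximalIdeal A)) := by
    intro j hj
    haveI := hn j hj
    exact (congr ω j (quotEquivResidue (A := A)).symm).toEquiv.subsingleton
  refine ⟨hfin, hκ, ?_⟩
  by_contra hcon
  rw [not_nontrivial_iff_subsingleton] at hcon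
  have hall : ∀ j : ℤ, Subsingleton (T ω j (A ⧸ maximalIdeal A)) := by
    intro j
    by_cases hj : j = 0
    · subst hj; exact hcon
    · exact hκ j hj
  have hA : ∀ j : ℤ, Subsingleton (T ω j A) := fun j =>
    up_all hfin j (fun j' _ => hall j') A j le_rfl
  have hH : ∀ j : ℤ, IsZero ((DerivedCategory.homologyFunctor (ModuleCat.{u} A) j).obj ω) := by
    intro j
    haveI : Subsingleton (Dual.HD A ω j) := (subsingleton_T_self_iff ω j).mp (hA j)
    exact ModuleCat.isZero_of_subsingleton _
  have hz : IsZero ω := Groth.Agent.H33.BrownGA.isZero_of_isZero_homology ω hH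
  have h1 : (1 : A) • 𝟙 ω = (0 : A) • 𝟙 ω := hz.eq_of_src _ _
  exact one_ne_zero (hω.toEnd_bijective.1 h1)


section DepthThm

variable {ω : Dual.D A} (hN : Norm ω)

include hN in
/-- `T^j(M) = 0` for `j > 0` -/
theorem pos_vanish (M : Type u) [AddCommGroup M] [Module A M] [Module.Finite A M] (j : ℤ)
    (hj : 0 < j) : Subsingleton (T ω j M) :=
  up_all hN.finT 1 (fun j' hj' => hN.kappa j' (by omega)) M j (by omega)

include hN in
/-- depth zero ⇒ `T^0(M) ≠ 0` -/
theorem nontrivial_of_depth_zero (M : Type u) [AddCommGroup M] [Module A M] [Module.Finite A M]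
    (h : LocCoh.depth A M = 0) : Nontrivial (T ω 0 M) := by
  obtain ⟨t, ht0, hkill⟩ :=
    Groth.Agent.H72.DepthFlat.exists_killed_of_idealDepth_eq_zero (maximalIdeal A) M h
  have hker : LinearMap.ker (LinearMap.toSpanSingleton A M t) = maximalIdeal A := by
    symm
    apply (IsLocalRing.maximalIdeal.isMaximal A).eq_of_le
    · intro htop
      apply ht0
      have : (1 : A) ∈ LinearMap.ker (LinearMap.toSpanSingleton A M t) := by
        rw [htop]; trivial
      simpa using this
    · intro a ha
      rw [LinearMap.mem_ker, LinearMap.toSpanSingleton_apply]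
      exact hkill a ha
  let ι : (A ⧸ maximalIdeal A) →ₗ[A] M :=
    Submodule.liftQ (maximalIdeal A) (LinearMap.toSpanSingleton A M t) (le_of_eq hker.symm)
  have hι : Function.Injective ι := by
    rw [← LinearMap.ker_eq_bot]
    change LinearMap.ker (Submodule.liftQ _ _ _) = ⊥
    rw [Submodule.ker_liftQ, hker, Submodule.mkQ_map_self]
  have hS := sc_shortExact ι (LinearMap.range ι).mkQ hι (Submodule.mkQ_surjective _)
    (LinearMap.exact_map_mkQ_range ι)
  by_contra hcon
  rw [not_nontrivial_iff_subsingleton] at hcon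
  have h1 : Subsingleton (T ω 1 (M ⧸ LinearMap.range ι)) := pos_vanish hN _ 1 one_pos
  have h2 : Subsingleton (T ω 0 (A ⧸ maximalIdeal A)) :=
    subsingleton_left ω hS 0 1 rfl hcon h1
  exact (not_nontrivial_iff_subsingleton.mpr h2) hN.kappa0

end DepthThm


section DepthThm2

variable {ω : Dual.D A} (hN : Norm ω)

include hN in
/-- `T^{-δ}(M) = 0` for `δ < depth M` -/
theorem vanish_of_le_depth (n : ℕ) : ∀ (M : Type u) [AddCommGroup M] [Module A M]
    [Module.Finite A M] [Nontrivial M], (n : ℕ∞) ≤ LocCoh.depth A M →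
    ∀ δ : ℕ, δ < n → Subsingleton (T ω (-(δ : ℤ)) M) := by
  induction n with
  | zero =>
    intro M _ _ _ _ _ δ hδ
    omega
  | succ n ih =>
    intro M _ _ _ _ hd δ hδ
    have hne : maximalIdeal A • (⊤ : Submodule A M) ≠ ⊤ :=
      Groth.Agent.H72.DepthFlat.smul_top_ne_top_of_nontrivial M
    obtain ⟨x, hxm, hreg⟩ :=
      Groth.Agent.H72.DepthFinite.exists_isSMulRegular_of_one_le_idealDepth (maximalIdeal A) M hne n hd
    have hne' : maximalIdeal A • (⊤ : Submodule A (QuotSMulTop x M)) ≠ ⊤ :=
      Groth.Agent.H15.smul_top_quotSMulTop_ne_top hxm hne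
    haveI : Nontrivial (QuotSMulTop x M) := by
      by_contra hcon
      rw [not_nontrivial_iff_subsingleton] at hcon
      exact hne' (Subsingleton.elim _ _)
    have hd' : (n : ℕ∞) ≤ LocCoh.depth A (QuotSMulTop x M) :=
      Groth.Agent.H15.le_idealDepth_quotSMulTop (maximalIdeal A) M x hxm hreg n hd
    have hM' := ih (QuotSMulTop x M) hd'
    apply subsingleton_of_regular hN.finT M x hxm hreg (-(δ : ℤ)) (-(δ : ℤ) + 1) rfl
    rcases Nat.eq_zero_or_pos δ with h0 | hpos
    · subst h0
      exact pos_vanish hN _ _ (by simp)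
    · have h1 : (-(δ : ℤ) + 1) = -(((δ - 1 : ℕ)) : ℤ) := by omega
      rw [h1]
      exact hM' (δ - 1) (by omega)

include hN in
/-- `T^{-n}(M) ≠ 0` for `n = depth M` -/
theorem nontrivial_of_depth_eq (n : ℕ) : ∀ (M : Type u) [AddCommGroup M] [Module A M]
    [Module.Finite A M] [Nontrivial M], LocCoh.depth A M = n →
    Nontrivial (T ω (-(n : ℤ)) M) := by
  induction n with
  | zero =>
    intro M _ _ _ _ hd
    exact nontrivial_of_depth_zero hN M hd
  | succ n ih =>
    intro M _ _ _ _ hd
    have hne : maximalIdeal A • (⊤ : Submodule A M) ≠ ⊤ :=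
      Groth.Agent.H72.DepthFlat.smul_top_ne_top_of_nontrivial M
    obtain ⟨x, hxm, hreg⟩ :=
      Groth.Agent.H72.DepthFinite.exists_isSMulRegular_of_one_le_idealDepth (maximalIdeal A) M hne n
        (le_of_eq hd.symm)
    have hne' : maximalIdeal A • (⊤ : Submodule A (QuotSMulTop x M)) ≠ ⊤ :=
      Groth.Agent.H15.smul_top_quotSMulTop_ne_top hxm hne
    haveI : Nontrivial (QuotSMulTop x M) := by
      by_contra hcon
      rw [not_nontrivial_iff_subsingleton] at hcon
      exact hne' (Subsingleton.elim _ _)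
    have hd' : LocCoh.depth A (QuotSMulTop x M) = n :=
      Groth.Agent.H2.LCDepthNonvanish.idealDepth_quotSMulTop (maximalIdeal A) M x hxm hreg n hd
    have hnt := ih (QuotSMulTop x M) hd'
    have hvan : Subsingleton (T ω (-(n : ℤ)) M) :=
      vanish_of_le_depth hN (n + 1) M (le_of_eq hd.symm) n (by omega)
    by_contra hcon
    rw [not_nontrivial_iff_subsingleton] at hcon
    have hS := Groth.Agent.H58.LC.shortExact_smul (R := A) M hreg
    have h1 : Subsingleton (T ω (-(n : ℤ)) (QuotSMulTop x M)) :=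
      subsingleton_right ω hS (-((n + 1 : ℕ) : ℤ)) (-(n : ℤ)) (by push_cast; ring) hcon hvan
    exact (not_nontrivial_iff_subsingleton.mpr h1) hnt

include hN in
/-- **Depth is the least `δ` with `Hom(M, ω[-δ]) ≠ 0`.** -/
theorem depth_eq_iff (M : Type u) [AddCommGroup M] [Module A M] [Module.Finite A M]
    [Nontrivial M] (n : ℕ) :
    LocCoh.depth A M = n ↔ ((∀ δ : ℕ, δ < n → Subsingleton (T ω (-(δ : ℤ)) M)) ∧
      Nontrivial (T ω (-(n : ℤ)) M)) := by
  constructor
  · intro h
    exact ⟨vanish_of_le_depth hN n M (le_of_eq h.symm), nontrivial_of_depth_eq hN n M h⟩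
  · rintro ⟨hvan, hnt⟩
    cases hd : LocCoh.depth A M with
    | top =>
      have := vanish_of_le_depth hN (n + 1) M (by rw [hd]; exact le_top) n (by omega)
      exact absurd hnt (not_nontrivial_iff_subsingleton.mpr this)
    | coe d =>
      have h1 := vanish_of_le_depth hN d M (le_of_eq hd.symm)
      have h2 := nontrivial_of_depth_eq hN d M hd
      rcases lt_trichotomy d n with hlt | heq | hgt
      · exact absurd h2 (not_nontrivial_iff_subsingleton.mpr (hvan d hlt))
      · rw [heq]
      · exact absurd hnt (not_nontrivial_iff_subsingleton.mpr (h1 n hgt))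

end DepthThm2

end Groth.Agent.H2.DualCx
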