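import Mathlib
import Groth.Agent.H2.DualCx.Depth

/-!
# Roberts' annihilator theorem via a normalized dualizing complex  (helper2)

`T^j(M) = Hom_{D(A)}(M[0], ω[j])` for a normalized dualizing complex `ω` over a Noetherian local
ring: vanishing on finite length modules off degree `0`, faithfulness of `T^0` on finite length
modules, `T^j` of finite free modules, and the inductive annihilator estimate for complexes of
finite free modules with finite length homology.
-/

set_option autoImplicit false
set_option linter.unusedSectionVars false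
set_option linter.style.haveILetI false

namespace Groth.Agent.H2.DualCx

universe u

open CategoryTheory CategoryTheory.Limits Pretriangulated DerivedCategory IsLocalRing

attribute [local instance] HasDerivedCategory.standard

section Basic

variable {A : Type u} [CommRing A] (W : Dual.D A)

variable {M N P : Type u} [AddCommGroup M] [Module A M] [AddCommGroup N] [Module A N]
  [AddCommGroup P] [Module A P]

theorem sg_add (φ ψ : M →ₗ[A] N) : sg (φ + ψ) = sg φ + sg ψ := by
  unfold sg
  have : ModuleCat.ofHom (φ + ψ) = ModuleCat.ofHom φ + ModuleCat.ofHom ψ := rfl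
  rw [this]
  exact (DerivedCategory.singleFunctor (ModuleCat.{u} A) 0).map_add

theorem sg_sum {ι : Type*} (s : Finset ι) (φ : ι → (M →ₗ[A] N)) :
    sg (∑ i ∈ s, φ i) = ∑ i ∈ s, sg (φ i) := by
  classical
  induction s using Finset.induction_on with
  | empty => simp [sg_zero]
  | insert a s ha ih => rw [Finset.sum_insert ha, Finset.sum_insert ha, sg_add, ih]

theorem precomp_comp (j : ℤ) (φ : M →ₗ[A] N) (ψ : N →ₗ[A] P) (t : T W j P) :
    precomp W j (ψ ∘ₗ φ) t = precomp W j φ (precomp W j ψ t) := by
  rw [precomp_apply, precomp_apply, precomp_apply, sg_comp, Category.assoc]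

theorem precomp_id (j : ℤ) (t : T W j M) : precomp W j (LinearMap.id : M →ₗ[A] M) t = t := by
  rw [precomp_apply, sg_id, Category.id_comp]

theorem precomp_sum {ι : Type*} (j : ℤ) (s : Finset ι) (φ : ι → (M →ₗ[A] N)) (t : T W j N) :
    precomp W j (∑ i ∈ s, φ i) t = ∑ i ∈ s, precomp W j (φ i) t := by
  simp only [precomp_apply]
  rw [sg_sum, Preadditive.sum_comp]

/-- the annihilator of `H^j(W)` kills `T^j(A)` -/
theorem annihilator_HD_le_self (j : ℤ) :
    Module.annihilator A (Dual.HD A W j) ≤ Module.annihilator A (T W j A) := by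
  intro a ha
  rw [Module.mem_annihilator] at ha ⊢
  intro t
  apply Ψ_injective W j
  rw [map_smul, map_zero]
  exact ha _

/-- the annihilator of `H^j(W)` kills `T^j(F)` for `F` finite free -/
theorem annihilator_HD_le_free (j : ℤ) (F : Type u) [AddCommGroup F] [Module A F]
    [Module.Free A F] [Module.Finite A F] :
    Module.annihilator A (Dual.HD A W j) ≤ Module.annihilator A (T W j F) := by
  intro a ha
  have ha' := annihilator_HD_le_self W j ha
  rw [Module.mem_annihilator] at ha' ⊢
  intro t
  classical
  let b := Module.Free.chooseBasis A F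
  haveI : Fintype (Module.Free.ChooseBasisIndex A F) := Module.Free.ChooseBasisIndex.fintype A F
  have hid : (LinearMap.id : F →ₗ[A] F) =
      ∑ i, (LinearMap.toSpanSingleton A F (b i)) ∘ₗ (b.coord i) := by
    apply b.ext
    intro k
    simp only [LinearMap.id_coe, id_eq, LinearMap.coe_sum, Finset.sum_apply,
      LinearMap.coe_comp, Function.comp_apply, LinearMap.toSpanSingleton_apply,
      Module.Basis.coord_apply, Module.Basis.repr_self]
    rw [Finset.sum_eq_single k]
    · simp
    · intro i _ hik
      rw [Finsupp.single_eq_of_ne hik, zero_smul]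
    · intro h; exact absurd (Finset.mem_univ k) h
  have ht : t = ∑ i, precomp W j (b.coord i) (precomp W j (LinearMap.toSpanSingleton A F (b i)) t) := by
    conv_lhs => rw [← precomp_id W j t, hid, precomp_sum]
    refine Finset.sum_congr rfl fun i _ => ?_
    rw [precomp_comp]
  rw [ht, Finset.smul_sum]
  refine Finset.sum_eq_zero fun i _ => ?_
  rw [← map_smul, ha', map_zero]

end Basic

section SESLin

variable {A : Type u} [CommRing A] [IsNoetherianRing A] (W : Dual.D A)

variable {N₁ N₂ N₃ : Type u} [AddCommGroup N₁] [Module A N₁] [AddCommGroup N₂] [Module A N₂]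
  [AddCommGroup N₃] [Module A N₃] (f : N₁ →ₗ[A] N₂) (g : N₂ →ₗ[A] N₃)

/-- `T^{j'}(N₃) → T^{j'}(N₂)` is injective when `T^j(N₁) = 0`, `j + 1 = j'` -/
theorem precomp_injective_of_subsingleton (hf : Function.Injective f)
    (hg : Function.Surjective g) (hfg : Function.Exact f g) (j j' : ℤ) (h : j + 1 = j')
    (h₁ : Subsingleton (T W j N₁)) : Function.Injective (precomp W j' g) := by
  rw [← LinearMap.ker_eq_bot, eq_bot_iff]
  intro t ht
  obtain ⟨s, hs⟩ := ker_precomp_le_range_conn W f g hf hg hfg j j' h ht
  rw [Submodule.mem_bot, ← hs, Subsingleton.elim s 0, map_zero]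

/-- `T^j(N₂) → T^j(N₁)` is surjective when `T^{j'}(N₃) = 0`, `j + 1 = j'` -/
theorem precomp_surjective_of_subsingleton (hf : Function.Injective f)
    (hg : Function.Surjective g) (hfg : Function.Exact f g) (j j' : ℤ) (h : j + 1 = j')
    (h₃ : Subsingleton (T W j' N₃)) : Function.Surjective (precomp W j f) := by
  intro t
  obtain ⟨s, hs⟩ := exists_extend W (sc_shortExact f g hf hg hfg) j j' h h₃ t
  exact ⟨s, hs.symm⟩

end SESLin

section Local

variable {A : Type u} [CommRing A] [IsNoetherianRing A] [IsLocalRing A]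
variable {ω : Dual.D A} (hN : Norm ω)

include hN in
/-- `T^j(N) = 0` for `N` of finite length and `j ≠ 0` -/
theorem subsingleton_of_isFiniteLength (j : ℤ) (hj : j ≠ 0) (N : Type u) [AddCommGroup N]
    [Module A N] (h : IsFiniteLength A N) : Subsingleton (T ω j N) := by
  induction h with
  | of_subsingleton => exact subsingleton_of_subsingleton ω j
  | @of_simple_quotient M _ _ N' hs _ ih =>
    obtain ⟨I, hI, ⟨e⟩⟩ := isSimpleModule_iff_quot_maximal.mp hs
    have hIm : I = maximalIdeal A := IsLocalRing.eq_maximalIdeal hI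
    subst hIm
    have h3 : Subsingleton (T ω j (M ⧸ N')) := by
      haveI := hN.kappa j hj
      exact (congr ω j e.symm).toEquiv.subsingleton
    exact subsingleton_mid ω (sc_shortExact N'.subtype N'.mkQ (Submodule.injective_subtype _)
      (Submodule.mkQ_surjective _) (LinearMap.exact_subtype_mkQ N')) j ih h3

include hN in
/-- a finite length module is zero or has `T^0 ≠ 0` -/
theorem subsingleton_or_nontrivial_T0 (N : Type u) [AddCommGroup N]
    [Module A N] (h : IsFiniteLength A N) : Subsingleton N ∨ Nontrivial (T ω 0 N) := by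
  induction h with
  | of_subsingleton => exact Or.inl inferInstance
  | @of_simple_quotient N _ _ N' hs h' _ =>
    right
    obtain ⟨I, hI, ⟨e⟩⟩ := isSimpleModule_iff_quot_maximal.mp hs
    have hIm : I = maximalIdeal A := IsLocalRing.eq_maximalIdeal hI
    subst hIm
    have h1 : Subsingleton (T ω (-1) N') := subsingleton_of_isFiniteLength hN (-1) (by omega) _ h'
    have hinj := precomp_injective_of_subsingleton ω N'.subtype N'.mkQ
      (Submodule.injective_subtype _) (Submodule.mkQ_surjective _)
      (LinearMap.exact_subtype_mkQ N') (-1) 0 (by omega) h1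
    haveI : Nontrivial (T ω 0 (N ⧸ N')) := by
      haveI := hN.kappa0
      exact (congr ω 0 e.symm).toEquiv.nontrivial
    exact hinj.nontrivial

include hN in
/-- `T^0` is faithful on finite length modules -/
theorem annihilator_T0_le (N : Type u) [AddCommGroup N] [Module A N] (h : IsFiniteLength A N) :
    Module.annihilator A (T ω 0 N) ≤ Module.annihilator A N := by
  intro a ha
  rw [Module.mem_annihilator] at ha ⊢
  -- `π : N ↠ aN`, `ι : aN ↪ N`
  let φ : N →ₗ[A] N := a • LinearMap.id
  let π : N →ₗ[A] LinearMap.range φ := φ.rangeRestrict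
  let ι : LinearMap.range φ →ₗ[A] N := (LinearMap.range φ).subtype
  have hιπ : ι ∘ₗ π = a • LinearMap.id := by ext x; rfl
  have hfin : Module.Finite A N := by
    have := (isFiniteLength_iff_isNoetherian_isArtinian.mp h).1
    infer_instance
  have hflR : IsFiniteLength A (LinearMap.range φ) :=
    h.of_injective (f := ι) (Submodule.injective_subtype _)
  have hflK : IsFiniteLength A (LinearMap.ker π) :=
    h.of_injective (f := (LinearMap.ker π).subtype) (Submodule.injective_subtype _)
  -- `T^0(aN) = 0`
  have hsub : Subsingleton (T ω 0 (LinearMap.range φ)) := by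
    have hπinj : Function.Injective (precomp ω 0 π) :=
      precomp_injective_of_subsingleton ω (LinearMap.ker π).subtype π
        (Submodule.injective_subtype _) (LinearMap.surjective_rangeRestrict φ)
        (LinearMap.exact_subtype_ker_map π) (-1) 0 (by omega)
        (subsingleton_of_isFiniteLength hN (-1) (by omega) _ hflK)
    have hιsurj : Function.Surjective (precomp ω 0 ι) :=
      precomp_surjective_of_subsingleton ω ι (LinearMap.range φ).mkQ
        (Submodule.injective_subtype _) (Submodule.mkQ_surjective _)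
        (LinearMap.exact_subtype_mkQ _) 0 1 (by omega) (pos_vanish hN _ 1 one_pos)
    refine ⟨fun s t => ?_⟩
    have key : ∀ t : T ω 0 (LinearMap.range φ), t = 0 := by
      intro t
      obtain ⟨t', rfl⟩ := hιsurj t
      apply hπinj
      rw [← precomp_comp, hιπ, precomp_smul_id, ha, map_zero]
    rw [key s, key t]
  rcases subsingleton_or_nontrivial_T0 hN _ hflR with h0 | h0
  · intro x
    have : (⟨a • x, ⟨x, rfl⟩⟩ : LinearMap.range φ) = 0 := Subsingleton.elim _ _
    exact congrArg Subtype.val this
  · exact absurd hsub (not_subsingleton_iff_nontrivial.mpr h0)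

end Local

section Step

variable {A : Type u} [CommRing A] [IsNoetherianRing A] [IsLocalRing A]
variable {ω : Dual.D A} (hN : Norm ω)
variable {X₁ X₂ X₃ : Type u} [AddCommGroup X₁] [Module A X₁] [AddCommGroup X₂] [Module A X₂]
  [AddCommGroup X₃] [Module A X₃]
  (f : X₁ →ₗ[A] X₂) (g : X₂ →ₗ[A] X₃) (hgf : g ∘ₗ f = 0)

/-- the induced map `X₂ / im f → im g` -/
noncomputable def gbar : (X₂ ⧸ LinearMap.range f) →ₗ[A] LinearMap.range g :=
  Submodule.liftQ (LinearMap.range f) g.rangeRestrict (by
    rintro _ ⟨x, rfl⟩
    rw [LinearMap.mem_ker]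
    apply Subtype.ext
    exact LinearMap.congr_fun hgf x)

theorem gbar_mk (x : X₂) : (gbar f g hgf (Submodule.Quotient.mk x) : X₃) = g x := rfl

theorem gbar_surjective : Function.Surjective (gbar f g hgf) := by
  rintro ⟨_, ⟨x, rfl⟩⟩
  exact ⟨Submodule.Quotient.mk x, rfl⟩

include hN in
/-- the last step: `T^0(X₂ / im f) → T^0(H)` is onto and `T^0` is faithful on `H` -/
theorem annihilator_le_of_T0 [Module.Finite A X₃]
    (hH : IsFiniteLength A (LinearMap.ker (gbar f g hgf))) (J : Ideal A)
    (hJ : J ≤ Module.annihilator A (T ω 0 (X₂ ⧸ LinearMap.range f))) :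
    J ≤ Module.annihilator A (LinearMap.ker (gbar f g hgf)) := by
  refine le_trans ?_ (annihilator_T0_le hN _ hH)
  intro a ha
  have ha' := hJ ha
  rw [Module.mem_annihilator] at ha' ⊢
  haveI : IsNoetherian A X₃ := isNoetherian_of_isNoetherianRing_of_finite A X₃
  haveI : Module.Finite A (LinearMap.range g) := Module.Finite.of_fg (IsNoetherian.noetherian _)
  have hsurj : Function.Surjective (precomp ω 0 (LinearMap.ker (gbar f g hgf)).subtype) :=
    precomp_surjective_of_subsingleton ω (LinearMap.ker (gbar f g hgf)).subtype (gbar f g hgf)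
      (Submodule.injective_subtype _) (gbar_surjective f g hgf)
      (LinearMap.exact_subtype_ker_map _) 0 1 (by omega) (pos_vanish hN _ 1 one_pos)
  intro t
  obtain ⟨t', rfl⟩ := hsurj t
  rw [← map_smul, ha', map_zero]

include hN in
/-- the inductive step -/
theorem annihilator_mul_le [Module.Finite A X₃]
    (hH : IsFiniteLength A (LinearMap.ker (gbar f g hgf))) (j j' : ℤ) (h : j + 1 = j')
    (hj : j ≠ 1) (J I : Ideal A)
    (hJ : J ≤ Module.annihilator A (T ω j (X₂ ⧸ LinearMap.range f)))
    (hI : I ≤ Module.annihilator A (T ω j' X₃)) :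
    I * J ≤ Module.annihilator A (T ω j' (X₃ ⧸ LinearMap.range g)) := by
  rw [Ideal.mul_le]
  intro a ha b hb
  have ha' := hI ha
  have hb' := hJ hb
  rw [Module.mem_annihilator] at ha' hb' ⊢
  intro t
  have h1 : a • t ∈ LinearMap.ker (precomp ω j' (LinearMap.range g).mkQ) := by
    rw [LinearMap.mem_ker, map_smul, ha']
  obtain ⟨s, hs⟩ := ker_precomp_le_range_conn ω (LinearMap.range g).subtype
    (LinearMap.range g).mkQ (Submodule.injective_subtype _) (Submodule.mkQ_surjective _)
    (LinearMap.exact_subtype_mkQ _) j j' h h1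
  have hinj : Function.Injective (precomp ω j (gbar f g hgf)) :=
    precomp_injective_of_subsingleton ω (LinearMap.ker (gbar f g hgf)).subtype (gbar f g hgf)
      (Submodule.injective_subtype _) (gbar_surjective f g hgf)
      (LinearMap.exact_subtype_ker_map _) (j - 1) j (by omega)
      (subsingleton_of_isFiniteLength hN (j - 1) (by omega) _ hH)
  have h2 : b • s = 0 := by
    apply hinj
    rw [map_smul, hb', map_zero]
  rw [mul_comm, mul_smul, ← hs, ← map_smul, h2, map_zero]

end Step

section SC

variable {A : Type u} [CommRing A] (S : ShortComplex (ModuleCat.{u} A))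

theorem sc_hgf : S.g.hom ∘ₗ S.f.hom = 0 := by
  ext x
  exact S.moduleCat_zero_apply x

/-- `ker g → ker (X₂ / im f → im g)` -/
noncomputable def toKerGbar :
    LinearMap.ker S.g.hom →ₗ[A] LinearMap.ker (gbar S.f.hom S.g.hom (sc_hgf S)) :=
  LinearMap.codRestrict _ ((LinearMap.range S.f.hom).mkQ ∘ₗ (LinearMap.ker S.g.hom).subtype) (by
    intro x
    rw [LinearMap.mem_ker]
    apply Subtype.ext
    exact x.2)

theorem toKerGbar_surjective : Function.Surjective (toKerGbar S) := by
  rintro ⟨y, hy⟩
  obtain ⟨x, rfl⟩ := Submodule.mkQ_surjective _ y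
  have hx : x ∈ LinearMap.ker S.g.hom := by
    rw [LinearMap.mem_ker] at hy ⊢
    exact congrArg Subtype.val hy
  exact ⟨⟨x, hx⟩, rfl⟩

theorem ker_toKerGbar : LinearMap.ker (toKerGbar S) = LinearMap.range S.moduleCatToCycles := by
  ext ⟨x, hx⟩
  rw [LinearMap.mem_ker, LinearMap.mem_range]
  constructor
  · intro h
    have h' : (LinearMap.range S.f.hom).mkQ x = 0 := congrArg Subtype.val h
    rw [Submodule.mkQ_apply, Submodule.Quotient.mk_eq_zero] at h'
    obtain ⟨y, hy⟩ := h'
    exact ⟨y, Subtype.ext hy⟩
  · rintro ⟨y, hy⟩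
    apply Subtype.ext
    change (LinearMap.range S.f.hom).mkQ x = 0
    rw [Submodule.mkQ_apply, Submodule.Quotient.mk_eq_zero]
    exact ⟨y, congrArg Subtype.val hy⟩

/-- the homology of a short complex of modules as the kernel of `X₂ / im f → im g` -/
noncomputable def homologyEquiv :
    S.homology ≃ₗ[A] LinearMap.ker (gbar S.f.hom S.g.hom (sc_hgf S)) :=
  S.moduleCatHomologyIso.toLinearEquiv ≪≫ₗ
    (Submodule.quotEquivOfEq _ _ (ker_toKerGbar S).symm) ≪≫ₗ
    LinearMap.quotKerEquivOfSurjective _ (toKerGbar_surjective S)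

end SC

section SCStep

variable {A : Type u} [CommRing A] [IsNoetherianRing A] [IsLocalRing A]
variable {ω : Dual.D A} (hN : Norm ω) (S : ShortComplex (ModuleCat.{u} A))

include hN in
theorem sc_annihilator_le_of_T0 [Module.Finite A S.X₃] (hH : IsFiniteLength A S.homology)
    (J : Ideal A)
    (hJ : J ≤ Module.annihilator A (T ω 0 (S.X₂ ⧸ LinearMap.range S.f.hom))) :
    J ≤ Module.annihilator A S.homology := by
  have h1 := annihilator_le_of_T0 hN S.f.hom S.g.hom (sc_hgf S)
    ((homologyEquiv S).isFiniteLength hH) J hJ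
  rwa [← (homologyEquiv S).annihilator_eq] at h1

include hN in
theorem sc_annihilator_mul_le [Module.Finite A S.X₃] (hH : IsFiniteLength A S.homology)
    (j j' : ℤ) (h : j + 1 = j') (hj : j ≠ 1) (J I : Ideal A)
    (hJ : J ≤ Module.annihilator A (T ω j (S.X₂ ⧸ LinearMap.range S.f.hom)))
    (hI : I ≤ Module.annihilator A (T ω j' S.X₃)) :
    I * J ≤ Module.annihilator A (T ω j' (S.X₃ ⧸ LinearMap.range S.g.hom)) :=
  annihilator_mul_le hN S.f.hom S.g.hom (sc_hgf S)
    ((homologyEquiv S).isFiniteLength hH) j j' h hj J I hJ hI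

end SCStep

section Complex

variable {A : Type u} [CommRing A] [IsNoetherianRing A] [IsLocalRing A]
variable {ω : Dual.D A} (hN : Norm ω) (F : ChainComplex (ModuleCat.{u} A) ℕ) (k : ℕ)

include hN in
theorem roberts_aux (hbd : ∀ i, k < i → IsZero (F.X i))
    (hfree : ∀ i, Module.Free A (F.X i) ∧ Module.Finite A (F.X i))
    (hfl : ∀ i, IsFiniteLength A (F.homology i)) :
    ∀ (r n : ℕ), n + r = k + 1 → ∀ m : ℕ,
      (∏ s ∈ Finset.range r, Module.annihilator A (Dual.HD A ω (-((m + s : ℕ) : ℤ)))) ≤
        Module.annihilator A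
          (T ω (-(m : ℤ)) (F.X n ⧸ LinearMap.range (F.d (n + 1) n).hom)) := by
  intro r
  induction r with
  | zero =>
    intro n hn m
    have hz : IsZero (F.X n) := hbd n (by omega)
    haveI : Subsingleton (F.X n) := ModuleCat.subsingleton_of_isZero hz
    haveI : Subsingleton (F.X n ⧸ LinearMap.range (F.d (n + 1) n).hom) :=
      (Submodule.mkQ_surjective _).subsingleton
    haveI := subsingleton_of_subsingleton ω
      (M := F.X n ⧸ LinearMap.range (F.d (n + 1) n).hom) (-(m : ℤ))
    intro a _
    rw [Module.mem_annihilator]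
    intro t
    exact Subsingleton.elim _ _
  | succ r ih =>
    intro n hn m
    have ih' := ih (n + 1) (by omega) (m + 1)
    rw [Finset.prod_range_succ', mul_comm]
    let S := F.sc' (n + 1 + 1) (n + 1) n
    have hH : IsFiniteLength A S.homology :=
      (F.homologyIsoSc' (n + 1 + 1) (n + 1) n (ChainComplex.prev ℕ (n + 1))
        (ChainComplex.next_nat_succ n)).toLinearEquiv.isFiniteLength (hfl (n + 1))
    haveI : Module.Finite A S.X₃ := (hfree n).2
    haveI : Module.Free A (F.X n) := (hfree n).1
    haveI : Module.Finite A (F.X n) := (hfree n).2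
    have hI : Module.annihilator A (Dual.HD A ω (-((m + 0 : ℕ) : ℤ))) ≤
        Module.annihilator A (T ω (-(m : ℤ)) S.X₃) :=
      annihilator_HD_le_free ω (-(m : ℤ)) (F.X n)
    have hJ : (∏ s ∈ Finset.range r,
        Module.annihilator A (Dual.HD A ω (-((m + (s + 1) : ℕ) : ℤ)))) ≤
        Module.annihilator A (T ω (-((m + 1 : ℕ) : ℤ)) (S.X₂ ⧸ LinearMap.range S.f.hom)) := by
      refine le_trans (le_of_eq ?_) ih'
      refine Finset.prod_congr rfl fun s _ => ?_
      have : m + 1 + s = m + (s + 1) := by omega
      rw [this]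
    exact sc_annihilator_mul_le hN S hH (-((m + 1 : ℕ) : ℤ)) (-(m : ℤ))
      (by push_cast; ring) (by omega) _ _ hJ hI

include hN in
/-- Roberts' theorem -/
theorem roberts (hbd : ∀ i, k < i → IsZero (F.X i))
    (hfree : ∀ i, Module.Free A (F.X i) ∧ Module.Finite A (F.X i))
    (hfl : ∀ i, IsFiniteLength A (F.homology i)) (i : ℕ) (hi : i ≤ k) :
    (∏ s ∈ Finset.range (k - i + 1), Module.annihilator A (Dual.HD A ω (-(s : ℤ)))) ≤
      Module.annihilator A (F.homology i) := by
  have h0 := roberts_aux hN F k hbd hfree hfl (k - i + 1) i (by omega) 0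
  let S := F.sc' (i + 1) i ((ComplexShape.down ℕ).next i)
  let e := F.homologyIsoSc' (i + 1) i ((ComplexShape.down ℕ).next i) (ChainComplex.prev ℕ i) rfl
  have hH : IsFiniteLength A S.homology := e.toLinearEquiv.isFiniteLength (hfl i)
  haveI : Module.Finite A S.X₃ := (hfree _).2
  have hJ : (∏ s ∈ Finset.range (k - i + 1),
      Module.annihilator A (Dual.HD A ω (-(s : ℤ)))) ≤
      Module.annihilator A (T ω 0 (S.X₂ ⧸ LinearMap.range S.f.hom)) := by
    refine le_trans (le_of_eq ?_) h0
    refine Finset.prod_congr rfl fun s _ => ?_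
    rw [zero_add]
  have h1 := sc_annihilator_le_of_T0 hN S hH _ hJ
  rwa [← e.toLinearEquiv.annihilator_eq] at h1

end Complex

end Groth.Agent.H2.DualCx
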