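import Mathlib
import Groth.Agent.H2.DualCx.Roberts

/-!
# Normalized dualizing complexes over Artinian local rings  (helper2)

Over a Noetherian local ring of dimension `0`, a normalized dualizing complex is the injective
hull of the residue field placed in degree `0`.
-/

set_option autoImplicit false
set_option linter.unusedSectionVars false
set_option linter.style.haveILetI false

namespace Groth.Agent.H2.DualCx

universe u

open CategoryTheory CategoryTheory.Limits Pretriangulated DerivedCategory IsLocalRing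

attribute [local instance] HasDerivedCategory.standard

section Artin

variable {A : Type u} [CommRing A] [IsNoetherianRing A] [IsLocalRing A]

/-- in dimension `0` every finite module has finite length -/
theorem isFiniteLength_of_dim_zero (h0 : ringKrullDim A = 0) (N : Type u) [AddCommGroup N]
    [Module A N] [Module.Finite A N] : IsFiniteLength A N := by
  haveI : Ring.KrullDimLE 0 A := Ring.krullDimLE_iff.mpr (by rw [h0]; rfl)
  haveI : IsArtinianRing A :=
    isArtinianRing_iff_isNoetherianRing_krullDimLE_zero.mpr ⟨inferInstance, inferInstance⟩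
  rw [isFiniteLength_iff_isNoetherian_isArtinian]
  exact ⟨inferInstance, inferInstance⟩

variable {ω : Dual.D A} (hN : Norm ω)

include hN in
/-- in dimension `0`, `T^j(N) = 0` for `j ≠ 0` -/
theorem subsingleton_T_of_dim_zero (h0 : ringKrullDim A = 0) (j : ℤ) (hj : j ≠ 0) (N : Type u)
    [AddCommGroup N] [Module A N] [Module.Finite A N] : Subsingleton (T ω j N) :=
  subsingleton_of_isFiniteLength hN j hj N (isFiniteLength_of_dim_zero h0 N)

include hN in
/-- in dimension `0`, `ω` is a module placed in degree `0` -/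
theorem exists_iso_single_of_dim_zero (h0 : ringKrullDim A = 0) :
    ∃ Y : ModuleCat.{u} A, Nonempty (ω ≅ (DerivedCategory.singleFunctor (ModuleCat.{u} A) 0).obj Y) := by
  have hH : ∀ j : ℤ, j ≠ 0 →
      IsZero ((DerivedCategory.homologyFunctor (ModuleCat.{u} A) j).obj ω) := by
    intro j hj
    haveI : Subsingleton (Dual.HD A ω j) :=
      (subsingleton_T_self_iff ω j).mp (subsingleton_T_of_dim_zero hN h0 j hj A)
    exact ModuleCat.isZero_of_subsingleton _
  haveI : ω.IsGE 0 := (DerivedCategory.isGE_iff ω 0).mpr (fun i hi => hH i (by omega))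
  haveI : ω.IsLE 0 := (DerivedCategory.isLE_iff ω 0).mpr (fun i hi => hH i (by omega))
  exact DerivedCategory.exists_iso_singleFunctor_obj_of_isGE_of_isLE ω 0

/-- transport of `T` along an isomorphism of the target -/
noncomputable def TIso {W W' : Dual.D A} (e : W ≅ W') (j : ℤ) (N : Type u) [AddCommGroup N]
    [Module A N] : T W j N ≃ T W' j N :=
  Iso.homCongr (Iso.refl (Dual.inD A N)) ((shiftFunctor (Dual.D A) j).mapIso e)

/-- Baer's criterion from `Ext^1`-vanishing in the derived category -/
theorem injective_of_subsingleton_T1 (Y : ModuleCat.{u} A)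
    (h1 : ∀ I : Ideal A, Subsingleton
      (T ((DerivedCategory.singleFunctor (ModuleCat.{u} A) 0).obj Y) 1 (A ⧸ I))) :
    Module.Injective A Y := by
  apply Module.Baer.injective
  intro I g
  let W : Dual.D A := (DerivedCategory.singleFunctor (ModuleCat.{u} A) 0).obj Y
  let z : W ≅ W⟦(0 : ℤ)⟧ := ((shiftFunctorZero (Dual.D A) ℤ).app W).symm
  let t : T W 0 I :=
    (DerivedCategory.singleFunctor (ModuleCat.{u} A) 0).map (ModuleCat.ofHom g) ≫ z.hom
  have hS := sc_shortExact I.subtype I.mkQ (Submodule.injective_subtype _)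
    (Submodule.mkQ_surjective _) (LinearMap.exact_subtype_mkQ I)
  obtain ⟨t', ht'⟩ := exists_extend W hS 0 1 rfl (h1 I) t
  obtain ⟨g', hg'⟩ := (DerivedCategory.singleFunctor (ModuleCat.{u} A) 0).map_surjective
    (t' ≫ z.inv)
  refine ⟨g'.hom, fun x hx => ?_⟩
  have h2 : (DerivedCategory.singleFunctor (ModuleCat.{u} A) 0).map
      (ModuleCat.ofHom I.subtype ≫ g') =
      (DerivedCategory.singleFunctor (ModuleCat.{u} A) 0).map (ModuleCat.ofHom g) := by
    rw [Functor.map_comp, hg']
    have h3 : t ≫ z.inv =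
        (DerivedCategory.singleFunctor (ModuleCat.{u} A) 0).map (ModuleCat.ofHom g) := by
      simp only [t, Category.assoc, Iso.hom_inv_id, Category.comp_id]
    rw [← h3, ht', Category.assoc]
  have h4 := (DerivedCategory.singleFunctor (ModuleCat.{u} A) 0).map_injective h2
  have h5 := congrArg (fun φ => φ.hom ⟨x, hx⟩) h4
  exact h5

/-- if `End(ω) = A` (local) and `ω ≅ Y[0]` then idempotent endomorphisms of `Y` are trivial -/
theorem idempotent_trivial (Y : ModuleCat.{u} A)
    (e : ω ≅ (DerivedCategory.singleFunctor (ModuleCat.{u} A) 0).obj Y)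
    (hbij : Function.Bijective (fun a : A => a • (𝟙 ω)))
    (p : Y →ₗ[A] Y) (hp : p ∘ₗ p = p) : p = 0 ∨ p = LinearMap.id := by
  let F := DerivedCategory.singleFunctor (ModuleCat.{u} A) 0
  obtain ⟨a, ha⟩ := hbij.2 (e.hom ≫ F.map (ModuleCat.ofHom p) ≫ e.inv)
  have ha' : a • 𝟙 ω = e.hom ≫ F.map (ModuleCat.ofHom p) ≫ e.inv := ha
  have h1 : F.map (ModuleCat.ofHom p) = a • 𝟙 (F.obj Y) := by
    have : F.map (ModuleCat.ofHom p) = e.inv ≫ (a • 𝟙 ω) ≫ e.hom := by
      rw [ha']
      simp
    rw [this, Linear.smul_comp, Linear.comp_smul, Category.id_comp, Iso.inv_hom_id]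
  have h2 : ModuleCat.ofHom p = a • 𝟙 Y := by
    apply F.map_injective
    rw [h1, Functor.map_smul]
    congr 1
    exact (F.map_id Y).symm
  have h3 : p = a • LinearMap.id := by
    have := congrArg ModuleCat.Hom.hom h2
    exact this
  -- `a` is idempotent
  have h4 : (a * a) • 𝟙 ω = a • 𝟙 ω := by
    have h5 : F.map (ModuleCat.ofHom (p ∘ₗ p)) = F.map (ModuleCat.ofHom p) := by rw [hp]
    rw [ModuleCat.ofHom_comp, Functor.map_comp, h1, Linear.smul_comp, Linear.comp_smul,
      Category.id_comp, smul_smul] at h5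
    have h6 : e.hom ≫ ((a * a) • 𝟙 (F.obj Y)) ≫ e.inv = e.hom ≫ (a • 𝟙 (F.obj Y)) ≫ e.inv := by
      rw [h5]
    rw [Linear.smul_comp, Linear.comp_smul, Category.id_comp, Iso.hom_inv_id, Linear.smul_comp,
      Linear.comp_smul, Category.id_comp, Iso.hom_inv_id] at h6
    exact h6
  have h7 : a * a = a := hbij.1 h4
  rcases IsLocalRing.isUnit_or_isUnit_one_sub_self a with hu | hu
  · right
    have : a = 1 := by
      have h8 : a * (a - 1) = 0 := by rw [mul_sub, h7, mul_one, sub_self]
      have := hu.mul_right_eq_zero.mp h8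
      exact sub_eq_zero.mp this
    rw [h3, this, one_smul]
  · left
    have : a = 0 := by
      have h8 : (1 - a) * a = 0 := by rw [sub_mul, h7, one_mul, sub_self]
      exact hu.mul_right_eq_zero.mp h8
    rw [h3, this, zero_smul]

include hN in
/-- **dimension zero**: a normalized dualizing complex is the injective hull of the residue field
in degree `0` -/
theorem iso_injectiveHull_of_dim_zero (h0 : ringKrullDim A = 0)
    (hbij : Function.Bijective (fun a : A => a • (𝟙 ω)))
    (E : Type u) [AddCommGroup E] [Module A E] (f : (A ⧸ maximalIdeal A) →ₗ[A] E)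
    (hf : InjHull.IsInjectiveHull f) : Nonempty (ω ≅ Dual.inD A E) := by
  obtain ⟨Y, ⟨e⟩⟩ := exists_iso_single_of_dim_zero hN h0
  let F := DerivedCategory.singleFunctor (ModuleCat.{u} A) 0
  -- `Y` is injective
  have hYinj : Module.Injective A Y := by
    apply injective_of_subsingleton_T1
    intro I
    haveI := subsingleton_T_of_dim_zero hN h0 1 one_ne_zero (A ⧸ I)
    exact (TIso e 1 (A ⧸ I)).symm.subsingleton
  -- a nonzero map `κ → Y`
  obtain ⟨g₀, hg₀⟩ : ∃ g₀ : (A ⧸ maximalIdeal A) →ₗ[A] Y, g₀ ≠ 0 := by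
    haveI := hN.kappa0
    obtain ⟨t, ht⟩ := exists_ne (0 : T ω 0 (A ⧸ maximalIdeal A))
    let z : ω⟦(0 : ℤ)⟧ ≅ ω := (shiftFunctorZero (Dual.D A) ℤ).app ω
    obtain ⟨g, hg⟩ := F.map_surjective (t ≫ z.hom ≫ e.hom)
    refine ⟨g.hom, fun h => ht ?_⟩
    have h1 : g = 0 := by
      apply ModuleCat.hom_ext
      exact h
    rw [h1, Functor.map_zero] at hg
    have h2 : t ≫ (z ≪≫ e).hom = 0 := by rw [Iso.trans_hom, ← hg]
    have h3 := congrArg (fun s => s ≫ (z ≪≫ e).inv) h2
    simpa using h3
  haveI : IsSimpleModule A (A ⧸ maximalIdeal A) :=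
    isSimpleModule_iff_quot_maximal.mpr ⟨maximalIdeal A, inferInstance, ⟨LinearEquiv.refl A _⟩⟩
  have hg₀inj : Function.Injective g₀ := (LinearMap.injective_or_eq_zero g₀).resolve_right hg₀
  -- extend to `E → Y`
  obtain ⟨φ, hφ⟩ := hYinj.out f hf.injective g₀
  have hφinj : Function.Injective φ := by
    rw [← LinearMap.ker_eq_bot]
    by_contra hne
    have := hf.essential (LinearMap.ker φ) hne
    apply this
    rw [eq_bot_iff]
    rintro x ⟨hx1, ⟨y, rfl⟩⟩
    rw [SetLike.mem_coe, LinearMap.mem_ker, hφ] at hx1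
    have : y = 0 := hg₀inj (hx1.trans (map_zero g₀).symm)
    rw [this, map_zero]
    exact Submodule.zero_mem _
  -- split `φ`
  obtain ⟨r, hr⟩ := hf.isInjective.out φ hφinj LinearMap.id
  have hp : (φ ∘ₗ r) ∘ₗ (φ ∘ₗ r) = φ ∘ₗ r := by
    ext y
    simp only [LinearMap.coe_comp, Function.comp_apply]
    rw [hr]
    rfl
  rcases idempotent_trivial Y e hbij (φ ∘ₗ r) hp with h | h
  · exfalso
    apply hg₀
    apply LinearMap.ext
    intro x
    have h1 := congrArg (fun ψ => ψ (φ (f x))) h
    simp only [LinearMap.coe_comp, Function.comp_apply, LinearMap.zero_apply] at h1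
    rw [hr, LinearMap.id_apply, hφ] at h1
    exact h1
  · have hφsurj : Function.Surjective φ := by
      intro y
      refine ⟨r y, ?_⟩
      have h1 := congrArg (fun ψ => ψ y) h
      exact h1
    let eq : E ≃ₗ[A] Y := LinearEquiv.ofBijective φ ⟨hφinj, hφsurj⟩
    exact ⟨e ≪≫ F.mapIso (eq.symm.toModuleIso)⟩

end Artin

end Groth.Agent.H2.DualCx
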