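import Mathlib
import Groth.Agent.H2.DualCx.Roberts
import Groth.Agent.H24.Catenary

/-!
# Supports of `T^j(M) = Hom_{D(A)}(M[0], ω[j])` for a normalized dualizing complex  (helper2)

Support calculus for the `T`-functors, the dimension bound `dim Supp T^{-n}(M) ≤ n`, and the
"dimension function" property: `q ∈ Supp T^j(A/q) ↔ j = -dim A/q`.
-/

set_option autoImplicit false
set_option linter.unusedSectionVars false
set_option linter.style.haveILetI false

namespace Groth.Agent.H2.DualCx

universe u v w

open CategoryTheory CategoryTheory.Limits Pretriangulated DerivedCategory IsLocalRing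

attribute [local instance] HasDerivedCategory.standard

section SupportGen

variable {A : Type u} [CommRing A]
variable {X : Type v} {Y : Type v} {Z : Type v} [AddCommGroup X] [Module A X]
  [AddCommGroup Y] [Module A Y] [AddCommGroup Z] [Module A Z]

/-- for a half exact sequence `X → Y → Z`: `Supp Y ⊆ Supp X ∪ Supp Z` -/
theorem support_subset_union (f : X →ₗ[A] Y) (g : Y →ₗ[A] Z)
    (h : LinearMap.ker g ≤ LinearMap.range f) :
    Module.support A Y ⊆ Module.support A X ∪ Module.support A Z := by
  have hex : Function.Exact (LinearMap.ker g).subtype g.rangeRestrict := by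
    rw [LinearMap.exact_iff, LinearMap.ker_rangeRestrict, Submodule.range_subtype]
  rw [Module.support_of_exact hex (Submodule.injective_subtype _)
    (LinearMap.surjective_rangeRestrict g)]
  apply Set.union_subset_union
  · refine (Module.support_subset_of_injective (Submodule.inclusion h)
      (Submodule.inclusion_injective h)).trans ?_
    exact Module.support_subset_of_surjective f.rangeRestrict (LinearMap.surjective_rangeRestrict f)
  · exact Module.support_subset_of_injective (LinearMap.range g).subtype
      (Submodule.injective_subtype _)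

/-- if `ker g ≤ P` then `Supp (Y/P) ⊆ Supp Z` -/
theorem support_quotient_subset_of_ker_le (g : Y →ₗ[A] Z) (P : Submodule A Y)
    (h : LinearMap.ker g ≤ P) : Module.support A (Y ⧸ P) ⊆ Module.support A Z := by
  refine (Module.support_subset_of_surjective (Submodule.mapQ (LinearMap.ker g) P LinearMap.id h)
    ?_).trans ?_
  · intro y
    obtain ⟨y, rfl⟩ := Submodule.mkQ_surjective _ y
    exact ⟨Submodule.Quotient.mk y, rfl⟩
  · refine Module.support_subset_of_injective ((LinearMap.ker g).liftQ g le_rfl) ?_
    rw [← LinearMap.ker_eq_bot]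
    exact Submodule.ker_liftQ_eq_bot _ _ _ le_rfl

/-- if `ker g ≤ P` then `dim Supp (Y/P) ≤ dim Supp Z` -/
theorem supportDim_quotient_le_of_ker_le (g : Y →ₗ[A] Z) (P : Submodule A Y)
    (h : LinearMap.ker g ≤ P) : Module.supportDim A (Y ⧸ P) ≤ Module.supportDim A Z := by
  refine (Module.supportDim_le_of_surjective
    (Submodule.mapQ (LinearMap.ker g) P LinearMap.id h) ?_).trans ?_
  · intro y
    obtain ⟨y, rfl⟩ := Submodule.mkQ_surjective _ y
    exact ⟨Submodule.Quotient.mk y, rfl⟩
  · refine Module.supportDim_le_of_injective ((LinearMap.ker g).liftQ g le_rfl) ?_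
    rw [← LinearMap.ker_eq_bot]
    exact Submodule.ker_liftQ_eq_bot _ _ _ le_rfl

/-- `dim Supp E ≤ n` iff every prime of the support has coheight `≤ n` -/
theorem supportDim_le_iff (E : Type v) [AddCommGroup E] [Module A E] (n : ℕ∞) :
    Module.supportDim A E ≤ (n : WithBot ℕ∞) ↔
      ∀ p ∈ Module.support A E, Order.coheight p ≤ n := by
  constructor
  · intro h p hp
    have h1 : ((Order.coheight p : ℕ∞) : WithBot ℕ∞) ≤ Module.supportDim A E := by
      rw [Order.coheight_eq_krullDim_Ici]
      unfold Module.supportDim
      have hsub : Set.Ici p ⊆ Module.support A E := fun q hq => Module.mem_support_mono hq hp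
      exact Order.krullDim_le_of_strictMono (Set.inclusion hsub) (fun a b hab => hab)
    exact WithBot.coe_le_coe.mp (h1.trans h)
  · intro h
    unfold Module.supportDim
    by_cases hne : Nonempty (Module.support A E)
    · rw [Order.krullDim_eq_iSup_length, WithBot.coe_le_coe]
      apply iSup_le
      intro s
      let s' : LTSeries (PrimeSpectrum A) := s.map Subtype.val (fun a b hab => hab)
      have h1 : (s'.length : ℕ∞) ≤ Order.coheight s'.head := Order.length_le_coheight_head
      have h2 : s'.head ∈ Module.support A E := (s.head).2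
      exact h1.trans (h _ h2)
    · rw [not_nonempty_iff] at hne
      rw [Order.krullDim_eq_bot]
      exact bot_le

end SupportGen

section TSupport

variable {A : Type u} [CommRing A] [IsNoetherianRing A] (W : Dual.D A)

/-- `Ann N ≤ Ann T^j(N)` -/
theorem annihilator_le_annihilator_T (j : ℤ) (N : Type u) [AddCommGroup N] [Module A N] :
    Module.annihilator A N ≤ Module.annihilator A (T W j N) := by
  intro a ha
  rw [Module.mem_annihilator] at ha ⊢
  intro t
  have h0 : a • (LinearMap.id : N →ₗ[A] N) = 0 := by
    ext n
    exact ha n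
  rw [← precomp_smul_id, h0, precomp_apply, sg_zero, zero_comp]

/-- `Supp T^j(N) ⊆ Supp N` for finite `N` -/
theorem support_T_subset (j : ℤ) (N : Type u) [AddCommGroup N] [Module A N] [Module.Finite A N] :
    Module.support A (T W j N) ⊆ Module.support A N := by
  intro p hp
  rw [Module.support_eq_zeroLocus, PrimeSpectrum.mem_zeroLocus, SetLike.coe_subset_coe]
  exact (annihilator_le_annihilator_T W j N).trans (Module.annihilator_le_of_mem_support hp)

variable {N₁ N₂ N₃ : Type u} [AddCommGroup N₁] [Module A N₁] [AddCommGroup N₂] [Module A N₂]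
  [AddCommGroup N₃] [Module A N₃] (f : N₁ →ₗ[A] N₂) (g : N₂ →ₗ[A] N₃)

/-- exactness at `T^j(N₁)` -/
theorem ker_conn_le_range_precomp (hf : Function.Injective f) (hg : Function.Surjective g)
    (hfg : Function.Exact f g) (j j' : ℤ) (h : j + 1 = j') :
    LinearMap.ker (conn W (sc_shortExact f g hf hg hfg) j j' h) ≤
      LinearMap.range (precomp W j f) := by
  intro t ht
  rw [LinearMap.mem_ker, conn_apply, ← Category.assoc] at ht
  have h1 : (sc_shortExact f g hf hg hfg).singleδ ≫ t⟦(1 : ℤ)⟧' = 0 := by
    have := congrArg (fun s => s ≫ (shIso W j j' h).hom) ht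
    simpa using this
  obtain ⟨s, hs⟩ := exact_left (sc_shortExact f g hf hg hfg) t h1
  exact ⟨s, hs.symm⟩

theorem support_T_mid (hf : Function.Injective f) (hg : Function.Surjective g)
    (hfg : Function.Exact f g) (j : ℤ) :
    Module.support A (T W j N₂) ⊆ Module.support A (T W j N₃) ∪ Module.support A (T W j N₁) :=
  support_subset_union _ _ (ker_precomp_le_range W f g hf hg hfg j)

theorem support_T_right (hf : Function.Injective f) (hg : Function.Surjective g)
    (hfg : Function.Exact f g) (j j' : ℤ) (h : j + 1 = j') :
    Module.support A (T W j' N₃) ⊆ Module.support A (T W j N₁) ∪ Module.support A (T W j' N₂) :=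
  support_subset_union _ _ (ker_precomp_le_range_conn W f g hf hg hfg j j' h)

theorem support_T_left (hf : Function.Injective f) (hg : Function.Surjective g)
    (hfg : Function.Exact f g) (j j' : ℤ) (h : j + 1 = j') :
    Module.support A (T W j N₁) ⊆ Module.support A (T W j N₂) ∪ Module.support A (T W j' N₃) :=
  support_subset_union _ _ (ker_conn_le_range_precomp W f g hf hg hfg j j' h)

end TSupport

section RegSeq

variable {A : Type u} [CommRing A] (M : Type u) [AddCommGroup M] [Module A M] (x : A)

open Pointwise in
theorem exact_lsmul_mkQ :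
    Function.Exact (LinearMap.lsmul A M x) (x • (⊤ : Submodule A M)).mkQ := by
  intro m
  rw [Submodule.mkQ_apply, Submodule.Quotient.mk_eq_zero]
  constructor
  · intro h
    obtain ⟨m', -, rfl⟩ := (Submodule.mem_smul_pointwise_iff_exists m x ⊤).1 h
    exact ⟨m', rfl⟩
  · rintro ⟨m', rfl⟩
    exact Submodule.smul_mem_pointwise_smul m' x ⊤ trivial

theorem lsmul_eq_smul_id : LinearMap.lsmul A M x = x • (LinearMap.id : M →ₗ[A] M) := by
  ext m
  simp

end RegSeq

section DimBound

open scoped Pointwise

variable {A : Type u} [CommRing A] [IsNoetherianRing A] [IsLocalRing A]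
variable {ω : Dual.D A} (hN : Norm ω)

theorem coheight_eq_zero_of_maximalIdeal_le (p : PrimeSpectrum A)
    (h : maximalIdeal A ≤ p.asIdeal) : Order.coheight p = 0 := by
  rw [Order.coheight_eq_zero]
  intro p' hpp'
  have h1 : p'.asIdeal ≤ maximalIdeal A := IsLocalRing.le_maximalIdeal p'.2.ne_top
  exact h1.trans h

include hN in
/-- `T^0(A/q) = 0` for `q ≠ 𝔪` -/
theorem subsingleton_T0_quot (q : Ideal A) [hq : q.IsPrime] (hqm : q ≠ maximalIdeal A) :
    Subsingleton (T ω 0 (A ⧸ q)) := by
  have := (up hN.finT 1 (fun j hj => hN.kappa j (by omega)) q hq).2 hqm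
  simpa using this

include hN in
/-- every prime in the support of `T^{-n}(N)` has coheight at most `n` -/
theorem coheight_le_of_mem_support_T (n : ℕ) : ∀ (N : Type u) [AddCommGroup N] [Module A N]
    [Module.Finite A N], ∀ p ∈ Module.support A (T ω (-(n : ℤ)) N), Order.coheight p ≤ n := by
  induction n with
  | zero =>
    intro N _ _ hfN
    induction hfN using IsNoetherianRing.induction_on_isQuotientEquivQuotientPrime A with
    | subsingleton N =>
      intro p hp
      haveI := subsingleton_of_subsingleton ω (M := N) (-((0 : ℕ) : ℤ))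
      rw [Module.support_eq_empty] at hp
      exact absurd hp (Set.notMem_empty p)
    | quotient N q e =>
      intro p hp
      rw [← (congr ω _ e).support_eq] at hp
      haveI := q.2
      by_cases hqm : q.1 = maximalIdeal A
      · have h1 := support_T_subset ω _ _ hp
        rw [Module.support_eq_zeroLocus, Ideal.annihilator_quotient, hqm,
          PrimeSpectrum.mem_zeroLocus, SetLike.coe_subset_coe] at h1
        rw [coheight_eq_zero_of_maximalIdeal_le p h1]
        exact zero_le
      · haveI : Subsingleton (T ω (-((0 : ℕ) : ℤ)) (A ⧸ q.1)) := by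
          have := subsingleton_T0_quot hN q.1 hqm
          simpa using this
        rw [Module.support_eq_empty] at hp
        exact absurd hp (Set.notMem_empty p)
    | exact N₁ N₂ N₃ f g hf hg hfg h₁ h₃ =>
      intro p hp
      rcases support_T_mid ω f g hf hg hfg _ hp with h | h
      · exact h₃ p h
      · exact h₁ p h
  | succ m ih =>
    intro N _ _ hfN
    induction hfN using IsNoetherianRing.induction_on_isQuotientEquivQuotientPrime A with
    | subsingleton N =>
      intro p hp
      haveI := subsingleton_of_subsingleton ω (M := N) (-((m + 1 : ℕ) : ℤ))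
      rw [Module.support_eq_empty] at hp
      exact absurd hp (Set.notMem_empty p)
    | quotient N q e =>
      intro p hp
      rw [← (congr ω _ e).support_eq] at hp
      haveI := q.2
      by_cases hqm : q.1 = maximalIdeal A
      · have h1 := support_T_subset ω _ _ hp
        rw [Module.support_eq_zeroLocus, Ideal.annihilator_quotient, hqm,
          PrimeSpectrum.mem_zeroLocus, SetLike.coe_subset_coe] at h1
        rw [coheight_eq_zero_of_maximalIdeal_le p h1]
        exact zero_le
      · obtain ⟨x, hxm, hxq, hreg, hkill⟩ := exists_regular_of_ne q.1 hqm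
        have hj : (-((m + 1 : ℕ) : ℤ)) + 1 = -(m : ℤ) := by push_cast; ring
        have hex := exact_lsmul_mkQ (A ⧸ q.1) x
        have hsurj : Function.Surjective (x • (⊤ : Submodule A (A ⧸ q.1))).mkQ :=
          Submodule.mkQ_surjective _
        have hker := ker_conn_le_range_precomp ω (LinearMap.lsmul A (A ⧸ q.1) x) _ hreg hsurj hex
          _ _ hj
        have hrange : LinearMap.range (precomp ω (-((m + 1 : ℕ) : ℤ))
            (LinearMap.lsmul A (A ⧸ q.1) x)) ≤
            x • (⊤ : Submodule A (T ω (-((m + 1 : ℕ) : ℤ)) (A ⧸ q.1))) := by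
          rintro _ ⟨t, rfl⟩
          rw [lsmul_eq_smul_id, precomp_smul_id]
          exact Submodule.smul_mem_pointwise_smul t x ⊤ trivial
        have h1 := supportDim_quotient_le_of_ker_le _ _ (hker.trans hrange)
        have h2 : Module.supportDim A (T ω (-(m : ℤ)) (QuotSMulTop x (A ⧸ q.1))) ≤
            ((m : ℕ∞) : WithBot ℕ∞) :=
          (supportDim_le_iff _ _).mpr (ih (QuotSMulTop x (A ⧸ q.1)))
        haveI := hN.finT (-((m + 1 : ℕ) : ℤ)) (A ⧸ q.1)
        have h3 := Module.supportDim_le_supportDim_quotSMulTop_succ
          (M := T ω (-((m + 1 : ℕ) : ℤ)) (A ⧸ q.1)) hxm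
        have h4 : Module.supportDim A (T ω (-((m + 1 : ℕ) : ℤ)) (A ⧸ q.1)) ≤
            (((m + 1 : ℕ) : ℕ∞) : WithBot ℕ∞) := by
          refine h3.trans ?_
          have : (((m + 1 : ℕ) : ℕ∞) : WithBot ℕ∞) = ((m : ℕ∞) : WithBot ℕ∞) + 1 := by
            push_cast; rfl
          rw [this]
          exact add_le_add_left (h1.trans h2) 1
        exact (supportDim_le_iff _ _).mp h4 p hp
    | exact N₁ N₂ N₃ f g hf hg hfg h₁ h₃ =>
      intro p hp
      rcases support_T_mid ω f g hf hg hfg _ hp with h | h
      · exact h₃ p h
      · exact h₁ p h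

include hN in
/-- `dim Supp T^{-n}(N) ≤ n` -/
theorem supportDim_T_le (n : ℕ) (N : Type u) [AddCommGroup N] [Module A N] [Module.Finite A N] :
    Module.supportDim A (T ω (-(n : ℤ)) N) ≤ ((n : ℕ∞) : WithBot ℕ∞) :=
  (supportDim_le_iff _ _).mpr (coheight_le_of_mem_support_T hN n N)

include hN in
/-- the range of non-vanishing and the dimension bound -/
theorem range_and_supportDim (M : Type u) [AddCommGroup M] [Module A M] [Module.Finite A M]
    (d : ℕ) (hd : Module.supportDim A M = d) (i : ℤ) :
    (Nontrivial (T ω i M) → (-(d : ℤ) ≤ i ∧ i ≤ 0)) ∧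
      Module.supportDim A (T ω i M) ≤ ((-i).toNat : WithBot ℕ∞) := by
  constructor
  · intro hnt
    constructor
    · by_contra hlt
      push Not at hlt
      have := down_all hN.finT (fun j hj => hN.kappa j (by omega)) M d (le_of_eq hd) i hlt
      exact not_subsingleton_iff_nontrivial.mpr hnt this
    · by_contra hlt
      push Not at hlt
      have := pos_vanish hN M i hlt
      exact not_subsingleton_iff_nontrivial.mpr hnt this
  · by_cases hi : 0 < i
    · haveI := pos_vanish hN M i hi
      rw [Module.supportDim_eq_bot_of_subsingleton]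
      exact bot_le
    · push Not at hi
      obtain ⟨n, hn⟩ : ∃ n : ℕ, i = -(n : ℤ) := ⟨(-i).toNat, by omega⟩
      subst hn
      have : (-(-(n : ℤ))).toNat = n := by omega
      rw [this]
      exact supportDim_T_le hN n M

end DimBound

end Groth.Agent.H2.DualCx
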