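import Mathlib
import Groth.Agent.H2.DualCx.Support

/-!
# The dimension function of a normalized dualizing complex  (helper2)

`q ∈ Supp T^j(A/q) ↔ j = -dim A/q`, non-vanishing of `T^{-dim M}(M)`, and the cohomology modules
of `ω` at minimal primes.
-/

set_option autoImplicit false
set_option linter.unusedSectionVars false
set_option linter.style.haveILetI false

namespace Groth.Agent.H2.DualCx

universe u v w

open CategoryTheory CategoryTheory.Limits Pretriangulated DerivedCategory IsLocalRing

attribute [local instance] HasDerivedCategory.standard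

section DF

open scoped Pointwise

variable {A : Type u} [CommRing A] [IsNoetherianRing A] [IsLocalRing A]
variable {ω : Dual.D A} (hN : Norm ω)

theorem nontrivial_of_mem_support {E : Type v} [AddCommGroup E] [Module A E]
    {p : PrimeSpectrum A} (hp : p ∈ Module.support A E) : Nontrivial E := by
  by_contra h
  rw [not_nontrivial_iff_subsingleton] at h
  rw [Module.support_eq_empty] at hp
  exact absurd hp (Set.notMem_empty p)

theorem support_quot_eq (q : Ideal A) :
    Module.support A (A ⧸ q) = PrimeSpectrum.zeroLocus (q : Set A) := by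
  rw [Module.support_eq_zeroLocus, Ideal.annihilator_quotient]

theorem mem_support_quot_iff (q : Ideal A) (p : PrimeSpectrum A) :
    p ∈ Module.support A (A ⧸ q) ↔ q ≤ p.asIdeal := by
  rw [support_quot_eq, PrimeSpectrum.mem_zeroLocus, SetLike.coe_subset_coe]

include hN in
/-- if `q ∈ Supp T^j(A/q)` then `j = -dim A/q` -/
theorem eq_neg_coheight_of_mem_support (q : PrimeSpectrum A) (e : ℕ)
    (he : Order.coheight q = e) (j : ℤ)
    (hq : q ∈ Module.support A (T ω j (A ⧸ q.asIdeal))) : j = -(e : ℤ) := by
  have hnt := nontrivial_of_mem_support hq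
  have hj0 : j ≤ 0 := by
    by_contra hlt
    push Not at hlt
    exact not_subsingleton_iff_nontrivial.mpr hnt (pos_vanish hN _ j hlt)
  have hdim : ringKrullDim (A ⧸ q.asIdeal) ≤ (e : WithBot ℕ∞) := by
    rw [← Groth.Agent.H24.coheight_eq_ringKrullDim_quotient q, he]
    rfl
  have hje : -(e : ℤ) ≤ j := by
    by_contra hlt
    push Not at hlt
    exact not_subsingleton_iff_nontrivial.mpr hnt
      (down hN.finT (fun j hj => hN.kappa j (by omega)) q.asIdeal q.2 e hdim j hlt)
  obtain ⟨n, hn⟩ : ∃ n : ℕ, j = -(n : ℤ) := ⟨(-j).toNat, by omega⟩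
  subst hn
  have h1 := coheight_le_of_mem_support_T hN n (A ⧸ q.asIdeal) q hq
  rw [he] at h1
  have h2 : e ≤ n := by exact_mod_cast h1
  omega

include hN in
/-- if all primes of `Supp N` below `q'` equal `q'`, then `q' ∉ Supp T^j(N)` for `j ≠ -dim A/q'` -/
theorem notMem_support_T_of_minimal (q' : PrimeSpectrum A) (c : ℕ)
    (hc : Order.coheight q' = c) (j : ℤ) (hj : j ≠ -(c : ℤ)) :
    ∀ (N : Type u) [AddCommGroup N] [Module A N] [Module.Finite A N],
      (∀ p ∈ Module.support A N, p ≤ q' → p = q') → q' ∉ Module.support A (T ω j N) := by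
  intro N _ _ hfN
  induction hfN using IsNoetherianRing.induction_on_isQuotientEquivQuotientPrime A with
  | subsingleton N =>
    intro _ hp
    haveI := subsingleton_of_subsingleton ω (M := N) j
    rw [Module.support_eq_empty] at hp
    exact absurd hp (Set.notMem_empty _)
  | quotient N p e =>
    intro hmin hq'
    rw [← (congr ω _ e).support_eq] at hq'
    have h1 := support_T_subset ω _ _ hq'
    rw [mem_support_quot_iff] at h1
    have hpN : p ∈ Module.support A N := by
      rw [e.support_eq, mem_support_quot_iff]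
    have hpq : p = q' := hmin p hpN h1
    subst hpq
    exact hj (eq_neg_coheight_of_mem_support hN p c hc j hq')
  | exact N₁ N₂ N₃ f g hf hg hfg h₁ h₃ =>
    intro hmin hq'
    rcases support_T_mid ω f g hf hg hfg _ hq' with h | h
    · exact h₃ (fun p hp hle => hmin p (Module.support_subset_of_surjective g hg hp) hle) h
    · exact h₁ (fun p hp hle => hmin p (Module.support_subset_of_injective f hf hp) hle) h

/-- a minimal element of the support of a finite module is an associated prime: there is an
injection `A/q' → N` -/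
theorem exists_injective_of_minimal (q' : PrimeSpectrum A) (N : Type v) [AddCommGroup N]
    [Module A N] [Module.Finite A N] (hq' : q' ∈ Module.support A N)
    (hmin : ∀ p ∈ Module.support A N, p ≤ q' → p = q') :
    ∃ ι : (A ⧸ q'.asIdeal) →ₗ[A] N, Function.Injective ι := by
  have hmem : q'.asIdeal ∈ (Module.annihilator A N).minimalPrimes := by
    refine ⟨⟨q'.2, Module.annihilator_le_of_mem_support hq'⟩, ?_⟩
    rintro p ⟨hp, hle⟩ hpq
    have hpN : (⟨p, hp⟩ : PrimeSpectrum A) ∈ Module.support A N := by
      rw [Module.support_eq_zeroLocus, PrimeSpectrum.mem_zeroLocus, SetLike.coe_subset_coe]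
      exact hle
    have := hmin ⟨p, hp⟩ hpN hpq
    rw [← this]
  have hass : IsAssociatedPrime q'.asIdeal N :=
    Module.associatedPrimes.minimalPrimes_annihilator_subset_associatedPrimes A N hmem
  obtain ⟨_, n₀, hn₀⟩ := Submodule.isAssociatedPrime_iff.mp hass
  have hker : LinearMap.ker (LinearMap.toSpanSingleton A N n₀) = q'.asIdeal := by
    rw [hn₀]
    ext a
    rw [LinearMap.mem_ker, LinearMap.toSpanSingleton_apply, Submodule.mem_colon_singleton,
      Submodule.mem_bot]
  refine ⟨Submodule.liftQ q'.asIdeal (LinearMap.toSpanSingleton A N n₀) (le_of_eq hker.symm), ?_⟩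
  rw [← LinearMap.ker_eq_bot, Submodule.ker_liftQ, hker, Submodule.mkQ_map_self]

include hN in
/-- non-vanishing at a minimal prime of the support -/
theorem mem_support_T_of_minimal (q' : PrimeSpectrum A) (c : ℕ) (hc : Order.coheight q' = c)
    (hq' : q' ∈ Module.support A (T ω (-(c : ℤ)) (A ⧸ q'.asIdeal)))
    (N : Type u) [AddCommGroup N] [Module A N] [Module.Finite A N]
    (hqN : q' ∈ Module.support A N) (hmin : ∀ p ∈ Module.support A N, p ≤ q' → p = q') :
    q' ∈ Module.support A (T ω (-(c : ℤ)) N) := by
  obtain ⟨ι, hι⟩ := exists_injective_of_minimal q' N hqN hmin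
  have hg : Function.Surjective (LinearMap.range ι).mkQ := Submodule.mkQ_surjective _
  have hex : Function.Exact ι (LinearMap.range ι).mkQ := LinearMap.exact_map_mkQ_range ι
  have h1 : q' ∉ Module.support A (T ω (-(c : ℤ) + 1) (N ⧸ LinearMap.range ι)) := by
    apply notMem_support_T_of_minimal hN q' c hc _ (by omega)
    intro p hp hle
    exact hmin p (Module.support_subset_of_surjective _ hg hp) hle
  rcases support_T_left ω ι _ hι hg hex (-(c : ℤ)) (-(c : ℤ) + 1) rfl hq' with h | h
  · exact h
  · exact absurd h h1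

theorem isSMulRegular_quot (q : Ideal A) [hq : q.IsPrime] (x : A) (hx : x ∉ q) :
    IsSMulRegular (A ⧸ q) x := by
  intro y z hyz
  obtain ⟨y, rfl⟩ := Ideal.Quotient.mk_surjective y
  obtain ⟨z, rfl⟩ := Ideal.Quotient.mk_surjective z
  have h1 : (Ideal.Quotient.mk q (x * y)) = Ideal.Quotient.mk q (x * z) := hyz
  rw [Ideal.Quotient.eq, ← mul_sub] at h1
  rw [Ideal.Quotient.eq]
  exact (hq.mem_or_mem h1).resolve_left hx

theorem range_precomp_lsmul_le (W : Dual.D A) (j : ℤ) (M : Type u) [AddCommGroup M] [Module A M]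
    (x : A) :
    LinearMap.range (precomp W j (LinearMap.lsmul A M x)) ≤
      x • (⊤ : Submodule A (T W j M)) := by
  rintro _ ⟨t, rfl⟩
  rw [lsmul_eq_smul_id, precomp_smul_id]
  exact Submodule.smul_mem_pointwise_smul t x ⊤ trivial

include hN in
/-- **the dimension function**: `q ∈ Supp T^{-dim A/q}(A/q)` -/
theorem mem_support_T_quot : ∀ (e : ℕ) (q : PrimeSpectrum A), Order.coheight q = e →
    q ∈ Module.support A (T ω (-(e : ℤ)) (A ⧸ q.asIdeal)) := by
  intro e
  induction e with
  | zero =>
    intro q hq
    have hmax : IsMax q := Order.coheight_eq_zero.mp (by simpa using hq)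
    have hqm : q = closedPoint A := by
      have h1 : q ≤ closedPoint A := IsLocalRing.le_maximalIdeal q.2.ne_top
      exact le_antisymm h1 (hmax h1)
    subst hqm
    haveI : Nontrivial (T ω (-((0 : ℕ) : ℤ)) (A ⧸ (closedPoint A).asIdeal)) := hN.kappa0
    obtain ⟨p, hp⟩ := Module.nonempty_support_of_nontrivial (R := A)
      (M := T ω (-((0 : ℕ) : ℤ)) (A ⧸ (closedPoint A).asIdeal))
    have h1 := support_T_subset ω _ _ hp
    rw [mem_support_quot_iff] at h1
    have h2 : p ≤ closedPoint A := IsLocalRing.le_maximalIdeal p.2.ne_top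
    have : p = closedPoint A := le_antisymm h2 h1
    rwa [this] at hp
  | succ e ih =>
    intro q hq
    have hfin : ∀ p : PrimeSpectrum A, Order.coheight p < ⊤ := fun p => Order.coheight_lt_top p
    obtain ⟨s, hs, hl⟩ := Order.exists_series_of_coheight_eq_coe q hq
    have hlen : s.length ≠ 0 := by omega
    obtain ⟨q', hq'def⟩ : ∃ q' : PrimeSpectrum A, q' = (s.tail hlen).head := ⟨_, rfl⟩
    have hq'1 : q' = s 1 := by rw [hq'def]; exact RelSeries.head_tail s hlen
    have hqq' : q < q' := by
      rw [hq'1, ← hs]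
      apply s.strictMono
      rw [Fin.lt_def, Fin.val_zero, Fin.val_one', Nat.mod_eq_of_lt (by omega)]
      exact Nat.one_pos
    have hc1 : (e : ℕ∞) ≤ Order.coheight q' := by
      have h1 := Order.length_le_coheight_head (p := s.tail hlen)
      rw [← hq'def] at h1
      have h2 : (s.tail hlen).length = e := by
        change s.length - 1 = e
        omega
      rw [h2] at h1
      exact h1
    have hc2 : Order.coheight q' < Order.coheight q := Order.coheight_strictAnti hqq' (hfin q')
    have hc : Order.coheight q' = e := by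
      refine le_antisymm ?_ hc1
      rw [hq] at hc2
      have : ((e + 1 : ℕ) : ℕ∞) = (e : ℕ∞) + 1 := by push_cast; rfl
      rw [this] at hc2
      exact Order.le_of_lt_add_one hc2
    have hbetween : ∀ p : PrimeSpectrum A, q ≤ p → p ≤ q' → p = q ∨ p = q' := by
      intro p hqp hpq'
      by_contra hne
      push Not at hne
      have h1 : q < p := lt_of_le_of_ne hqp (Ne.symm hne.1)
      have h2 : p < q' := lt_of_le_of_ne hpq' hne.2
      have h3 := Order.coheight_strictAnti h2 (hfin q')
      have h4 := Order.coheight_strictAnti h1 (hfin p)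
      rw [hc] at h3
      rw [hq] at h4
      obtain ⟨n, hn⟩ := ENat.ne_top_iff_exists.mp (hfin p).ne
      rw [← hn] at h3 h4
      have h3' : e < n := by exact_mod_cast h3
      have h4' : n < e + 1 := by exact_mod_cast h4
      omega
    have hnle : ¬ q'.asIdeal ≤ q.asIdeal := fun h => not_le_of_gt hqq' h
    obtain ⟨x, hxq', hxq⟩ := SetLike.not_le_iff_exists.mp hnle
    haveI := q.2
    have hreg : IsSMulRegular (A ⧸ q.asIdeal) x := isSMulRegular_quot q.asIdeal x hxq
    have hsurj : Function.Surjective (x • (⊤ : Submodule A (A ⧸ q.asIdeal))).mkQ :=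
      Submodule.mkQ_surjective _
    have hex := exact_lsmul_mkQ (A ⧸ q.asIdeal) x
    have hxz : q' ∈ PrimeSpectrum.zeroLocus ({x} : Set A) := by
      rw [PrimeSpectrum.mem_zeroLocus, Set.singleton_subset_iff]
      exact hxq'
    -- the support of `(A/q)/x`
    have hq'M : q' ∈ Module.support A (QuotSMulTop x (A ⧸ q.asIdeal)) := by
      rw [Module.support_quotSMulTop]
      exact ⟨(mem_support_quot_iff _ _).mpr hqq'.le, hxz⟩
    have hminM : ∀ p ∈ Module.support A (QuotSMulTop x (A ⧸ q.asIdeal)), p ≤ q' → p = q' := by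
      intro p hp hle
      rw [Module.support_quotSMulTop] at hp
      have h1 : q ≤ p := (mem_support_quot_iff _ _).mp hp.1
      have h2 : x ∈ p.asIdeal := by
        have := hp.2
        rw [PrimeSpectrum.mem_zeroLocus, Set.singleton_subset_iff] at this
        exact this
      rcases hbetween p h1 hle with h | h
      · rw [h] at h2
        exact absurd h2 hxq
      · exact h
    -- step a
    have ha : q' ∈ Module.support A (T ω (-(e : ℤ)) (QuotSMulTop x (A ⧸ q.asIdeal))) :=
      mem_support_T_of_minimal hN q' e hc (ih q' hc) _ hq'M hminM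
    -- step b
    have hb : q' ∉ Module.support A (T ω (-(e : ℤ)) (A ⧸ q.asIdeal)) := by
      have hV1 : q' ∉ Module.support A
          (T ω (-(e : ℤ) + 1) (QuotSMulTop x (A ⧸ q.asIdeal))) :=
        notMem_support_T_of_minimal hN q' e hc _ (by omega) _ hminM
      have hker := ker_conn_le_range_precomp ω (LinearMap.lsmul A (A ⧸ q.asIdeal) x) _ hreg hsurj
        hex (-(e : ℤ)) (-(e : ℤ) + 1) rfl
      have hsub := support_quotient_subset_of_ker_le _ _
        (hker.trans (range_precomp_lsmul_le ω _ _ x))
      intro hmem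
      apply hV1
      apply hsub
      haveI := hN.finT (-(e : ℤ)) (A ⧸ q.asIdeal)
      change q' ∈ Module.support A (QuotSMulTop x (T ω (-(e : ℤ)) (A ⧸ q.asIdeal)))
      rw [Module.support_quotSMulTop]
      exact ⟨hmem, hxz⟩
    -- step c
    have hj : (-((e + 1 : ℕ) : ℤ)) + 1 = -(e : ℤ) := by push_cast; ring
    have hcE : q' ∈ Module.support A (T ω (-((e + 1 : ℕ) : ℤ)) (A ⧸ q.asIdeal)) := by
      rcases support_T_right ω (LinearMap.lsmul A (A ⧸ q.asIdeal) x) _ hreg hsurj hex _ _ hj ha
        with h | h
      · exact h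
      · exact absurd h hb
    -- step d
    by_contra hqE
    have hminE : ∀ p ∈ Module.support A (T ω (-((e + 1 : ℕ) : ℤ)) (A ⧸ q.asIdeal)),
        p ≤ q' → p = q' := by
      intro p hp hle
      have h1 : q ≤ p := (mem_support_quot_iff _ _).mp (support_T_subset ω _ _ hp)
      rcases hbetween p h1 hle with h | h
      · rw [h] at hp
        exact absurd hp hqE
      · exact h
    haveI := hN.finT (-((e + 1 : ℕ) : ℤ)) (A ⧸ q.asIdeal)
    obtain ⟨ι, hι⟩ := exists_injective_of_minimal q' _ hcE hminE
    have hxt : precomp ω (-((e + 1 : ℕ) : ℤ)) (LinearMap.lsmul A (A ⧸ q.asIdeal) x)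
        (ι (Submodule.Quotient.mk 1)) = 0 := by
      rw [lsmul_eq_smul_id, precomp_smul_id, ← map_smul, ← Submodule.Quotient.mk_smul]
      have : (Submodule.Quotient.mk (x • (1 : A)) : A ⧸ q'.asIdeal) = 0 := by
        rw [Submodule.Quotient.mk_eq_zero, smul_eq_mul, mul_one]
        exact hxq'
      rw [this, map_zero]
    obtain ⟨s₀, hs₀⟩ := ker_precomp_le_range ω (LinearMap.lsmul A (A ⧸ q.asIdeal) x) _ hreg hsurj
      hex _ (LinearMap.mem_ker.mpr hxt)
    have hV2 : q' ∉ Module.support A
        (T ω (-((e + 1 : ℕ) : ℤ)) (QuotSMulTop x (A ⧸ q.asIdeal))) :=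
      notMem_support_T_of_minimal hN q' e hc _ (by push_cast; omega) _ hminM
    obtain ⟨a, ha', has⟩ := Module.notMem_support_iff'.mp hV2 s₀
    have h1 : a • ι (Submodule.Quotient.mk 1) = 0 := by
      rw [← hs₀, ← map_smul, has, map_zero]
    rw [← map_smul, ← Submodule.Quotient.mk_smul] at h1
    have h2 := hι (h1.trans (map_zero ι).symm)
    rw [Submodule.Quotient.mk_eq_zero, smul_eq_mul, mul_one] at h2
    exact ha' h2

include hN in
/-- `T^{-d}(M) ≠ 0` for `d = dim Supp M` -/
theorem nontrivial_T_top (M : Type u) [AddCommGroup M] [Module A M] [Module.Finite A M]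
    [Nontrivial M] (d : ℕ) (hd : Module.supportDim A M = d) :
    Nontrivial (T ω (-(d : ℤ)) M) := by
  have hle : ∀ p ∈ Module.support A M, Order.coheight p ≤ (d : ℕ∞) :=
    (supportDim_le_iff M d).mp (le_of_eq hd)
  -- a prime of the support of coheight `d`
  obtain ⟨q, hqM, hqd⟩ : ∃ q ∈ Module.support A M, Order.coheight q = (d : ℕ∞) := by
    by_contra hcon
    push Not at hcon
    have hlt : ∀ p ∈ Module.support A M, Order.coheight p < (d : ℕ∞) :=
      fun p hp => lt_of_le_of_ne (hle p hp) (hcon p hp)
    cases d with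
    | zero =>
      obtain ⟨p, hp⟩ := Module.nonempty_support_of_nontrivial (R := A) (M := M)
      exact absurd (hlt p hp) (by simp)
    | succ d =>
      have h1 : Module.supportDim A M ≤ ((d : ℕ∞) : WithBot ℕ∞) := by
        rw [supportDim_le_iff]
        intro p hp
        have := hlt p hp
        have h2 : ((d + 1 : ℕ) : ℕ∞) = (d : ℕ∞) + 1 := by push_cast; rfl
        rw [h2] at this
        exact Order.le_of_lt_add_one this
      rw [hd] at h1
      have h3 : ((d + 1 : ℕ) : ℕ∞) ≤ (d : ℕ∞) := WithBot.coe_le_coe.mp h1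
      have h4 : d + 1 ≤ d := by exact_mod_cast h3
      omega
  have hfin : ∀ p : PrimeSpectrum A, Order.coheight p < ⊤ := fun p => Order.coheight_lt_top p
  have hmin : ∀ p ∈ Module.support A M, p ≤ q → p = q := by
    intro p hp hpq
    by_contra hne
    have h1 : p < q := lt_of_le_of_ne hpq hne
    have h2 := Order.coheight_strictAnti h1 (hfin q)
    rw [hqd] at h2
    exact absurd (hle p hp) (not_le_of_gt h2)
  exact nontrivial_of_mem_support
    (mem_support_T_of_minimal hN q d hqd (mem_support_T_quot hN d q hqd) M hqM hmin)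

end DF

end Groth.Agent.H2.DualCx
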