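import Mathlib
import Groth.Agent.H2.DualCx.Support2
import Groth.Agent.H72.DepthLocIneq
import Groth.Agent.H15.DepthLoc

/-!
# `Supp Ext^{-j}(M, ω)` and `depth M_p + dim A/p`  (helper2)

For a normalized dualizing complex `ω` over a Noetherian local ring `A`, a finite module `M` and a
prime `p`: the smallest `j` with `p ∈ Supp T^{-j}(M)` is `depth_{A_p} M_p + dim A/p`.
-/

set_option autoImplicit false
set_option linter.unusedSectionVars false
set_option linter.style.haveILetI false

namespace Groth.Agent.H2.DualCx

universe u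

open CategoryTheory CategoryTheory.Limits Pretriangulated DerivedCategory IsLocalRing

attribute [local instance] HasDerivedCategory.standard

section PLocal

open scoped Pointwise

variable {A : Type u} [CommRing A] [IsNoetherianRing A] (W : Dual.D A) (p : PrimeSpectrum A)

/-- a surjection whose kernel is not supported at `p` induces a `p`-local isomorphism on `T^k` -/
theorem mem_support_T_iff_of_surjective {N N' : Type u} [AddCommGroup N] [Module A N]
    [Module.Finite A N] [AddCommGroup N'] [Module A N'] [Module.Finite A N'] (f : N →ₗ[A] N')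
    (hf : Function.Surjective f) (hker : p ∉ Module.support A (LinearMap.ker f)) (k : ℤ) :
    p ∈ Module.support A (T W k N) ↔ p ∈ Module.support A (T W k N') := by
  haveI : IsNoetherian A N := isNoetherian_of_isNoetherianRing_of_finite A N
  haveI : Module.Finite A (LinearMap.ker f) := Module.IsNoetherian.finite A _
  have hinj : Function.Injective (LinearMap.ker f).subtype := Submodule.injective_subtype _
  have hex : Function.Exact (LinearMap.ker f).subtype f := LinearMap.exact_subtype_ker_map f
  have hK : ∀ j, p ∉ Module.support A (T W j (LinearMap.ker f)) :=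
    fun j h => hker (support_T_subset W j _ h)
  constructor
  · intro h
    rcases support_T_mid W _ f hinj hf hex k h with h1 | h1
    · exact h1
    · exact absurd h1 (hK k)
  · intro h
    rcases support_T_right W _ f hinj hf hex (k - 1) k (by ring) h with h1 | h1
    · exact absurd h1 (hK _)
    · exact h1

/-- Nakayama step for a regular element `x ∈ p` -/
theorem mem_support_T_succ_of_regular (hfin : FinT W) (N : Type u) [AddCommGroup N] [Module A N]
    [Module.Finite A N] (x : A) (hxp : x ∈ p.asIdeal) (hreg : IsSMulRegular N x) (k k' : ℤ)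
    (hk : k + 1 = k') (hp : p ∈ Module.support A (T W k N)) :
    p ∈ Module.support A (T W k' (QuotSMulTop x N)) := by
  have hex := exact_lsmul_mkQ N x
  have hsurj : Function.Surjective (x • (⊤ : Submodule A N)).mkQ := Submodule.mkQ_surjective _
  have hker := ker_conn_le_range_precomp W (LinearMap.lsmul A N x) _ hreg hsurj hex k k' hk
  have hrange : LinearMap.range (precomp W k (LinearMap.lsmul A N x)) ≤
      x • (⊤ : Submodule A (T W k N)) := by
    rintro _ ⟨t, rfl⟩
    rw [lsmul_eq_smul_id, precomp_smul_id]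
    exact Submodule.smul_mem_pointwise_smul t x ⊤ trivial
  have h1 := support_quotient_subset_of_ker_le _ _ (hker.trans hrange)
  haveI := hfin k N
  have h2 : p ∈ Module.support A (QuotSMulTop x (T W k N)) := by
    rw [Module.support_quotSMulTop]
    refine ⟨hp, ?_⟩
    rw [PrimeSpectrum.mem_zeroLocus, Set.singleton_subset_iff]
    exact hxp
  exact h1 h2

theorem mem_support_T_of_regular (N : Type u) [AddCommGroup N] [Module A N]
    [Module.Finite A N] (x : A) (hreg : IsSMulRegular N x) (k k' : ℤ) (hk : k + 1 = k')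
    (h1 : p ∈ Module.support A (T W k' (QuotSMulTop x N)))
    (h2 : p ∉ Module.support A (T W k' N)) : p ∈ Module.support A (T W k N) := by
  have hex := exact_lsmul_mkQ N x
  have hsurj : Function.Surjective (x • (⊤ : Submodule A N)).mkQ := Submodule.mkQ_surjective _
  rcases support_T_right W (LinearMap.lsmul A N x) _ hreg hsurj hex k k' hk h1 with h | h
  · exact h
  · exact absurd h h2

variable (M : Type u) [AddCommGroup M] [Module A M] [Module.Finite A M]

/-- the kernel of `M → M_p` -/
noncomputable def tors : Submodule A M :=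
  LinearMap.ker (LocalizedModule.mkLinearMap p.asIdeal.primeCompl M)

theorem mem_tors_iff (m : M) : m ∈ tors p M ↔ ∃ s : A, s ∉ p.asIdeal ∧ s • m = 0 := by
  unfold tors
  rw [LinearMap.mem_ker, IsLocalizedModule.eq_zero_iff p.asIdeal.primeCompl]
  constructor
  · rintro ⟨s, hs⟩
    exact ⟨s.1, s.2, hs⟩
  · rintro ⟨s, hs, h⟩
    exact ⟨⟨s, hs⟩, h⟩

theorem notMem_support_tors : p ∉ Module.support A (tors p M) := by
  rw [Module.notMem_support_iff']
  rintro ⟨m, hm⟩
  obtain ⟨s, hs, h⟩ := (mem_tors_iff p M m).mp hm
  exact ⟨s, hs, Subtype.ext h⟩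

theorem isSMulRegular_quot_tors (x : A)
    (hx : IsSMulRegular (LocalizedModule p.asIdeal.primeCompl M)
      (algebraMap A (Localization.AtPrime p.asIdeal) x)) :
    IsSMulRegular (M ⧸ tors p M) x := by
  rw [isSMulRegular_iff_right_eq_zero_of_smul]
  intro m hm
  obtain ⟨m, rfl⟩ := Submodule.Quotient.mk_surjective _ m
  rw [← Submodule.Quotient.mk_smul, Submodule.Quotient.mk_eq_zero] at hm
  rw [Submodule.Quotient.mk_eq_zero]
  unfold tors at hm ⊢
  rw [LinearMap.mem_ker] at hm ⊢
  rw [map_smul, ← algebraMap_smul (Localization.AtPrime p.asIdeal) x] at hm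
  exact hx.right_eq_zero_of_smul hm

theorem notMem_support_ker_map (x : A) :
    p ∉ Module.support A (LinearMap.ker (QuotSMulTop.map x (tors p M).mkQ)) := by
  rw [Module.notMem_support_iff']
  rintro ⟨z, hz⟩
  obtain ⟨m, rfl⟩ := Submodule.Quotient.mk_surjective _ z
  rw [LinearMap.mem_ker, QuotSMulTop.map_apply_mk, Submodule.Quotient.mk_eq_zero] at hz
  obtain ⟨m', -, hm'⟩ := (Submodule.mem_smul_pointwise_iff_exists _ _ _).mp hz
  obtain ⟨m', rfl⟩ := Submodule.mkQ_surjective _ m'
  have hmem : m - x • m' ∈ tors p M := by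
    rw [← Submodule.Quotient.mk_eq_zero, Submodule.Quotient.mk_sub, Submodule.Quotient.mk_smul,
      sub_eq_zero]
    exact hm'.symm
  obtain ⟨s, hs, h⟩ := (mem_tors_iff p M _).mp hmem
  refine ⟨s, hs, ?_⟩
  apply Subtype.ext
  change s • (Submodule.Quotient.mk m : QuotSMulTop x M) = 0
  rw [← Submodule.Quotient.mk_smul, Submodule.Quotient.mk_eq_zero]
  have h' : s • m = x • (s • m') := by
    rw [smul_sub, sub_eq_zero] at h
    rw [h, smul_comm]
  rw [h']
  exact Submodule.smul_mem_pointwise_smul _ x ⊤ trivial

/-- **N1**: if `x ∈ p` is `M_p`-regular and `p ∈ Supp T^k(M)` then `p ∈ Supp T^{k+1}(M/xM)` -/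
theorem mem_support_T_succ_quot (hfin : FinT W) (x : A) (hxp : x ∈ p.asIdeal)
    (hx : IsSMulRegular (LocalizedModule p.asIdeal.primeCompl M)
      (algebraMap A (Localization.AtPrime p.asIdeal) x)) (k k' : ℤ) (hk : k + 1 = k')
    (hp : p ∈ Module.support A (T W k M)) :
    p ∈ Module.support A (T W k' (QuotSMulTop x M)) := by
  have e1 := mem_support_T_iff_of_surjective W p (tors p M).mkQ (Submodule.mkQ_surjective _)
    (by rw [Submodule.ker_mkQ]; exact notMem_support_tors p M) k
  have e2 := mem_support_T_iff_of_surjective W p (QuotSMulTop.map x (tors p M).mkQ)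
    (QuotSMulTop.map_surjective x (Submodule.mkQ_surjective _)) (notMem_support_ker_map p M x) k'
  rw [e2]
  exact mem_support_T_succ_of_regular W p hfin _ x hxp (isSMulRegular_quot_tors p M x hx) k k' hk
    (e1.mp hp)

/-- **N2**: if `x ∈ p` is `M_p`-regular, `p ∈ Supp T^{k+1}(M/xM)` and `p ∉ Supp T^{k+1}(M)` then
`p ∈ Supp T^k(M)` -/
theorem mem_support_T_of_quot (x : A)
    (hx : IsSMulRegular (LocalizedModule p.asIdeal.primeCompl M)
      (algebraMap A (Localization.AtPrime p.asIdeal) x)) (k k' : ℤ) (hk : k + 1 = k')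
    (h1 : p ∈ Module.support A (T W k' (QuotSMulTop x M)))
    (h2 : p ∉ Module.support A (T W k' M)) : p ∈ Module.support A (T W k M) := by
  have e1 := fun j => mem_support_T_iff_of_surjective W p (tors p M).mkQ
    (Submodule.mkQ_surjective _) (by rw [Submodule.ker_mkQ]; exact notMem_support_tors p M) j
  have e2 := mem_support_T_iff_of_surjective W p (QuotSMulTop.map x (tors p M).mkQ)
    (QuotSMulTop.map_surjective x (Submodule.mkQ_surjective _)) (notMem_support_ker_map p M x) k'
  rw [e1 k]
  exact mem_support_T_of_regular W p _ x (isSMulRegular_quot_tors p M x hx) k k' hk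
    (e2.mp h1) (fun h => h2 ((e1 k').mpr h))

/-- if `p ∉ Ass M`, some `x ∈ p` is `M_p`-regular -/
theorem exists_regular_localization (hp : p.asIdeal ∉ associatedPrimes A M) :
    ∃ x ∈ p.asIdeal, IsSMulRegular (LocalizedModule p.asIdeal.primeCompl M)
      (algebraMap A (Localization.AtPrime p.asIdeal) x) := by
  have hfin : {q ∈ associatedPrimes A M | q ≤ p.asIdeal}.Finite :=
    (associatedPrimes.finite A M).subset (fun q hq => hq.1)
  have hnot : ¬ ((p.asIdeal : Set A) ⊆
      ⋃ q ∈ {q ∈ associatedPrimes A M | q ≤ p.asIdeal}, (q : Set A)) := by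
    intro hsub
    obtain ⟨q, hq, hpq⟩ := (Ideal.subset_union_prime_finite hfin p.asIdeal p.asIdeal (by
      intro Q hQ _ _
      exact IsAssociatedPrime.isPrime hQ.1)).mp hsub
    have hqp : q = p.asIdeal := le_antisymm hq.2 hpq
    exact hp (hqp ▸ hq.1)
  rw [Set.not_subset] at hnot
  obtain ⟨x, hxp, hxT⟩ := hnot
  simp only [Set.mem_iUnion, not_exists] at hxT
  exact ⟨x, hxp, Groth.Agent.H72.DepthLocIneq.isSMulRegular_localization_of_notMem M p.asIdeal x
    (fun q hq hqs hxq => hxT q ⟨hq, hqs⟩ hxq)⟩

end PLocal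

section Main

variable {A : Type u} [CommRing A] [IsNoetherianRing A] [IsLocalRing A]
variable {ω : Dual.D A} (hN : Norm ω) (p : PrimeSpectrum A) (c : ℕ) (hc : Order.coheight p = c)

include hN hc in
/-- `p ∉ Supp T^k(M)` for `k > -dim A/p` -/
theorem notMem_support_T_of_gt (k : ℤ) (hk : -(c : ℤ) < k) (M : Type u) [AddCommGroup M]
    [Module A M] [Module.Finite A M] : p ∉ Module.support A (T ω k M) := by
  intro hp
  by_cases hpos : 0 < k
  · haveI := pos_vanish hN M k hpos
    rw [Module.support_eq_empty] at hp
    exact absurd hp (Set.notMem_empty p)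
  · push Not at hpos
    obtain ⟨n, hn⟩ := Int.eq_ofNat_of_zero_le (by omega : 0 ≤ -k)
    have hk' : k = -(n : ℤ) := by omega
    rw [hk'] at hp
    have h1 := coheight_le_of_mem_support_T hN n M p hp
    rw [hc] at h1
    have : c ≤ n := by exact_mod_cast h1
    omega

include hN hc in
/-- the lower bound `L(r)` and the non-vanishing `U(r)` -/
theorem depth_support_aux (r : ℕ) : ∀ (M : Type u) [AddCommGroup M] [Module A M]
    [Module.Finite A M],
    ((r : ℕ∞) ≤ LocCoh.depth (Localization.AtPrime p.asIdeal)
        (LocalizedModule p.asIdeal.primeCompl M) →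
      ∀ k : ℤ, -((r : ℤ) + c) < k → p ∉ Module.support A (T ω k M)) ∧
    (LocCoh.depth (Localization.AtPrime p.asIdeal) (LocalizedModule p.asIdeal.primeCompl M) = r →
      p ∈ Module.support A (T ω (-((r : ℤ) + c)) M)) := by
  induction r with
  | zero =>
    intro M _ _ _
    refine ⟨fun _ k hk => notMem_support_T_of_gt hN p c hc k (by simpa using hk) M, fun hd => ?_⟩
    have hass : p.asIdeal ∈ associatedPrimes A M := by
      by_contra hcon
      obtain ⟨x, hxp, hx⟩ := exists_regular_localization p M hcon
      have h1 := Groth.Agent.H72.DepthLocIneq.depth_localization_quot_add_one_le M p.asIdeal x hxp hx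
      rw [hd] at h1
      simp at h1
    obtain ⟨-, f, hf⟩ := (isAssociatedPrime_iff_exists_injective_linearMap _ _).mp hass
    have hg : Function.Surjective (LinearMap.range f).mkQ := Submodule.mkQ_surjective _
    have hex : Function.Exact f (LinearMap.range f).mkQ := LinearMap.exact_map_mkQ_range f
    have h1 := mem_support_T_quot hN c p hc
    have h2 := support_T_left ω f _ hf hg hex (-(c : ℤ)) (-(c : ℤ) + 1) rfl h1
    rcases h2 with h | h
    · have e : -(((0 : ℕ) : ℤ) + c) = -(c : ℤ) := by simp
      rw [e]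
      exact h
    · exact absurd h (notMem_support_T_of_gt hN p c hc _ (by omega) _)
  | succ r ih =>
    intro M _ _ _
    have hL : ((r + 1 : ℕ) : ℕ∞) ≤ LocCoh.depth (Localization.AtPrime p.asIdeal)
        (LocalizedModule p.asIdeal.primeCompl M) →
        ∀ k : ℤ, -(((r + 1 : ℕ) : ℤ) + c) < k → p ∉ Module.support A (T ω k M) := by
      intro hd k hk hp
      have hass : p.asIdeal ∉ associatedPrimes A M := by
        intro hass
        have h0 := Groth.Agent.H15.depth_localization_eq_zero_of_mem_associatedPrimes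
          M p.asIdeal hass
        have h1 := hd.trans h0
        simp at h1
      obtain ⟨x, hxp, hx⟩ := exists_regular_localization p M hass
      have h1 := Groth.Agent.H72.DepthLocIneq.depth_localization_le_quot_add_one M p.asIdeal x
        hxp hx
      have h2 : (r : ℕ∞) ≤ LocCoh.depth (Localization.AtPrime p.asIdeal)
          (LocalizedModule p.asIdeal.primeCompl (QuotSMulTop x M)) := by
        have h3 := hd.trans h1
        have h4 : ((r + 1 : ℕ) : ℕ∞) = (r : ℕ∞) + 1 := by push_cast; rfl
        rw [h4] at h3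
        exact (ENat.add_le_add_iff_right (by simp)).mp h3
      have h3 := mem_support_T_succ_quot ω p M hN.finT x hxp hx k (k + 1) rfl hp
      exact (ih (QuotSMulTop x M)).1 h2 (k + 1) (by push_cast at hk ⊢; omega) h3
    refine ⟨hL, fun hd => ?_⟩
    have hass : p.asIdeal ∉ associatedPrimes A M := by
      intro hass
      have h0 := Groth.Agent.H15.depth_localization_eq_zero_of_mem_associatedPrimes
        M p.asIdeal hass
      rw [hd] at h0
      simp at h0
    obtain ⟨x, hxp, hx⟩ := exists_regular_localization p M hass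
    have h1 := Groth.Agent.H72.DepthLocIneq.depth_localization_le_quot_add_one M p.asIdeal x
      hxp hx
    have h1' := Groth.Agent.H72.DepthLocIneq.depth_localization_quot_add_one_le M p.asIdeal x
      hxp hx
    have h2 : LocCoh.depth (Localization.AtPrime p.asIdeal)
        (LocalizedModule p.asIdeal.primeCompl (QuotSMulTop x M)) = r := by
      have h3 := le_antisymm h1' h1
      rw [hd] at h3
      have h4 : ((r + 1 : ℕ) : ℕ∞) = (r : ℕ∞) + 1 := by push_cast; rfl
      rw [h4] at h3
      exact (ENat.add_left_injective_of_ne_top (by simp)) h3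
    have h3 := (ih (QuotSMulTop x M)).2 h2
    have h4 := hL hd.ge (-((r : ℤ) + c)) (by push_cast; omega)
    exact mem_support_T_of_quot ω p M x hx (-(((r + 1 : ℕ) : ℤ) + c)) (-((r : ℤ) + c))
      (by push_cast; ring) h3 h4

include hN in
/-- `p ∈ Supp T^{-j}(M)` for some `j ≤ i` iff `depth M_p + dim A/p ≤ i` -/
theorem exists_mem_support_T_iff (M : Type u) [AddCommGroup M] [Module A M] [Module.Finite A M]
    (i : ℕ) :
    (∃ j : ℕ, j ≤ i ∧ p ∈ Module.support A (T ω (-(j : ℤ)) M)) ↔
      ((LocCoh.depth (Localization.AtPrime p.asIdeal)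
        (LocalizedModule p.asIdeal.primeCompl M) : ℕ∞) : WithBot ℕ∞) +
        ringKrullDim (A ⧸ p.asIdeal) ≤ (i : WithBot ℕ∞) := by
  obtain ⟨c, hc⟩ := ENat.ne_top_iff_exists.mp (Order.coheight_lt_top p).ne
  have hc' : Order.coheight p = c := hc.symm
  rw [← Groth.Agent.H24.coheight_eq_ringKrullDim_quotient p, hc']
  constructor
  · rintro ⟨j, hji, hp⟩
    rcases eq_or_ne (LocCoh.depth (Localization.AtPrime p.asIdeal)
        (LocalizedModule p.asIdeal.primeCompl M)) ⊤ with htop | hne
    · exfalso
      exact (depth_support_aux hN p c hc' (j + 1) M).1 (by rw [htop]; exact le_top) (-(j : ℤ))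
        (by push_cast; omega) hp
    · obtain ⟨r, hr⟩ := ENat.ne_top_iff_exists.mp hne
      rw [← hr]
      have hle : (r : ℤ) + c ≤ j := by
        by_contra hcon
        push Not at hcon
        exact (depth_support_aux hN p c hc' r M).1 (by rw [hr]) (-(j : ℤ)) (by omega) hp
      have hle' : r + c ≤ i := by omega
      exact_mod_cast hle'
  · intro h
    rcases eq_or_ne (LocCoh.depth (Localization.AtPrime p.asIdeal)
        (LocalizedModule p.asIdeal.primeCompl M)) ⊤ with htop | hne
    · exfalso
      rw [htop] at h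
      have : ((⊤ : ℕ∞) : WithBot ℕ∞) + ((c : ℕ∞) : WithBot ℕ∞) = ((⊤ : ℕ∞) : WithBot ℕ∞) := by
        rw [← WithBot.coe_add, top_add]
      rw [this] at h
      have h2 : ((⊤ : ℕ∞) : WithBot ℕ∞) ≤ ((i : ℕ∞) : WithBot ℕ∞) := h
      rw [WithBot.coe_le_coe] at h2
      simp at h2
    · obtain ⟨r, hr⟩ := ENat.ne_top_iff_exists.mp hne
      rw [← hr] at h
      have hle : r + c ≤ i := by exact_mod_cast h
      refine ⟨r + c, hle, ?_⟩
      have := (depth_support_aux hN p c hc' r M).2 hr.symm
      have e : -(((r + c : ℕ)) : ℤ) = -((r : ℤ) + c) := by push_cast; ring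
      rw [e]
      exact this

end Main

end Groth.Agent.H2.DualCx
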