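import Mathlib
import Groth.Agent.H2.DualCx.Support2

/-!
# Cohomology modules of a normalized dualizing complex at minimal primes  (helper2)
-/

set_option autoImplicit false
set_option linter.unusedSectionVars false
set_option linter.style.haveILetI false

namespace Groth.Agent.H2.DualCx

universe u v w

open CategoryTheory CategoryTheory.Limits Pretriangulated DerivedCategory IsLocalRing

attribute [local instance] HasDerivedCategory.standard

section Ann

variable {A : Type u} [CommRing A]

/-- if `a` kills `Hom(A[0], K)` then `a` kills `H^0(K)` -/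
theorem smul_homology_zero_eq_zero (K : Dual.D A) (a : A)
    (ha : ∀ f : Dual.inD A A ⟶ K, a • f = 0)
    (c : (DerivedCategory.homologyFunctor (ModuleCat.{u} A) 0).obj K) : a • c = 0 := by
  let L : CochainComplex (ModuleCat.{u} A) ℤ := DerivedCategory.Q.objPreimage K
  let e : DerivedCategory.Q.obj L ≅ K := DerivedCategory.Q.objObjPreimageIso K
  let e1 : (DerivedCategory.homologyFunctor (ModuleCat.{u} A) 0).obj K ≅ L.homology 0 :=
    (DerivedCategory.homologyFunctor (ModuleCat.{u} A) 0).mapIso e.symm ≪≫
      (DerivedCategory.homologyFunctorFactors (ModuleCat.{u} A) 0).app L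
  haveI : Projective (ModuleCat.of A A) := (IsProjective.iff_projective _).mp inferInstance
  have key : ∀ h : ModuleCat.of A A ⟶ L.homology 0, a • h = 0 := by
    intro h
    let z : ModuleCat.of A A ⟶ L.cycles 0 := Projective.factorThru h (L.homologyπ 0)
    have hz : z ≫ L.homologyπ 0 = h := Projective.factorThru_comp _ _
    let P0 : CochainComplex (ModuleCat.{u} A) ℤ :=
      (HomologicalComplex.single (ModuleCat.{u} A) (ComplexShape.up ℤ) 0).obj (ModuleCat.of A A)
    let f : P0 ⟶ L := HomologicalComplex.mkHomFromSingle (z ≫ L.iCycles 0) (by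
      intro k _
      rw [Category.assoc, HomologicalComplex.iCycles_d, comp_zero])
    have hf0 : DerivedCategory.Q.map (a • f) = 0 := by
      have h1 := ha (DerivedCategory.Q.map f ≫ e.hom)
      rw [← Linear.smul_comp] at h1
      have h2 : a • DerivedCategory.Q.map f = 0 := by
        rw [← cancel_mono e.hom, zero_comp]
        exact h1
      rw [Functor.map_smul]
      exact h2
    have : P0.IsKProjective := Groth.Agent.H33.BrownGA.isKProjective_single (ModuleCat.of A A)
    have hq := Groth.Agent.H33.BrownGA.quotient_map_eq_of_Q_map_eq P0 L (a • f) 0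
      (by rw [hf0, Functor.map_zero])
    have H : Homotopy (a • f) 0 := HomotopyCategory.homotopyOfEq _ _ hq
    have hcomm := H.comm 0
    have h1 : dNext 0 H.hom = 0 := by
      rw [dNext_eq H.hom (show (ComplexShape.up ℤ).Rel 0 1 by simp)]
      have : P0.d 0 1 = 0 := HomologicalComplex.single_obj_d _ _ _ _ _
      rw [this, zero_comp]
    have h2 : prevD 0 H.hom = H.hom 0 (-1) ≫ L.d (-1) 0 :=
      prevD_eq H.hom (show (ComplexShape.up ℤ).Rel (-1) 0 by simp)
    rw [h1, h2, HomologicalComplex.zero_f, zero_add, add_zero] at hcomm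
    have h3 : f.f 0 = (HomologicalComplex.singleObjXSelf (ComplexShape.up ℤ) 0
        (ModuleCat.of A A)).hom ≫ z ≫ L.iCycles 0 := by
      dsimp only [f]
      rw [HomologicalComplex.mkHomFromSingle_f]
    have h3' : (a • f).f 0 = a • f.f 0 := rfl
    have h4 : a • z = (HomologicalComplex.singleObjXSelf (ComplexShape.up ℤ) 0
        (ModuleCat.of A A)).inv ≫ H.hom 0 (-1) ≫ L.toCycles (-1) 0 := by
      rw [← cancel_mono (L.iCycles 0), Category.assoc, Category.assoc,
        HomologicalComplex.toCycles_i, ← hcomm, h3', h3, Linear.smul_comp, Linear.comp_smul,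
        Iso.inv_hom_id_assoc]
    rw [← hz, ← Linear.smul_comp, h4, Category.assoc, Category.assoc,
      HomologicalComplex.toCycles_comp_homologyπ, comp_zero, comp_zero]
  have h5 : a • e1.hom.hom c = 0 := by
    have := key (ModuleCat.ofHom (LinearMap.toSpanSingleton A _ (e1.hom.hom c)))
    have h6 := congrArg (fun t => t.hom (1 : A)) this
    change a • ((1 : A) • e1.hom.hom c) = 0 at h6
    rwa [one_smul] at h6
  have h7 : e1.hom.hom (a • c) = 0 := by rw [map_smul]; exact h5
  have h8 : e1.inv.hom (e1.hom.hom (a • c)) = a • c := by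
    have := congrArg (fun t => t.hom (a • c)) e1.hom_inv_id
    exact this
  rw [← h8, h7, map_zero]

/-- `Ann T^j(A) ≤ Ann H^j(W)` -/
theorem annihilator_T_self_le (W : Dual.D A) (j : ℤ) :
    Module.annihilator A (T W j A) ≤ Module.annihilator A (Dual.HD A W j) := by
  intro a ha
  rw [Module.mem_annihilator] at ha ⊢
  intro c
  have h1 := smul_homology_zero_eq_zero (W⟦j⟧) a ha ((shiftEquiv W j).symm c)
  have h2 : (shiftEquiv W j) (a • (shiftEquiv W j).symm c) = 0 := by rw [h1, map_zero]
  rwa [map_smul, LinearEquiv.apply_symm_apply] at h2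

/-- `Supp H^j(W) = Supp T^j(A)` when `H^j(W)` is finite -/
theorem support_HD_eq [IsNoetherianRing A] (W : Dual.D A) (j : ℤ)
    [Module.Finite A (Dual.HD A W j)] :
    Module.support A (Dual.HD A W j) = Module.support A (T W j A) := by
  haveI := finite_T_self W j inferInstance
  apply subset_antisymm
  · rw [Module.support_eq_zeroLocus, Module.support_eq_zeroLocus]
    exact PrimeSpectrum.zeroLocus_anti_mono (annihilator_T_self_le W j)
  · exact Module.support_subset_of_injective (Ψ W j) (Ψ_injective W j)

end Ann

section MinPrime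

variable {A : Type u} [CommRing A] [IsNoetherianRing A] [IsLocalRing A]
variable {ω : Dual.D A} (hN : Norm ω)

theorem mem_support_self (P : PrimeSpectrum A) : P ∈ Module.support A A := by
  rw [Module.mem_support_iff']
  refine ⟨1, fun r hr h0 => hr ?_⟩
  rw [smul_eq_mul, mul_one] at h0
  rw [h0]
  exact P.asIdeal.zero_mem

include hN in
/-- at a minimal prime `P`, `H^i(ω)_P ≠ 0` iff `i = -dim A/P` -/
theorem mem_support_HD_iff (hfin : ∀ i, Module.Finite A (Dual.HD A ω i)) (P : PrimeSpectrum A)
    (hP : P.asIdeal ∈ minimalPrimes A) (e : ℕ) (he : Order.coheight P = e) (i : ℤ) :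
    P ∈ Module.support A (Dual.HD A ω i) ↔ i = -(e : ℤ) := by
  haveI := hfin i
  rw [support_HD_eq]
  have hmin : ∀ p ∈ Module.support A A, p ≤ P → p = P := by
    intro p _ hle
    exact le_antisymm hle (hP.2 ⟨p.2, bot_le⟩ hle)
  constructor
  · intro h
    by_contra hne
    exact notMem_support_T_of_minimal hN P e he i hne A hmin h
  · rintro rfl
    exact mem_support_T_of_minimal hN P e he (mem_support_T_quot hN e P he) A
      (mem_support_self P) hmin

include hN in
theorem nontrivial_localizedModule_HD_iff (hfin : ∀ i, Module.Finite A (Dual.HD A ω i))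
    (p : Ideal A) (hp : p ∈ minimalPrimes A) (e : ℕ) (he : ringKrullDim (A ⧸ p) = e) (i : ℤ) :
    Nontrivial (LocalizedModule (Ideal.primeCompl p (hp := hp.1.1)) (Dual.HD A ω i)) ↔
      i = -(e : ℤ) := by
  have hcoh : Order.coheight (⟨p, hp.1.1⟩ : PrimeSpectrum A) = (e : ℕ∞) := by
    have h1 := Groth.Agent.H24.coheight_eq_ringKrullDim_quotient (⟨p, hp.1.1⟩ : PrimeSpectrum A)
    rw [he] at h1
    exact WithBot.coe_injective h1
  rw [← mem_support_HD_iff hN hfin ⟨p, hp.1.1⟩ hp e hcoh i, Module.mem_support_iff]

end MinPrime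

end Groth.Agent.H2.DualCx
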