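import Mathlib
import Groth.Agent.H2.DualCx.Support3
import Groth.Agent.H45.Derived.BoundedInduction

/-!
# A Noetherian ring with a dualizing complex has finite Krull dimension  (helper2)

Support calculus for `T^j(A/q) = Hom_{D(A)}(A/q, ω[j])` over an arbitrary Noetherian ring:

* dévissage: `P ∈ Supp T^j(M)` ⟹ `P ∈ Supp T^j(A/q)` for some prime `q ⊇ Ann M`;
* step: `q < P`, `P ∈ Supp T^j(A/q)` ⟹ `P ∈ Supp T^{j+1}(A/q')` for some prime `q' > q`;
* chain: `P ∈ Supp T^j(A/q)` ⟹ `P ∈ Supp T^{j+k}(A/P)` with `k ≥ 1` if `q ≠ P`;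
* non-emptiness: for a dualizing complex, every prime `P` lies in some `Supp T^j(A/P)`.

Hence the length of any chain of primes is bounded by the width of the injective amplitude.
-/

set_option autoImplicit false
set_option linter.unusedSectionVars false
set_option linter.style.haveILetI false

namespace Groth.Agent.H2.DualCx

universe u v w

open CategoryTheory CategoryTheory.Limits Pretriangulated DerivedCategory

attribute [local instance] HasDerivedCategory.standard

section Kill

variable {A : Type u} [CommRing A]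

/-- if `s` kills all cohomology modules of a bounded object `K` of `D(A)`, then a power of `s`
kills `K`. -/
theorem exists_pow_smul_id_eq_zero (K : Dual.D A) (a b : ℤ) (hGE : K.IsGE a) (hLE : K.IsLE b)
    (s : A) (hs : ∀ (j : ℤ) (c : Dual.HD A K j), s • c = 0) :
    ∃ N : ℕ, (s ^ N) • 𝟙 K = 0 := by
  let P : ObjectProperty (Dual.D A) := fun Z => ∃ N : ℕ, (s ^ N) • 𝟙 Z = 0
  let S : ObjectProperty (ModuleCat.{u} A) := fun M => ∀ m : M, s • m = 0
  haveI : P.IsClosedUnderIsomorphisms := ⟨by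
    rintro X Y e ⟨N, hN⟩
    refine ⟨N, ?_⟩
    have : (s ^ N) • 𝟙 Y = e.inv ≫ ((s ^ N) • 𝟙 X) ≫ e.hom := by
      rw [Linear.smul_comp, Linear.comp_smul, Category.id_comp, e.inv_hom_id]
    rw [this, hN, zero_comp, comp_zero]⟩
  haveI : S.IsClosedUnderIsomorphisms := ⟨by
    intro X Y e hX y
    have h1 : y = e.hom.hom (e.inv.hom y) := by
      have := congrArg (fun f => f.hom y) e.inv_hom_id
      exact this.symm
    rw [h1, ← map_smul, hX, map_zero]⟩
  refine Groth.Agent.H45.bounded_induction' P S ?_ ?_ ?_ ?_ K a b hGE hLE (fun q => hs q)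
  · intro Z hZ
    exact ⟨0, hZ.eq_of_src _ _⟩
  · rintro T hT ⟨N₁, h₁⟩ ⟨N₃, h₃⟩
    refine ⟨N₁ + N₃, ?_⟩
    have h2 : ((s ^ N₃) • 𝟙 T.obj₂) ≫ T.mor₂ = 0 := by
      have : ((s ^ N₃) • 𝟙 T.obj₂) ≫ T.mor₂ = T.mor₂ ≫ ((s ^ N₃) • 𝟙 T.obj₃) := by
        rw [Linear.smul_comp, Linear.comp_smul, Category.id_comp, Category.comp_id]
      rw [this, h₃, comp_zero]
    obtain ⟨g, hg⟩ := Triangle.coyoneda_exact₂ T hT _ h2
    have h3 : (s ^ (N₁ + N₃)) • 𝟙 T.obj₂ = (s ^ N₁) • ((s ^ N₃) • 𝟙 T.obj₂) := by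
      rw [smul_smul, pow_add]
    rw [h3, hg]
    have h4 : (s ^ N₁) • (g ≫ T.mor₁) = g ≫ ((s ^ N₁) • 𝟙 T.obj₁) ≫ T.mor₁ := by
      rw [Linear.smul_comp, Linear.comp_smul, Category.id_comp]
    rw [h4, h₁, zero_comp, comp_zero]
  · intro M n hM
    refine ⟨1, ?_⟩
    have h0 : s • 𝟙 M = 0 := by
      apply ModuleCat.hom_ext
      apply LinearMap.ext
      intro m
      exact hM m
    have h1 : s • 𝟙 ((singleFunctor (ModuleCat.{u} A) n).obj M) =
        (singleFunctor (ModuleCat.{u} A) n).map (s • 𝟙 M) := by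
      rw [Functor.map_smul, CategoryTheory.Functor.map_id]
    rw [pow_one, h1, h0, Functor.map_zero]
  · intro M hM m
    haveI := ModuleCat.subsingleton_of_isZero hM
    exact Subsingleton.elim _ _

end Kill

section FinDim

open scoped Pointwise

variable {A : Type u} [CommRing A] [IsNoetherianRing A] (W : Dual.D A)

/-- `T^j(M)` is finite for all `j` and all finite `M` (no locality assumption) -/
def FinT' : Prop :=
  ∀ (j : ℤ) (M : Type u) [AddCommGroup M] [Module A M] [Module.Finite A M],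
    Module.Finite A (T W j M)

theorem finT'_of_isDualizing {ω : Dual.D A} (hω : Dual.IsDualizing A ω) : FinT' ω := by
  obtain ⟨a, b, hab⟩ := hω.finite_injective_dimension
  intro j M _ _ _
  exact finite_T ω a (fun M _ _ i hi => hab M i (Or.inl hi)) hω.finite_cohomology j M

/-- **dévissage**: if `P ∈ Supp T^j(M)` then `P ∈ Supp T^j(A/q)` for a prime `q ⊇ Ann M`. -/
theorem exists_prime_of_mem_support_T (j : ℤ) (P : PrimeSpectrum A) :
    ∀ (M : Type u) [AddCommGroup M] [Module A M] [Module.Finite A M],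
      P ∈ Module.support A (T W j M) →
      ∃ q : PrimeSpectrum A, P ∈ Module.support A (T W j (A ⧸ q.asIdeal)) ∧
        Module.annihilator A M ≤ q.asIdeal := by
  intro M _ _ hfM
  induction hfM using IsNoetherianRing.induction_on_isQuotientEquivQuotientPrime A with
  | subsingleton N =>
    intro hp
    haveI := subsingleton_of_subsingleton W (M := N) j
    rw [Module.support_eq_empty] at hp
    exact absurd hp (Set.notMem_empty P)
  | quotient N q e =>
    intro hp
    rw [← (congr W _ e).support_eq] at hp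
    refine ⟨q, hp, ?_⟩
    rw [e.annihilator_eq, Ideal.annihilator_quotient]
  | exact N₁ N₂ N₃ f g hf hg hfg h₁ h₃ =>
    intro hp
    rcases support_T_mid W f g hf hg hfg _ hp with h | h
    · obtain ⟨q, hq, hle⟩ := h₃ h
      exact ⟨q, hq, (LinearMap.annihilator_le_of_surjective g hg).trans hle⟩
    · obtain ⟨q, hq, hle⟩ := h₁ h
      exact ⟨q, hq, (LinearMap.annihilator_le_of_injective f hf).trans hle⟩

/-- `x ∉ q` is `A/q`-regular, and `q + (x)` kills `(A/q)/x(A/q)` -/
theorem regular_and_kill (q : Ideal A) [hq : q.IsPrime] (x : A) (hxq : x ∉ q) :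
    IsSMulRegular (A ⧸ q) x ∧
      ∀ a ∈ q ⊔ Ideal.span {x}, ∀ n : QuotSMulTop x (A ⧸ q), a • n = 0 := by
  refine ⟨?_, ?_⟩
  · intro y z hyz
    obtain ⟨y, rfl⟩ := Ideal.Quotient.mk_surjective y
    obtain ⟨z, rfl⟩ := Ideal.Quotient.mk_surjective z
    have h1 : (Ideal.Quotient.mk q (x * y)) = Ideal.Quotient.mk q (x * z) := hyz
    rw [Ideal.Quotient.eq, ← mul_sub] at h1
    rw [Ideal.Quotient.eq]
    exact (hq.mem_or_mem h1).resolve_left hxq
  · intro a ha n
    obtain ⟨n, rfl⟩ := Submodule.Quotient.mk_surjective _ n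
    obtain ⟨b, rfl⟩ := Ideal.Quotient.mk_surjective n
    obtain ⟨a₁, ha₁, a₂, ha₂, rfl⟩ := Submodule.mem_sup.mp ha
    obtain ⟨r, rfl⟩ := Ideal.mem_span_singleton'.mp ha₂
    rw [← Submodule.Quotient.mk_smul, Submodule.Quotient.mk_eq_zero]
    have h1 : (a₁ + r * x) • (Ideal.Quotient.mk q b) = x • (Ideal.Quotient.mk q (r * b)) := by
      change Ideal.Quotient.mk q ((a₁ + r * x) * b) = Ideal.Quotient.mk q (x * (r * b))
      rw [Ideal.Quotient.eq]
      have : (a₁ + r * x) * b - x * (r * b) = a₁ * b := by ring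
      rw [this]
      exact q.mul_mem_right _ ha₁
    rw [h1]
    exact Submodule.smul_mem_pointwise_smul _ x ⊤ trivial

variable {W}

/-- **step**: if `q < P` and `P ∈ Supp T^j(A/q)` then `P ∈ Supp T^{j+1}(A/q')` for some prime
`q' > q`. -/
theorem exists_gt_of_mem_support_T (hfin : FinT' W) (q : Ideal A) [hq : q.IsPrime]
    (P : PrimeSpectrum A) (hqP : q < P.asIdeal) (j : ℤ)
    (hP : P ∈ Module.support A (T W j (A ⧸ q))) :
    ∃ q' : PrimeSpectrum A, q < q'.asIdeal ∧
      P ∈ Module.support A (T W (j + 1) (A ⧸ q'.asIdeal)) := by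
  obtain ⟨x, hxP, hxq⟩ := Set.exists_of_ssubset hqP
  obtain ⟨hreg, hkill⟩ := regular_and_kill q x hxq
  have hex := exact_lsmul_mkQ (A ⧸ q) x
  have hsurj : Function.Surjective (x • (⊤ : Submodule A (A ⧸ q))).mkQ :=
    Submodule.mkQ_surjective _
  have hker := ker_conn_le_range_precomp W (LinearMap.lsmul A (A ⧸ q) x) _ hreg hsurj hex
    j (j + 1) rfl
  have hrange : LinearMap.range (precomp W j (LinearMap.lsmul A (A ⧸ q) x)) ≤
      x • (⊤ : Submodule A (T W j (A ⧸ q))) := by
    rintro _ ⟨t, rfl⟩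
    rw [lsmul_eq_smul_id, precomp_smul_id]
    exact Submodule.smul_mem_pointwise_smul t x ⊤ trivial
  have h1 := support_quotient_subset_of_ker_le _ _ (hker.trans hrange)
  haveI := hfin j (A ⧸ q)
  have h2 : P ∈ Module.support A (QuotSMulTop x (T W j (A ⧸ q))) := by
    rw [Module.support_quotSMulTop]
    refine ⟨hP, ?_⟩
    rw [PrimeSpectrum.mem_zeroLocus, Set.singleton_subset_iff]
    exact hxP
  have h3 := h1 h2
  obtain ⟨q', hq', hle⟩ := exists_prime_of_mem_support_T W (j + 1) P
    (QuotSMulTop x (A ⧸ q)) h3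
  refine ⟨q', ?_, hq'⟩
  have hsup : q ⊔ Ideal.span {x} ≤ q'.asIdeal := by
    refine le_trans ?_ hle
    intro a ha
    rw [Module.mem_annihilator]
    exact hkill a ha
  refine lt_of_le_of_ne (le_sup_left.trans hsup) ?_
  intro heq
  apply hxq
  rw [heq]
  exact hsup (Ideal.mem_sup_right (Ideal.mem_span_singleton_self x))

/-- the support of `T^j(A/q)` lies in `V(q)` -/
theorem le_of_mem_support_T_quot (q : Ideal A) (P : PrimeSpectrum A) (j : ℤ)
    (hP : P ∈ Module.support A (T W j (A ⧸ q))) : q ≤ P.asIdeal := by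
  have h1 := support_T_subset W _ _ hP
  rw [Module.support_eq_zeroLocus, Ideal.annihilator_quotient,
    PrimeSpectrum.mem_zeroLocus, SetLike.coe_subset_coe] at h1
  exact h1

/-- **chain**: if `P ∈ Supp T^j(A/q)` then `P ∈ Supp T^{j+k}(A/P)` with `k ≥ 1` when `q ≠ P`. -/
theorem exists_nat_of_mem_support_T (hfin : FinT' W) (P : PrimeSpectrum A) :
    ∀ q : Ideal A, q.IsPrime → ∀ j : ℤ, P ∈ Module.support A (T W j (A ⧸ q)) →
      ∃ k : ℕ, P ∈ Module.support A (T W (j + k) (A ⧸ P.asIdeal)) ∧ (q ≠ P.asIdeal → 1 ≤ k) := by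
  intro q
  induction q using WellFoundedGT.induction with
  | ind q ih =>
    intro hq j hP
    by_cases hqP : q = P.asIdeal
    · subst hqP
      refine ⟨0, ?_, fun h => absurd rfl h⟩
      have : j + ((0 : ℕ) : ℤ) = j := by simp
      rw [this]
      exact hP
    · have hle := le_of_mem_support_T_quot q P j hP
      obtain ⟨q', hqq', hP'⟩ := exists_gt_of_mem_support_T hfin q P (lt_of_le_of_ne hle hqP) j hP
      obtain ⟨k, hk, -⟩ := ih q'.asIdeal hqq' q'.2 (j + 1) hP'
      refine ⟨k + 1, ?_, fun _ => by omega⟩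
      have : j + ((k + 1 : ℕ) : ℤ) = j + 1 + (k : ℤ) := by push_cast; ring
      rw [this]
      exact hk

/-- if `P ∉ Supp T^j(A/P)` for all `j`, then `P ∉ Supp T^j(A/q)` for all primes `q` and all `j` -/
theorem notMem_support_T_quot_of_self (hfin : FinT' W) (P : PrimeSpectrum A)
    (hself : ∀ j : ℤ, P ∉ Module.support A (T W j (A ⧸ P.asIdeal))) (q : Ideal A) (hq : q.IsPrime)
    (j : ℤ) : P ∉ Module.support A (T W j (A ⧸ q)) := by
  intro hP
  obtain ⟨k, hk, -⟩ := exists_nat_of_mem_support_T hfin P q hq j hP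
  exact hself _ hk

end FinDim

section Main

variable {A : Type u} [CommRing A] [IsNoetherianRing A] {ω : Dual.D A}

/-- **non-emptiness**: for a dualizing complex `ω`, every prime `P` lies in `Supp T^j(A/P)` for
some `j`. -/
theorem exists_mem_support_T_quot_self (hω : Dual.IsDualizing A ω) (P : PrimeSpectrum A) :
    ∃ j : ℤ, P ∈ Module.support A (T ω j (A ⧸ P.asIdeal)) := by
  by_contra hcon
  push Not at hcon
  have hfin := finT'_of_isDualizing hω
  obtain ⟨a, b, hab⟩ := hω.finite_injective_dimension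
  -- `P ∉ Supp T^j(A)` for all `j`
  have hA : ∀ j : ℤ, P ∉ Module.support A (T ω j A) := by
    intro j hP
    obtain ⟨q, hq, -⟩ := exists_prime_of_mem_support_T ω j P A hP
    exact notMem_support_T_quot_of_self hfin P hcon q.asIdeal q.2 j hq
  -- hence `P ∉ Supp H^j(ω)`
  have hH : ∀ j : ℤ, P ∉ Module.support A (Dual.HD A ω j) := by
    intro j
    haveI := hω.finite_cohomology j
    rw [support_HD_eq]
    exact hA j
  -- cohomology vanishes outside `[a, b]`
  have hvan : ∀ j : ℤ, (j < a ∨ b < j) → Subsingleton (Dual.HD A ω j) := by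
    intro j hj
    haveI := hab A j hj
    exact (subsingleton_T_self_iff ω j).mp inferInstance
  -- an element `s ∉ P` killing all cohomology
  have hs : ∃ s : A, s ∉ P.asIdeal ∧ ∀ (j : ℤ) (c : Dual.HD A ω j), s • c = 0 := by
    have h1 : ∀ j : ℤ, ∃ s : A, s ∉ P.asIdeal ∧ ∀ c : Dual.HD A ω j, s • c = 0 := by
      intro j
      haveI := hω.finite_cohomology j
      have h2 := hH j
      rw [Module.mem_support_iff_of_finite, SetLike.not_le_iff_exists] at h2
      obtain ⟨s, hs, hsP⟩ := h2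
      exact ⟨s, hsP, fun c => Module.mem_annihilator.mp hs c⟩
    choose s hsP hs using h1
    refine ⟨∏ j ∈ Finset.Icc a b, s j, ?_, ?_⟩
    · intro hmem
      obtain ⟨j, -, hj⟩ := (Ideal.IsPrime.prod_mem_iff (hp := P.2)).mp hmem
      exact hsP j hj
    · intro j c
      by_cases hj : j < a ∨ b < j
      · haveI := hvan j hj
        exact Subsingleton.elim _ _
      · push Not at hj
        have hmem : j ∈ Finset.Icc a b := Finset.mem_Icc.mpr hj
        rw [← Finset.mul_prod_erase _ _ hmem, mul_comm, mul_smul, hs j c, smul_zero]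
  obtain ⟨s, hsP, hs⟩ := hs
  have hGE : ω.IsGE a := by
    rw [DerivedCategory.isGE_iff]
    intro i hi
    haveI := hvan i (Or.inl hi)
    exact ModuleCat.isZero_of_subsingleton _
  have hLE : ω.IsLE b := by
    rw [DerivedCategory.isLE_iff]
    intro i hi
    haveI := hvan i (Or.inr hi)
    exact ModuleCat.isZero_of_subsingleton _
  obtain ⟨N, hN⟩ := exists_pow_smul_id_eq_zero ω a b hGE hLE s hs
  have h0 : s ^ N = 0 := by
    apply hω.toEnd_bijective.1
    change (s ^ N) • 𝟙 ω = (0 : A) • 𝟙 ω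
    rw [hN, zero_smul]
  apply hsP
  apply P.2.mem_of_pow_mem N
  rw [h0]
  exact P.asIdeal.zero_mem

/-- a Noetherian ring with a dualizing complex has finite Krull dimension -/
theorem ringKrullDim_lt_top_of_isDualizing (hω : Dual.IsDualizing A ω) : ringKrullDim A < ⊤ := by
  have hfin := finT'_of_isDualizing hω
  obtain ⟨a, b, hab⟩ := hω.finite_injective_dimension
  have hrange : ∀ (j : ℤ) (P : PrimeSpectrum A) (N : Type u) [AddCommGroup N] [Module A N],
      P ∈ Module.support A (T ω j N) → a ≤ j ∧ j ≤ b := by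
    intro j P N _ _ hP
    by_contra hcon
    have hj : j < a ∨ b < j := by omega
    haveI := hab N j hj
    rw [Module.support_eq_empty] at hP
    exact absurd hP (Set.notMem_empty P)
  have key : ∀ l : LTSeries (PrimeSpectrum A), ∀ i : ℕ, ∀ hi : i < l.length + 1,
      ∃ j : ℤ, a + i ≤ j ∧
        (l ⟨i, hi⟩) ∈ Module.support A (T ω j (A ⧸ (l ⟨i, hi⟩).asIdeal)) := by
    intro l i
    induction i with
    | zero =>
      intro hi
      obtain ⟨j, hj⟩ := exists_mem_support_T_quot_self hω (l ⟨0, hi⟩)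
      exact ⟨j, by simpa using (hrange j _ _ hj).1, hj⟩
    | succ i ih =>
      intro hi
      obtain ⟨j, hj, hP⟩ := ih (by omega)
      have hlt : l ⟨i, by omega⟩ < l ⟨i + 1, hi⟩ := l.strictMono (by simp)
      -- specialize
      haveI := hfin j (A ⧸ (l ⟨i, by omega⟩).asIdeal)
      have hP' : l ⟨i + 1, hi⟩ ∈ Module.support A (T ω j (A ⧸ (l ⟨i, by omega⟩).asIdeal)) := by
        rw [Module.mem_support_iff_of_finite] at hP ⊢
        exact hP.trans hlt.le
      obtain ⟨k, hk, hk1⟩ := exists_nat_of_mem_support_T hfin (l ⟨i + 1, hi⟩)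
        (l ⟨i, by omega⟩).asIdeal (l ⟨i, by omega⟩).2 j hP'
      have hne : (l ⟨i, by omega⟩).asIdeal ≠ (l ⟨i + 1, hi⟩).asIdeal := by
        intro h
        exact hlt.ne (PrimeSpectrum.ext h)
      have := hk1 hne
      refine ⟨j + k, ?_, hk⟩
      push_cast
      omega
  have hlen : ∀ l : LTSeries (PrimeSpectrum A), l.length < (b - a).toNat + 1 := by
    intro l
    obtain ⟨j, hj, hP⟩ := key l l.length (by omega)
    have := (hrange j _ _ hP).2
    omega
  have h1 : ringKrullDim A < (((b - a).toNat + 1 : ℕ) : WithBot ℕ∞) := by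
    rw [ringKrullDim, Order.krullDim_lt_coe_iff]
    exact hlen
  exact h1.trans_le le_top

end Main

end Groth.Agent.H2.DualCx
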