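import Mathlib
import Groth.Agent.H2.DualCx.DepthSupp
import Groth.Agent.H2.DualCx.FinDim
import Groth.Agent.H72.DepthCM

/-!
# `P`-local depth formula over an arbitrary Noetherian ring  (helper2)

For a dualizing complex `ω` over a Noetherian ring `A` (no locality, no normalization) and a prime
`P`, let `n(P)` be the largest `k` with `P ∈ Supp T^k(A/P)`.  Then for every finite module `M`
with `M_P ≠ 0`:  `depth_{A_P} M_P = n(P) - max {k | P ∈ Supp T^k(M)}`.
As an application: if `ω = W[0]` for a finite module `W`, all `A_P` are Cohen–Macaulay.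
-/

set_option autoImplicit false
set_option linter.unusedSectionVars false
set_option linter.style.haveILetI false

namespace Groth.Agent.H2.DualCx

universe u

open CategoryTheory CategoryTheory.Limits Pretriangulated DerivedCategory IsLocalRing

attribute [local instance] HasDerivedCategory.standard

section Gen

variable {A : Type u} [CommRing A] [IsNoetherianRing A] {W : Dual.D A} (hfin : FinT W)
  (P : PrimeSpectrum A) (n : ℤ)
  (h1 : ∀ (M : Type u) [AddCommGroup M] [Module A M] [Module.Finite A M] (k : ℤ),
    n < k → P ∉ Module.support A (T W k M))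
  (h2 : P ∈ Module.support A (T W n (A ⧸ P.asIdeal)))

include hfin h1 h2 in
/-- the lower bound `L(r)` and the non-vanishing `U(r)`, general form -/
theorem depth_support_gen (r : ℕ) : ∀ (M : Type u) [AddCommGroup M] [Module A M]
    [Module.Finite A M],
    ((r : ℕ∞) ≤ LocCoh.depth (Localization.AtPrime P.asIdeal)
        (LocalizedModule P.asIdeal.primeCompl M) →
      ∀ k : ℤ, n - (r : ℤ) < k → P ∉ Module.support A (T W k M)) ∧
    (LocCoh.depth (Localization.AtPrime P.asIdeal) (LocalizedModule P.asIdeal.primeCompl M) = r →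
      P ∈ Module.support A (T W (n - (r : ℤ)) M)) := by
  induction r with
  | zero =>
    intro M _ _ _
    refine ⟨fun _ k hk => h1 M k (by simpa using hk), fun hd => ?_⟩
    have hass : P.asIdeal ∈ associatedPrimes A M := by
      by_contra hcon
      obtain ⟨x, hxp, hx⟩ := exists_regular_localization P M hcon
      have h3 := Groth.Agent.H72.DepthLocIneq.depth_localization_quot_add_one_le M P.asIdeal x hxp hx
      rw [hd] at h3
      simp at h3
    obtain ⟨-, f, hf⟩ := (isAssociatedPrime_iff_exists_injective_linearMap _ _).mp hass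
    have hg : Function.Surjective (LinearMap.range f).mkQ := Submodule.mkQ_surjective _
    have hex : Function.Exact f (LinearMap.range f).mkQ := LinearMap.exact_map_mkQ_range f
    have h3 := support_T_left W f _ hf hg hex n (n + 1) rfl h2
    rcases h3 with h | h
    · have e : n - ((0 : ℕ) : ℤ) = n := by simp
      rw [e]
      exact h
    · exact absurd h (h1 _ (n + 1) (by omega))
  | succ r ih =>
    intro M _ _ _
    have hL : ((r + 1 : ℕ) : ℕ∞) ≤ LocCoh.depth (Localization.AtPrime P.asIdeal)
        (LocalizedModule P.asIdeal.primeCompl M) →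
        ∀ k : ℤ, n - ((r + 1 : ℕ) : ℤ) < k → P ∉ Module.support A (T W k M) := by
      intro hd k hk hp
      have hass : P.asIdeal ∉ associatedPrimes A M := by
        intro hass
        have h0 := Groth.Agent.H15.depth_localization_eq_zero_of_mem_associatedPrimes
          M P.asIdeal hass
        have h3 := hd.trans h0
        simp at h3
      obtain ⟨x, hxp, hx⟩ := exists_regular_localization P M hass
      have h3 := Groth.Agent.H72.DepthLocIneq.depth_localization_le_quot_add_one M P.asIdeal x
        hxp hx
      have h4 : (r : ℕ∞) ≤ LocCoh.depth (Localization.AtPrime P.asIdeal)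
          (LocalizedModule P.asIdeal.primeCompl (QuotSMulTop x M)) := by
        have h5 := hd.trans h3
        have h6 : ((r + 1 : ℕ) : ℕ∞) = (r : ℕ∞) + 1 := by push_cast; rfl
        rw [h6] at h5
        exact (ENat.add_le_add_iff_right (by simp)).mp h5
      have h5 := mem_support_T_succ_quot W P M hfin x hxp hx k (k + 1) rfl hp
      exact (ih (QuotSMulTop x M)).1 h4 (k + 1) (by push_cast at hk ⊢; omega) h5
    refine ⟨hL, fun hd => ?_⟩
    have hass : P.asIdeal ∉ associatedPrimes A M := by
      intro hass
      have h0 := Groth.Agent.H15.depth_localization_eq_zero_of_mem_associatedPrimes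
        M P.asIdeal hass
      rw [hd] at h0
      simp at h0
    obtain ⟨x, hxp, hx⟩ := exists_regular_localization P M hass
    have h3 := Groth.Agent.H72.DepthLocIneq.depth_localization_le_quot_add_one M P.asIdeal x
      hxp hx
    have h3' := Groth.Agent.H72.DepthLocIneq.depth_localization_quot_add_one_le M P.asIdeal x
      hxp hx
    have h4 : LocCoh.depth (Localization.AtPrime P.asIdeal)
        (LocalizedModule P.asIdeal.primeCompl (QuotSMulTop x M)) = r := by
      have h5 := le_antisymm h3' h3
      rw [hd] at h5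
      have h6 : ((r + 1 : ℕ) : ℕ∞) = (r : ℕ∞) + 1 := by push_cast; rfl
      rw [h6] at h5
      exact (ENat.add_left_injective_of_ne_top (by simp)) h5
    have h5 := (ih (QuotSMulTop x M)).2 h4
    have h6 := hL hd.ge (n - (r : ℤ)) (by push_cast; omega)
    exact mem_support_T_of_quot W P M x hx (n - ((r + 1 : ℕ) : ℤ)) (n - (r : ℤ))
      (by push_cast; ring) h5 h6

end Gen

section Top

variable {A : Type u} [CommRing A] [IsNoetherianRing A] {ω : Dual.D A}

theorem finT_of_isDualizing' (hω : Dual.IsDualizing A ω) : FinT ω :=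
  fun j M _ _ _ => finT'_of_isDualizing hω j M

/-- the top degree `n(P)` -/
theorem exists_top_degree (hω : Dual.IsDualizing A ω) (P : PrimeSpectrum A) :
    ∃ n : ℤ, P ∈ Module.support A (T ω n (A ⧸ P.asIdeal)) ∧
      ∀ (M : Type u) [AddCommGroup M] [Module A M] [Module.Finite A M] (k : ℤ),
        n < k → P ∉ Module.support A (T ω k M) := by
  classical
  have hfin := finT'_of_isDualizing hω
  obtain ⟨a, b, hab⟩ := hω.finite_injective_dimension
  obtain ⟨j₀, hj₀⟩ := exists_mem_support_T_quot_self hω P
  obtain ⟨n, hn, hnmax⟩ := Int.exists_greatest_of_bdd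
    (P := fun k => P ∈ Module.support A (T ω k (A ⧸ P.asIdeal)))
    ⟨b, fun k hk => by
      by_contra hcon
      push Not at hcon
      haveI := hab (A ⧸ P.asIdeal) k (Or.inr hcon)
      rw [Module.support_eq_empty] at hk
      exact absurd hk (Set.notMem_empty P)⟩ ⟨j₀, hj₀⟩
  refine ⟨n, hn, ?_⟩
  intro M _ _ _ k hk hp
  obtain ⟨q, hq, -⟩ := exists_prime_of_mem_support_T ω k P M hp
  obtain ⟨k', hk', -⟩ := exists_nat_of_mem_support_T hfin P q.asIdeal q.2 k hq
  have := hnmax _ hk'
  omega

/-- along a chain of primes the degrees grow at least by the length -/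
theorem exists_ge_length (hω : Dual.IsDualizing A ω) (a : ℤ)
    (ha : ∀ (M : Type u) [AddCommGroup M] [Module A M] (j : ℤ), j < a → Subsingleton (T ω j M))
    (l : LTSeries (PrimeSpectrum A)) :
    ∀ (i : ℕ) (hi : i < l.length + 1), ∃ j : ℤ, a + i ≤ j ∧
      (l ⟨i, hi⟩) ∈ Module.support A (T ω j (A ⧸ (l ⟨i, hi⟩).asIdeal)) := by
  have hfin := finT'_of_isDualizing hω
  have hrange : ∀ (j : ℤ) (P : PrimeSpectrum A) (N : Type u) [AddCommGroup N] [Module A N],
      P ∈ Module.support A (T ω j N) → a ≤ j := by
    intro j P N _ _ hP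
    by_contra hcon
    push Not at hcon
    haveI := ha N j hcon
    rw [Module.support_eq_empty] at hP
    exact absurd hP (Set.notMem_empty P)
  intro i
  induction i with
  | zero =>
    intro hi
    obtain ⟨j, hj⟩ := exists_mem_support_T_quot_self hω (l ⟨0, hi⟩)
    exact ⟨j, by simpa using hrange j _ _ hj, hj⟩
  | succ i ih =>
    intro hi
    obtain ⟨j, hj, hP⟩ := ih (by omega)
    have hlt : l ⟨i, by omega⟩ < l ⟨i + 1, hi⟩ := l.strictMono (by simp)
    haveI := hfin j (A ⧸ (l ⟨i, by omega⟩).asIdeal)
    have hP' : l ⟨i + 1, hi⟩ ∈ Module.support A (T ω j (A ⧸ (l ⟨i, by omega⟩).asIdeal)) := by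
      rw [Module.mem_support_iff_of_finite] at hP ⊢
      exact hP.trans hlt.le
    obtain ⟨k, hk, hk1⟩ := exists_nat_of_mem_support_T hfin (l ⟨i + 1, hi⟩)
      (l ⟨i, by omega⟩).asIdeal (l ⟨i, by omega⟩).2 j hP'
    have hne : (l ⟨i, by omega⟩).asIdeal ≠ (l ⟨i + 1, hi⟩).asIdeal := by
      intro h
      exact hlt.ne (PrimeSpectrum.ext h)
    have := hk1 hne
    refine ⟨j + k, ?_, hk⟩
    push_cast
    omega

/-- `a + ht P ≤ n(P)` -/
theorem height_le_top_degree (hω : Dual.IsDualizing A ω) (a : ℤ)
    (ha : ∀ (M : Type u) [AddCommGroup M] [Module A M] (j : ℤ), j < a → Subsingleton (T ω j M))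
    (P : PrimeSpectrum A) (n : ℤ)
    (hn : ∀ (M : Type u) [AddCommGroup M] [Module A M] [Module.Finite A M] (k : ℤ),
        n < k → P ∉ Module.support A (T ω k M)) :
    Order.height P ≤ ((n - a).toNat : ℕ∞) := by
  rw [Order.height_le_iff']
  intro l hl
  obtain ⟨j, hj, hP⟩ := exists_ge_length hω a ha l l.length (by omega)
  have hlast : l ⟨l.length, by omega⟩ = P := hl
  rw [hlast] at hP
  have h1 : j ≤ n := by
    by_contra hcon
    push Not at hcon
    exact hn _ j hcon hP
  have : l.length ≤ (n - a).toNat := by omega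
  exact_mod_cast this

end Top

end Groth.Agent.H2.DualCx
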