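import Mathlib
import Groth.Agent.H2.DualCx.Depth
import Groth.Agent.H45.Derived.BoundedInduction

/-!
# `Hom(N, ω[i]) = 0` for `i > 0` and `N ∈ D^{≥ 0}` bounded with finite cohomology  (helper2)
-/

set_option autoImplicit false
set_option linter.unusedSectionVars false
set_option linter.style.haveILetI false

namespace Groth.Agent.H2.DualCx

universe u

open CategoryTheory CategoryTheory.Limits Pretriangulated DerivedCategory

attribute [local instance] HasDerivedCategory.standard

section

variable {A : Type u} [CommRing A]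

/-- `Hom(M[-n], W[i])` vanishes if `T^{i+n}(M) = Hom(M[0], W[i+n])` does -/
theorem subsingleton_single_hom (W : Dual.D A) (M : ModuleCat.{u} A) (n i : ℤ)
    (h : Subsingleton ((DerivedCategory.singleFunctor (ModuleCat.{u} A) 0).obj M ⟶ W⟦i + n⟧)) :
    Subsingleton ((DerivedCategory.singleFunctor (ModuleCat.{u} A) n).obj M ⟶ W⟦i⟧) := by
  let e := ((DerivedCategory.singleFunctors (ModuleCat.{u} A)).shiftIso n 0 n (by omega)).app M
  let e' := (shiftFunctorAdd' (Dual.D A) i n (i + n) rfl).app W
  have key : ∀ f : (DerivedCategory.singleFunctor (ModuleCat.{u} A) n).obj M ⟶ W⟦i⟧, f = 0 := by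
    intro f
    have h0 : e.inv ≫ f⟦n⟧' ≫ e'.inv = 0 := Subsingleton.elim _ _
    have h1 : f⟦n⟧' = 0 := by
      have : f⟦n⟧' = e.hom ≫ (e.inv ≫ f⟦n⟧' ≫ e'.inv) ≫ e'.hom := by
        simp
      rw [this, h0, zero_comp, comp_zero]
    apply (shiftFunctor (Dual.D A) n).map_injective
    rw [h1, Functor.map_zero]
  exact ⟨fun f g => by rw [key f, key g]⟩

/-- half-exactness of `Hom(-, Y)` on distinguished triangles, for vanishing -/
theorem subsingleton_hom_obj₂ (T : Triangle (Dual.D A)) (hT : T ∈ distTriang (Dual.D A))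
    (Y : Dual.D A) (h₁ : Subsingleton (T.obj₁ ⟶ Y)) (h₃ : Subsingleton (T.obj₃ ⟶ Y)) :
    Subsingleton (T.obj₂ ⟶ Y) := by
  have key : ∀ f : T.obj₂ ⟶ Y, f = 0 := by
    intro f
    have h0 : T.mor₁ ≫ f = 0 := Subsingleton.elim _ _
    obtain ⟨g, hg⟩ := Triangle.yoneda_exact₂ T hT f h0
    rw [hg, Subsingleton.elim g 0, comp_zero]
  exact ⟨fun f g => by rw [key f, key g]⟩

end

section Main

variable {A : Type u} [CommRing A] [IsNoetherianRing A] [IsLocalRing A]
variable {ω : Dual.D A} (hN : Norm ω)

include hN in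
/-- amplitude induction -/
theorem subsingleton_hom_of_bounded_aux (k : ℕ) :
    ∀ (Z : Dual.D A) (a : ℤ), 0 ≤ a → Z.IsGE a → Z.IsLE (a + k - 1) →
      (∀ q : ℤ, Module.Finite A (Dual.HD A Z q)) → ∀ i : ℤ, 0 < i → Subsingleton (Z ⟶ ω⟦i⟧) := by
  induction k with
  | zero =>
    intro Z a _ hGE hLE _ i _
    have hz : IsZero Z := TStructure.t.isZero Z (a + (0 : ℕ) - 1) a (by simp)
    exact ⟨fun x y => hz.eq_of_src x y⟩
  | succ k ih =>
    intro Z a ha hGE hLE hZ i hi
    let n : ℤ := a + k
    have hLE' : Z.IsLE n := by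
      have : a + ((k + 1 : ℕ) : ℤ) - 1 = n := by simp only [n]; omega
      rw [← this]
      exact hLE
    have hT := TStructure.t.triangleLTGE_distinguished n Z
    have h₁ : Subsingleton ((TStructure.t.truncLT n).obj Z ⟶ ω⟦i⟧) := by
      apply ih _ a ha inferInstance
      · have : a + (k : ℤ) - 1 = n - 1 := by simp [n]
        rw [this]
        infer_instance
      · intro q
        by_cases hq : q < n
        · have := Groth.Agent.H45.isIso_homologyMap_truncLTι Z n q hq
          haveI : Module.Finite A ((homologyFunctor (ModuleCat.{u} A) q).obj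
              ((𝟭 (DerivedCategory (ModuleCat.{u} A))).obj Z)) := hZ q
          exact Module.Finite.equiv
            (asIso ((homologyFunctor (ModuleCat.{u} A) q).map
              ((TStructure.t.truncLTι n).app Z))).symm.toLinearEquiv
        · have hz : IsZero ((homologyFunctor (ModuleCat.{u} A) q).obj
              ((TStructure.t.truncLT n).obj Z)) :=
            isZero_of_isLE _ (n - 1) q (by lia)
          haveI : Subsingleton (Dual.HD A ((TStructure.t.truncLT n).obj Z) q) :=
            ModuleCat.subsingleton_of_isZero hz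
          infer_instance
      · exact hi
    have h₃ : Subsingleton ((TStructure.t.truncGE n).obj Z ⟶ ω⟦i⟧) := by
      obtain ⟨M, ⟨e⟩⟩ := exists_iso_singleFunctor_obj_of_isGE_of_isLE
        ((TStructure.t.truncGE n).obj Z) n
      have := Groth.Agent.H45.isIso_homologyMap_truncGEπ Z n n le_rfl
      have eM : (homologyFunctor (ModuleCat.{u} A) n).obj Z ≅ M :=
        asIso ((homologyFunctor (ModuleCat.{u} A) n).map ((TStructure.t.truncGEπ n).app Z)) ≪≫
          (homologyFunctor (ModuleCat.{u} A) n).mapIso e ≪≫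
          (singleFunctorCompHomologyFunctorIso (ModuleCat.{u} A) n).app M
      haveI := hZ n
      haveI : Module.Finite A M := Module.Finite.equiv eM.toLinearEquiv
      have hpos : Subsingleton (T ω (i + n) M) := pos_vanish hN M (i + n) (by simp only [n]; omega)
      have h4 := subsingleton_single_hom ω M n i hpos
      exact ⟨fun x y => by
        have hx : x = e.hom ≫ (e.inv ≫ x) := by simp
        have hy : y = e.hom ≫ (e.inv ≫ y) := by simp
        rw [hx, hy, Subsingleton.elim (e.inv ≫ x) (e.inv ≫ y)]⟩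
    exact subsingleton_hom_obj₂ _ hT _ h₁ h₃

include hN in
theorem subsingleton_hom_of_bounded (N : Dual.D A)
    (hfin : ∀ i : ℤ, Module.Finite A (Dual.HD A N i))
    (b : ℤ) (hb : ∀ i : ℤ, b < i → Subsingleton (Dual.HD A N i))
    (hge : ∀ i : ℤ, i < 0 → Subsingleton (Dual.HD A N i))
    (i : ℤ) (hi : 0 < i) : Subsingleton (N ⟶ ω⟦i⟧) := by
  have hGE : N.IsGE 0 := by
    rw [DerivedCategory.isGE_iff]
    intro j hj
    haveI := hge j hj
    exact ModuleCat.isZero_of_subsingleton _
  have hLE : N.IsLE b := by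
    rw [DerivedCategory.isLE_iff]
    intro j hj
    haveI := hb j hj
    exact ModuleCat.isZero_of_subsingleton _
  obtain ⟨k, hk⟩ : ∃ k : ℕ, b ≤ 0 + k - 1 := ⟨(b + 1).toNat, by lia⟩
  exact subsingleton_hom_of_bounded_aux hN k N 0 le_rfl hGE
    (TStructure.t.isLE_of_le _ b _ hk) hfin i hi

end Main

end Groth.Agent.H2.DualCx
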