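import Mathlib
import Groth.Agent.H2.DualCx.Artin
import Groth.Agent.H2.DualCx.PosVanishCx
import Groth.Agent.H28.DualFinite
import Groth.Agent.H2.DualCx.FinDim

/-!
# Dualizing complexes over a field  (helper2)

Over a field `K`, a dualizing complex `ω` satisfies: `T^j(K) = Hom(K[0], ω[j])` vanishes except in
one degree `n`, where it is `≃ K`.
-/

set_option autoImplicit false
set_option linter.unusedSectionVars false
set_option linter.style.haveILetI false

namespace Groth.Agent.H2.DualCx

universe u

open CategoryTheory CategoryTheory.Limits Pretriangulated DerivedCategory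

attribute [local instance] HasDerivedCategory.standard

section GenVanish

variable {A : Type u} [CommRing A] (W : Dual.D A) (n : ℤ)
  (hpos : ∀ (M : Type u) [AddCommGroup M] [Module A M] [Module.Finite A M] (j : ℤ),
    n < j → Subsingleton (T W j M))

/-- `Hom(M[-n], W[i]) ≃ Hom(M[0], W[i+n])` -/
noncomputable def singleHomEquiv (M : ModuleCat.{u} A) (m i : ℤ) :
    ((DerivedCategory.singleFunctor (ModuleCat.{u} A) m).obj M ⟶ W⟦i⟧) ≃
      ((DerivedCategory.singleFunctor (ModuleCat.{u} A) 0).obj M ⟶ W⟦i + m⟧) :=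
  ((Functor.FullyFaithful.ofFullyFaithful (shiftFunctor (Dual.D A) m)).homEquiv).trans
    (Iso.homCongr
      (((DerivedCategory.singleFunctors (ModuleCat.{u} A)).shiftIso m 0 m (by omega)).app M)
      ((shiftFunctorAdd' (Dual.D A) i m (i + m) rfl).app W).symm)

include hpos in
/-- amplitude induction, general threshold -/
theorem subsingleton_hom_of_bounded_gen_aux (k : ℕ) :
    ∀ (Z : Dual.D A) (a : ℤ), Z.IsGE a → Z.IsLE (a + k - 1) →
      (∀ q : ℤ, Module.Finite A (Dual.HD A Z q)) → ∀ i : ℤ, n < i + a →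
        Subsingleton (Z ⟶ W⟦i⟧) := by
  induction k with
  | zero =>
    intro Z a hGE hLE _ i _
    have hz : IsZero Z := TStructure.t.isZero Z (a + (0 : ℕ) - 1) a (by simp)
    exact ⟨fun x y => hz.eq_of_src x y⟩
  | succ k ih =>
    intro Z a hGE hLE hZ i hi
    let m : ℤ := a + k
    have hLE' : Z.IsLE m := by
      have : a + ((k + 1 : ℕ) : ℤ) - 1 = m := by simp only [m]; omega
      rw [← this]
      exact hLE
    have hT := TStructure.t.triangleLTGE_distinguished m Z
    have h₁ : Subsingleton ((TStructure.t.truncLT m).obj Z ⟶ W⟦i⟧) := by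
      apply ih _ a inferInstance
      · have : a + (k : ℤ) - 1 = m - 1 := by simp [m]
        rw [this]
        infer_instance
      · intro q
        by_cases hq : q < m
        · have := Groth.Agent.H45.isIso_homologyMap_truncLTι Z m q hq
          haveI : Module.Finite A ((homologyFunctor (ModuleCat.{u} A) q).obj
              ((𝟭 (DerivedCategory (ModuleCat.{u} A))).obj Z)) := hZ q
          exact Module.Finite.equiv
            (asIso ((homologyFunctor (ModuleCat.{u} A) q).map
              ((TStructure.t.truncLTι m).app Z))).symm.toLinearEquiv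
        · have hz : IsZero ((homologyFunctor (ModuleCat.{u} A) q).obj
              ((TStructure.t.truncLT m).obj Z)) :=
            isZero_of_isLE _ (m - 1) q (by lia)
          haveI : Subsingleton (Dual.HD A ((TStructure.t.truncLT m).obj Z) q) :=
            ModuleCat.subsingleton_of_isZero hz
          infer_instance
      · exact hi
    have h₃ : Subsingleton ((TStructure.t.truncGE m).obj Z ⟶ W⟦i⟧) := by
      obtain ⟨M, ⟨e⟩⟩ := exists_iso_singleFunctor_obj_of_isGE_of_isLE
        ((TStructure.t.truncGE m).obj Z) m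
      have := Groth.Agent.H45.isIso_homologyMap_truncGEπ Z m m le_rfl
      have eM : (homologyFunctor (ModuleCat.{u} A) m).obj Z ≅ M :=
        asIso ((homologyFunctor (ModuleCat.{u} A) m).map ((TStructure.t.truncGEπ m).app Z)) ≪≫
          (homologyFunctor (ModuleCat.{u} A) m).mapIso e ≪≫
          (singleFunctorCompHomologyFunctorIso (ModuleCat.{u} A) m).app M
      haveI := hZ m
      haveI : Module.Finite A M := Module.Finite.equiv eM.toLinearEquiv
      have hpos' : Subsingleton (T W (i + m) M) := hpos M (i + m) (by simp only [m]; omega)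
      have h4 := subsingleton_single_hom W M m i hpos'
      exact ⟨fun x y => by
        have hx : x = e.hom ≫ (e.inv ≫ x) := by simp
        have hy : y = e.hom ≫ (e.inv ≫ y) := by simp
        rw [hx, hy, Subsingleton.elim (e.inv ≫ x) (e.inv ≫ y)]⟩
    exact subsingleton_hom_obj₂ _ hT _ h₁ h₃

include hpos in
theorem subsingleton_hom_of_bounded_gen (Z : Dual.D A) (a b : ℤ) (hGE : Z.IsGE a) (hLE : Z.IsLE b)
    (hfin : ∀ q : ℤ, Module.Finite A (Dual.HD A Z q)) (i : ℤ) (hi : n < i + a) :
    Subsingleton (Z ⟶ W⟦i⟧) := by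
  obtain ⟨k, hk⟩ : ∃ k : ℕ, b ≤ a + k - 1 := ⟨(b + 1 - a).toNat, by lia⟩
  exact subsingleton_hom_of_bounded_gen_aux W n hpos k Z a hGE
    (TStructure.t.isLE_of_le _ b _ hk) hfin i hi

end GenVanish

section LinAlg

theorem equiv_of_idempotent_trivial (K : Type u) [CommRing K] (hK : IsField K) (V : Type u)
    [AddCommGroup V] [Module K V] [Nontrivial V]
    (h : ∀ p : V →ₗ[K] V, p ∘ₗ p = p → p = 0 ∨ p = LinearMap.id) :
    Nonempty (V ≃ₗ[K] K) := by
  letI := hK.toField
  obtain ⟨v, hv⟩ := exists_ne (0 : V)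
  obtain ⟨q, hq⟩ := Submodule.exists_isCompl (K ∙ v)
  let p : V →ₗ[K] V := (K ∙ v).subtype ∘ₗ (K ∙ v).projectionOnto q hq
  have hpp : ∀ x : (K ∙ v), (K ∙ v).projectionOnto q hq (x : V) = x :=
    fun x => Submodule.projectionOnto_apply_left hq x
  have hp : p ∘ₗ p = p := by
    ext w
    simp only [p, LinearMap.comp_apply, Submodule.subtype_apply]
    rw [hpp]
  have hpv : p v = v := by
    simp only [p, LinearMap.comp_apply, Submodule.subtype_apply]
    have := hpp ⟨v, Submodule.mem_span_singleton_self v⟩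
    rw [this]
  rcases h p hp with h0 | h1
  · exfalso
    rw [h0] at hpv
    exact hv hpv.symm
  · have htop : (K ∙ v) = ⊤ := by
      rw [eq_top_iff]
      intro w _
      have : p w = w := by rw [h1]; rfl
      rw [← this]
      exact ((K ∙ v).projectionOnto q hq w).2
    exact ⟨((LinearEquiv.toSpanNonzeroSingleton K V v hv).trans
      ((LinearEquiv.ofEq _ _ htop).trans Submodule.topEquiv)).symm⟩

/-- an injective linear map from a nonzero module to a field is bijective -/
theorem equiv_of_injective_to_field (K : Type u) [CommRing K] (hK : IsField K) (V : Type*)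
    [AddCommGroup V] [Module K V] [Nontrivial V] (φ : V →ₗ[K] K) (hφ : Function.Injective φ) :
    Nonempty (V ≃ₗ[K] K) := by
  letI := hK.toField
  refine ⟨LinearEquiv.ofBijective φ ⟨hφ, ?_⟩⟩
  obtain ⟨v, hv⟩ := exists_ne (0 : V)
  have hne : φ v ≠ 0 := fun h => hv (hφ (by rw [h, map_zero]))
  intro c
  refine ⟨(c * (φ v)⁻¹) • v, ?_⟩
  rw [map_smul, smul_eq_mul, mul_assoc, inv_mul_cancel₀ hne, mul_one]

end LinAlg

section Field

variable {K : Type u} [CommRing K] [IsNoetherianRing K] (hK : IsField K) (ω : Dual.D K)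

include hK in
/-- vanishing of `T^j` on all finite modules from vanishing on `K` -/
theorem subsingleton_T_of_field (j : ℤ) (h : Subsingleton (T ω j K)) :
    ∀ (M : Type u) [AddCommGroup M] [Module K M] [Module.Finite K M], Subsingleton (T ω j M) := by
  intro M _ _ hM
  induction hM using IsNoetherianRing.induction_on_isQuotientEquivQuotientPrime K with
  | subsingleton N => exact subsingleton_of_subsingleton ω (M := N) j
  | quotient N q e =>
    have hq : q.1 = ⊥ := by
      letI := hK.toField
      exact (Ideal.eq_bot_or_top q.1).resolve_right q.2.ne_top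
    let e' : (K ⧸ q.1) ≃ₗ[K] K := Submodule.quotEquivOfEqBot q.1 hq
    exact (congr ω j (e.trans e')).symm.toEquiv.subsingleton
  | exact N₁ N₂ N₃ f g hf hg hfg h₁ h₃ =>
    exact subsingleton_mid ω (sc_shortExact f g hf hg hfg) j h₁ h₃

include hK in
/-- non-vanishing in the top degree -/
theorem nontrivial_T_top_of_field (n : ℤ) (hvan : ∀ j : ℤ, n < j → Subsingleton (T ω j K))
    (hn : Nontrivial (T ω n K)) (V : Type u) [AddCommGroup V] [Module K V] [Module.Finite K V]
    [Nontrivial V] : Nontrivial (T ω n V) := by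
  obtain ⟨v, hv⟩ := exists_ne (0 : V)
  let f : K →ₗ[K] V := LinearMap.toSpanSingleton K V v
  have hf : Function.Injective f := by
    rw [← LinearMap.ker_eq_bot, LinearMap.ker_eq_bot']
    intro c hc
    by_contra hc0
    obtain ⟨d, hd⟩ := hK.mul_inv_cancel hc0
    apply hv
    have h1 : c • v = 0 := hc
    calc v = (d * c) • v := by rw [mul_comm, hd, one_smul]
      _ = 0 := by rw [mul_smul, h1, smul_zero]
  have hg : Function.Surjective (LinearMap.range f).mkQ := Submodule.mkQ_surjective _
  have hex : Function.Exact f (LinearMap.range f).mkQ := LinearMap.exact_map_mkQ_range f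
  have hS := sc_shortExact f _ hf hg hex
  obtain ⟨t, ht⟩ := exists_ne (0 : T ω n K)
  have hsub : Subsingleton (T ω (n + 1) (V ⧸ LinearMap.range f)) :=
    subsingleton_T_of_field hK ω (n + 1) (hvan (n + 1) (by omega)) _
  obtain ⟨g', hg'⟩ := exists_extend ω hS n (n + 1) rfl hsub t
  by_contra hcon
  rw [not_nontrivial_iff_subsingleton] at hcon
  apply ht
  have : g' = 0 := Subsingleton.elim (α := T ω n V) _ _
  rw [hg', this, comp_zero]

end Field

section FieldMain

variable {K : Type u} [CommRing K] [IsNoetherianRing K] (hK : IsField K) {ω : Dual.D K}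
  (hω : Dual.IsDualizing K ω)

include hK hω in
theorem exists_nontrivial_T_of_field : ∃ j : ℤ, Nontrivial (T ω j K) := by
  by_contra hcon
  push Not at hcon
  have hall : ∀ j : ℤ, Subsingleton (T ω j K) := hcon
  have hH : ∀ j : ℤ, IsZero ((DerivedCategory.homologyFunctor (ModuleCat.{u} K) j).obj ω) := by
    intro j
    haveI : Subsingleton (Dual.HD K ω j) := (subsingleton_T_self_iff ω j).mp (hall j)
    exact ModuleCat.isZero_of_subsingleton _
  have hz : IsZero ω := Groth.Agent.H33.BrownGA.isZero_of_isZero_homology ω hH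
  have h1 : (1 : K) • 𝟙 ω = (0 : K) • 𝟙 ω := hz.eq_of_src _ _
  have h2 : (1 : K) = 0 := hω.toEnd_bijective.1 h1
  haveI := hK.nontrivial
  exact one_ne_zero h2

include hK hω in
/-- the lowest and highest non-vanishing degrees coincide -/
theorem false_of_lt_of_field (m n : ℤ) (hmn : m < n) (hm : Nontrivial (T ω m K))
    (hn : Nontrivial (T ω n K)) (hlow : ∀ j : ℤ, j < m → Subsingleton (T ω j K))
    (hhigh : ∀ j : ℤ, n < j → Subsingleton (T ω j K)) : False := by
  have hHfin : ∀ q : ℤ, Module.Finite K (Dual.HD K ω q) := hω.finite_cohomology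
  have hpos : ∀ (M : Type u) [AddCommGroup M] [Module K M] [Module.Finite K M] (j : ℤ),
      n < j → Subsingleton (T ω j M) :=
    fun M _ _ _ j hj => subsingleton_T_of_field hK ω j (hhigh j hj) M
  have hGE : ω.IsGE m := by
    rw [DerivedCategory.isGE_iff]
    intro j hj
    haveI : Subsingleton (Dual.HD K ω j) := (subsingleton_T_self_iff ω j).mp (hlow j hj)
    exact ModuleCat.isZero_of_subsingleton _
  have hLE : ω.IsLE n := by
    rw [DerivedCategory.isLE_iff]
    intro j hj
    haveI : Subsingleton (Dual.HD K ω j) := (subsingleton_T_self_iff ω j).mp (hhigh j hj)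
    exact ModuleCat.isZero_of_subsingleton _
  obtain ⟨s, hs⟩ : ∃ s : ℤ, s + m = n := ⟨n - m, by omega⟩
  have hs0 : s ≠ 0 := by omega
  have hT := TStructure.t.triangleLTGE_distinguished (m + 1) ω
  haveI : ((TStructure.t.truncLT (m + 1)).obj ω).IsLE m := by
    have : ((TStructure.t.truncLT (m + 1)).obj ω).IsLE (m + 1 - 1) := inferInstance
    simpa using this
  obtain ⟨V, ⟨e⟩⟩ := exists_iso_singleFunctor_obj_of_isGE_of_isLE
    ((TStructure.t.truncLT (m + 1)).obj ω) m
  have := Groth.Agent.H45.isIso_homologyMap_truncLTι ω (m + 1) m (by omega)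
  have eV : (homologyFunctor (ModuleCat.{u} K) m).obj ω ≅ V :=
    (asIso ((homologyFunctor (ModuleCat.{u} K) m).map
      ((TStructure.t.truncLTι (m + 1)).app ω))).symm ≪≫
      (homologyFunctor (ModuleCat.{u} K) m).mapIso e ≪≫
      (singleFunctorCompHomologyFunctorIso (ModuleCat.{u} K) m).app V
  haveI : Module.Finite K ((homologyFunctor (ModuleCat.{u} K) m).obj ω) := hHfin m
  haveI : Module.Finite K V := Module.Finite.equiv eV.toLinearEquiv
  haveI : Nontrivial V := by
    have h1 : Nontrivial (Dual.HD K ω m) := by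
      by_contra hc
      rw [not_nontrivial_iff_subsingleton] at hc
      have := (subsingleton_T_self_iff ω m).mpr hc
      exact not_subsingleton _ this
    exact eV.toLinearEquiv.symm.toEquiv.nontrivial
  have hTV : Nontrivial (T ω n V) := nontrivial_T_top_of_field hK ω n hhigh hn V
  have h3 : Subsingleton ((TStructure.t.truncGE (m + 1)).obj ω ⟶ ω⟦s + 1⟧) := by
    refine subsingleton_hom_of_bounded_gen ω n hpos _ (m + 1) n inferInstance inferInstance ?_
      (s + 1) (by omega)
    intro q
    by_cases hq : m + 1 ≤ q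
    · have := Groth.Agent.H45.isIso_homologyMap_truncGEπ ω (m + 1) q hq
      haveI : Module.Finite K ((homologyFunctor (ModuleCat.{u} K) q).obj
          ((𝟭 (DerivedCategory (ModuleCat.{u} K))).obj ω)) := hHfin q
      exact Module.Finite.equiv
        (asIso ((homologyFunctor (ModuleCat.{u} K) q).map
          ((TStructure.t.truncGEπ (m + 1)).app ω))).toLinearEquiv
    · have hz : IsZero ((homologyFunctor (ModuleCat.{u} K) q).obj
          ((TStructure.t.truncGE (m + 1)).obj ω)) :=
        isZero_of_isGE _ (m + 1) q (by omega)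
      haveI : Subsingleton (Dual.HD K ((TStructure.t.truncGE (m + 1)).obj ω) q) :=
        ModuleCat.subsingleton_of_isZero hz
      infer_instance
  have h3' : Subsingleton (((TStructure.t.truncGE (m + 1)).obj ω)⟦(-1 : ℤ)⟧ ⟶ ω⟦s⟧) := by
    apply Groth.Agent.H28.DualFinite.subsingleton_shift_left (-1) 1 (by omega)
    exact Groth.Agent.H28.CoextModel.subsingleton_hom_of_iso (Iso.refl _)
      ((shiftFunctorAdd' (Dual.D K) s 1 (s + 1) rfl).app ω) h3
  have h2 : Subsingleton (ω ⟶ ω⟦s⟧) := hω.ext_self_subsingleton s hs0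
  have hT' := inv_rot_of_distTriang _ hT
  have h1 : Subsingleton ((TStructure.t.truncLT (m + 1)).obj ω ⟶ ω⟦s⟧) :=
    subsingleton_hom_obj₂ _ hT' (ω⟦s⟧) h3' h2
  have h1' : Subsingleton ((DerivedCategory.singleFunctor (ModuleCat.{u} K) m).obj V ⟶ ω⟦s⟧) :=
    ⟨fun x y => by
      have := Subsingleton.elim (e.hom ≫ x) (e.hom ≫ y)
      exact (cancel_epi e.hom).mp this⟩
  have h1'' : Subsingleton (T ω (s + m) V) := (singleHomEquiv ω V m s).symm.subsingleton
  rw [hs] at h1''
  exact not_subsingleton (T ω n V) h1''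

include hK hω in
/-- over a field, `T^j(K)` is non-zero in exactly one degree -/
theorem exists_unique_degree_of_field :
    ∃ n : ℤ, Nontrivial (T ω n K) ∧ ∀ j : ℤ, j ≠ n → Subsingleton (T ω j K) := by
  classical
  obtain ⟨a, b, hab⟩ := hω.finite_injective_dimension
  have hbd : ∀ j : ℤ, Nontrivial (T ω j K) → a ≤ j ∧ j ≤ b := by
    intro j hj
    by_contra hcon
    have h1 : j < a ∨ b < j := by omega
    haveI := hab K j h1
    exact not_subsingleton (T ω j K) inferInstance
  obtain ⟨j₀, hj₀⟩ := exists_nontrivial_T_of_field hK hω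
  obtain ⟨n, hn, hnmax⟩ := Int.exists_greatest_of_bdd (P := fun j => Nontrivial (T ω j K))
    ⟨b, fun j hj => (hbd j hj).2⟩ ⟨j₀, hj₀⟩
  obtain ⟨m, hm, hmmin⟩ := Int.exists_least_of_bdd (P := fun j => Nontrivial (T ω j K))
    ⟨a, fun j hj => (hbd j hj).1⟩ ⟨j₀, hj₀⟩
  have hlow : ∀ j : ℤ, j < m → Subsingleton (T ω j K) := by
    intro j hj
    by_contra hc
    rw [not_subsingleton_iff_nontrivial] at hc
    have := hmmin j hc
    omega
  have hhigh : ∀ j : ℤ, n < j → Subsingleton (T ω j K) := by
    intro j hj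
    by_contra hc
    rw [not_subsingleton_iff_nontrivial] at hc
    have := hnmax j hc
    omega
  have hmn : m = n := by
    have h1 : m ≤ n := hnmax m hm
    rcases h1.lt_or_eq with h | h
    · exact (false_of_lt_of_field hK hω m n h hm hn hlow hhigh).elim
    · exact h
  subst hmn
  refine ⟨m, hm, fun j hj => ?_⟩
  rcases lt_or_gt_of_ne hj with h | h
  · exact hlow j h
  · exact hhigh j h

include hK hω in
/-- **dualizing complexes over a field** -/
theorem field_case :
    ∃ n : ℤ, (∀ j : ℤ, j ≠ n → Subsingleton (T ω j K)) ∧ Nonempty (T ω n K ≃ₗ[K] K) := by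
  obtain ⟨n, hn, hvan⟩ := exists_unique_degree_of_field hK hω
  refine ⟨n, hvan, ?_⟩
  have hH : ∀ j : ℤ, j ≠ n →
      IsZero ((DerivedCategory.homologyFunctor (ModuleCat.{u} K) j).obj ω) := by
    intro j hj
    haveI : Subsingleton (Dual.HD K ω j) := (subsingleton_T_self_iff ω j).mp (hvan j hj)
    exact ModuleCat.isZero_of_subsingleton _
  haveI : ω.IsGE n := (DerivedCategory.isGE_iff ω n).mpr (fun i hi => hH i (by omega))
  haveI : ω.IsLE n := (DerivedCategory.isLE_iff ω n).mpr (fun i hi => hH i (by omega))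
  obtain ⟨Y, ⟨e⟩⟩ := DerivedCategory.exists_iso_singleFunctor_obj_of_isGE_of_isLE ω n
  let eH : Dual.HD K ω n ≃ₗ[K] Y :=
    ((homologyFunctor (ModuleCat.{u} K) n).mapIso e ≪≫
      (singleFunctorCompHomologyFunctorIso (ModuleCat.{u} K) n).app Y).toLinearEquiv
  haveI : Nontrivial (Dual.HD K ω n) := by
    by_contra hc
    rw [not_nontrivial_iff_subsingleton] at hc
    have := (subsingleton_T_self_iff ω n).mpr hc
    exact not_subsingleton _ this
  haveI : Nontrivial Y := eH.symm.toEquiv.nontrivial
  let e₀ : ω⟦n⟧ ≅ (DerivedCategory.singleFunctor (ModuleCat.{u} K) 0).obj Y :=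
    (shiftFunctor (Dual.D K) n).mapIso e ≪≫
      ((DerivedCategory.singleFunctors (ModuleCat.{u} K)).shiftIso n 0 n (by omega)).app Y
  have hbij₀ : Function.Bijective (fun a : K => a • 𝟙 (ω⟦n⟧)) := by
    have h1 : (fun a : K => a • 𝟙 (ω⟦n⟧)) =
        (fun f : ω ⟶ ω => (shiftFunctor (Dual.D K) n).map f) ∘ (fun a : K => a • 𝟙 ω) := by
      funext a
      simp only [Function.comp_apply]
      rw [Functor.map_smul, CategoryTheory.Functor.map_id]
    rw [h1]
    exact ((Functor.FullyFaithful.ofFullyFaithful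
      (shiftFunctor (Dual.D K) n)).map_bijective ω ω).comp hω.toEnd_bijective
  haveI : IsLocalRing K := by
    letI := hK.toField
    infer_instance
  have hidem := idempotent_trivial (ω := ω⟦n⟧) Y e₀ hbij₀
  obtain ⟨eY⟩ := equiv_of_idempotent_trivial K hK Y hidem
  let φ : T ω n K →ₗ[K] K := eY.toLinearMap ∘ₗ eH.toLinearMap ∘ₗ Ψ ω n
  have hφ : Function.Injective φ :=
    eY.injective.comp (eH.injective.comp (Ψ_injective ω n))
  exact equiv_of_injective_to_field K hK (T ω n K) φ hφ

end FieldMain

end Groth.Agent.H2.DualCx
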