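import Mathlib
import Groth.Agent.H2.DualCx.FieldCase
import Groth.Agent.H2.DualCx.AdjTransfer
import Groth.Agent.H28.CoextModel
import Groth.Agent.H28.DualFinite

/-!
# `Ext^i(A/m, ω)` for a dualizing complex `ω` and a maximal ideal `m`  (helper2)

`Hom_{D(A)}(A/m, ω[i])` vanishes except in one degree `n`, where it is `≃ A/m`.
Uses helper28's `isDualizing_rightAdjoint` (S1772) for `A → A/m` and the field case.
-/

set_option autoImplicit false
set_option linter.unusedSectionVars false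
set_option linter.style.haveILetI false

namespace Groth.Agent.H2.DualCx

universe u

open CategoryTheory CategoryTheory.Limits Pretriangulated DerivedCategory

attribute [local instance] HasDerivedCategory.standard

theorem residue_ext (A : Type u) [CommRing A] [IsNoetherianRing A] (ω : Dual.D A)
    (hω : Dual.IsDualizing A ω) (m : Ideal A) [m.IsMaximal] :
    ∃ n : ℤ, (∀ i : ℤ, i ≠ n → Subsingleton (Dual.inD A (A ⧸ m) ⟶ ω⟦i⟧)) ∧
      Nonempty ((Dual.inD A (A ⧸ m) ⟶ ω⟦n⟧) ≃ₗ[A] (A ⧸ m)) := by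
  have hK : IsField (A ⧸ m) :=
    (Ideal.Quotient.maximal_ideal_iff_isField_quotient m).mp inferInstance
  let R : Dual.D A ⥤ Dual.D (A ⧸ m) := Groth.Agent.H28.CoextModel.RRc (A := A) (B := A ⧸ m)
  let adj : DRing.restrictD (algebraMap A (A ⧸ m)) ⊣ R :=
    Groth.Agent.H28.CoextModel.adj' (A := A) (B := A ⧸ m)
  have hω' : Dual.IsDualizing (A ⧸ m) (R.obj ω) :=
    Groth.Agent.H28.DualFinite.isDualizing_rightAdjoint R adj ω hω
  obtain ⟨n, hvan, ⟨eK⟩⟩ := field_case hK hω'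
  let Θ : ∀ i : ℤ, (Dual.inD (A ⧸ m) (A ⧸ m) ⟶ (R.obj ω)⟦i⟧) ≃
      (Dual.inD A (A ⧸ m) ⟶ ω⟦i⟧) := fun i =>
    (thetaEquiv R adj (Dual.inD (A ⧸ m) (A ⧸ m)) ω i).trans
      (Iso.homCongr (Groth.Agent.H28.RestrAdj.restrictD_inD_iso (A := A) (B := A ⧸ m))
        (Iso.refl _))
  have hΘ : ∀ (i : ℤ) (g : Dual.inD (A ⧸ m) (A ⧸ m) ⟶ (R.obj ω)⟦i⟧), Θ i g =
      (Groth.Agent.H28.RestrAdj.restrictD_inD_iso (A := A) (B := A ⧸ m)).inv ≫
        thetaFun R adj (Dual.inD (A ⧸ m) (A ⧸ m)) ω i g := by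
    intro i g
    simp only [Θ, Equiv.trans_apply, Iso.homCongr_apply, Iso.refl_hom, Category.comp_id,
      thetaEquiv_apply]
  refine ⟨n, fun i hi => ?_, ?_⟩
  · haveI := hvan i hi
    exact (Θ i).symm.subsingleton
  · let ψ : (A ⧸ m) →ₗ[A] (Dual.inD A (A ⧸ m) ⟶ ω⟦n⟧) :=
      { toFun := fun b => Θ n (eK.symm b)
        map_add' := fun b b' => by
          rw [map_add, hΘ, hΘ, hΘ, thetaFun_add, Preadditive.comp_add]
        map_smul' := fun a b => by
          have h1 : a • b = (algebraMap A (A ⧸ m) a) • b := by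
            rw [Algebra.smul_def, smul_eq_mul]
          rw [h1, map_smul, hΘ, hΘ, thetaFun_smul, Linear.comp_smul]
          rfl }
    have hψ : Function.Bijective ψ := (Θ n).bijective.comp eK.symm.bijective
    exact ⟨(LinearEquiv.ofBijective ψ hψ).symm⟩

end Groth.Agent.H2.DualCx
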