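import Mathlib
import Groth.Agent.H2.DualCx.ResidueExt
import Groth.Agent.H2.DualCx.Support3
import Groth.Agent.H2.DualCx.DepthSupp

/-!
# Local consequences of the existence of a normalized shift  (helper2)

* `exists_norm_shift` : every dualizing complex over a Noetherian local ring has a normalized shift.
* `isCohenMacaulayLocalRing_of_single_degree` : if `ω` has cohomology in a single degree, `A` is CM.
* `eq_of_nontrivial_HD_of_isCohenMacaulay` : conversely over a CM local ring `ω` has cohomology in
  at most one degree.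
* `support_HD_bottom` : the support of `H^{-d}(ω)`, `d = dim A`.
* `depth_HD_bottom` : `min(2, d) ≤ depth H^{-d}(ω)`.
-/

set_option autoImplicit false
set_option linter.unusedSectionVars false
set_option linter.style.haveILetI false

namespace Groth.Agent.H2.DualCx

universe u

open CategoryTheory CategoryTheory.Limits Pretriangulated DerivedCategory IsLocalRing

attribute [local instance] HasDerivedCategory.standard

section Shift

variable {A : Type u} [CommRing A] (W : Dual.D A)

/-- `T` of a shifted complex -/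
noncomputable def TShiftEquiv (n j : ℤ) (M : Type u) [AddCommGroup M] [Module A M] :
    T (W⟦n⟧) j M ≃ₗ[A] T W (n + j) M :=
  Linear.homCongr A (Iso.refl _) ((shiftFunctorAdd' (Dual.D A) n j (n + j) rfl).app W).symm

/-- cohomology of a shifted complex -/
noncomputable def HDShiftEquiv (n i : ℤ) : Dual.HD A (W⟦n⟧) i ≃ₗ[A] Dual.HD A W (n + i) :=
  (((DerivedCategory.homologyFunctor (ModuleCat.{u} A) 0).shiftIso n i (n + i) rfl).app
    W).toLinearEquiv

end Shift

section Bottom

variable {A : Type u} [CommRing A] (W : Dual.D A) (n₀ : ℤ)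
  (hpos : ∀ (M : Type u) [AddCommGroup M] [Module A M] [Module.Finite A M] (j : ℤ),
    n₀ < j → Subsingleton (T W j M))

include hpos in
/-- for `W ∈ D^{[m, b]}` with finite cohomology: if `Hom(W, W[k]) = 0` and `k + m + 2 > n₀` then
`T^{k+m}(H^m(W)) = 0`. -/
theorem subsingleton_T_bottom (m b : ℤ) (hGE : W.IsGE m) (hLE : W.IsLE b)
    (hfin : ∀ q : ℤ, Module.Finite A (Dual.HD A W q)) (k : ℤ) (hk : Subsingleton (W ⟶ W⟦k⟧))
    (hk' : n₀ < k + m + 2) : Subsingleton (T W (k + m) (Dual.HD A W m)) := by
  have hT := TStructure.t.triangleLTGE_distinguished (m + 1) W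
  haveI : ((TStructure.t.truncLT (m + 1)).obj W).IsLE m := by
    have : ((TStructure.t.truncLT (m + 1)).obj W).IsLE (m + 1 - 1) := inferInstance
    simpa using this
  obtain ⟨V, ⟨e⟩⟩ := exists_iso_singleFunctor_obj_of_isGE_of_isLE
    ((TStructure.t.truncLT (m + 1)).obj W) m
  have := Groth.Agent.H45.isIso_homologyMap_truncLTι W (m + 1) m (by omega)
  have eV : (homologyFunctor (ModuleCat.{u} A) m).obj W ≅ V :=
    (asIso ((homologyFunctor (ModuleCat.{u} A) m).map
      ((TStructure.t.truncLTι (m + 1)).app W))).symm ≪≫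
      (homologyFunctor (ModuleCat.{u} A) m).mapIso e ≪≫
      (singleFunctorCompHomologyFunctorIso (ModuleCat.{u} A) m).app V
  have h3 : Subsingleton ((TStructure.t.truncGE (m + 1)).obj W ⟶ W⟦k + 1⟧) := by
    refine subsingleton_hom_of_bounded_gen W n₀ hpos _ (m + 1) b inferInstance inferInstance ?_
      (k + 1) (by omega)
    intro q
    by_cases hq : m + 1 ≤ q
    · have := Groth.Agent.H45.isIso_homologyMap_truncGEπ W (m + 1) q hq
      haveI : Module.Finite A ((homologyFunctor (ModuleCat.{u} A) q).obj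
          ((𝟭 (DerivedCategory (ModuleCat.{u} A))).obj W)) := hfin q
      exact Module.Finite.equiv
        (asIso ((homologyFunctor (ModuleCat.{u} A) q).map
          ((TStructure.t.truncGEπ (m + 1)).app W))).toLinearEquiv
    · have hz : IsZero ((homologyFunctor (ModuleCat.{u} A) q).obj
          ((TStructure.t.truncGE (m + 1)).obj W)) :=
        isZero_of_isGE _ (m + 1) q (by omega)
      haveI : Subsingleton (Dual.HD A ((TStructure.t.truncGE (m + 1)).obj W) q) :=
        ModuleCat.subsingleton_of_isZero hz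
      infer_instance
  have h3' : Subsingleton (((TStructure.t.truncGE (m + 1)).obj W)⟦(-1 : ℤ)⟧ ⟶ W⟦k⟧) := by
    apply Groth.Agent.H28.DualFinite.subsingleton_shift_left (-1) 1 (by omega)
    exact Groth.Agent.H28.CoextModel.subsingleton_hom_of_iso (Iso.refl _)
      ((shiftFunctorAdd' (Dual.D A) k 1 (k + 1) rfl).app W) h3
  have hT' := inv_rot_of_distTriang _ hT
  have h1 : Subsingleton ((TStructure.t.truncLT (m + 1)).obj W ⟶ W⟦k⟧) :=
    subsingleton_hom_obj₂ _ hT' (W⟦k⟧) h3' hk
  have h1' : Subsingleton ((DerivedCategory.singleFunctor (ModuleCat.{u} A) m).obj V ⟶ W⟦k⟧) :=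
    ⟨fun x y => by
      have := Subsingleton.elim (e.hom ≫ x) (e.hom ≫ y)
      exact (cancel_epi e.hom).mp this⟩
  have h1'' : Subsingleton (T W (k + m) V) := (singleHomEquiv W V m k).symm.subsingleton
  exact (congr W (k + m) eV.toLinearEquiv).symm.toEquiv.subsingleton

end Bottom

section Local

variable {A : Type u} [CommRing A] [IsNoetherianRing A] [IsLocalRing A] {ω : Dual.D A}

/-- every dualizing complex over a local ring has a normalized shift, of type one -/
theorem exists_norm_shift (hω : Dual.IsDualizing A ω) :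
    ∃ n : ℤ, Norm (ω⟦n⟧) ∧
      Nonempty (T (ω⟦n⟧) 0 (A ⧸ maximalIdeal A) ≃ₗ[A] (A ⧸ maximalIdeal A)) := by
  obtain ⟨n, hvan, ⟨e⟩⟩ := residue_ext A ω hω (maximalIdeal A)
  have e0 : T (ω⟦n⟧) 0 (A ⧸ maximalIdeal A) ≃ₗ[A] (A ⧸ maximalIdeal A) := by
    have h1 : n + 0 = n := add_zero n
    exact (TShiftEquiv ω n 0 _).trans (h1 ▸ e)
  refine ⟨n, ⟨?_, ?_, ?_⟩, ⟨e0⟩⟩
  · intro j M _ _ _
    haveI := finT'_of_isDualizing hω (n + j) M
    exact Module.Finite.equiv (TShiftEquiv ω n j M).symm
  · intro j hj
    haveI := hvan (n + j) (by omega)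
    exact (TShiftEquiv ω n j _).toEquiv.subsingleton
  · exact e0.toEquiv.nontrivial

/-- the dimension of a Noetherian local ring is a natural number -/
theorem exists_ringKrullDim_eq_nat : ∃ d : ℕ, ringKrullDim A = d := by
  have h1 : ringKrullDim A ≠ ⊤ := ringKrullDim_ne_top
  have h2 : ringKrullDim A ≠ ⊥ := ringKrullDim_ne_bot
  cases h : ringKrullDim A with
  | bot => exact absurd h h2
  | coe x =>
    cases x with
    | top => exact absurd h h1
    | coe d => exact ⟨d, rfl⟩

/-- **(L1)** a Noetherian local ring with a dualizing complex having cohomology in a single degree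
is Cohen–Macaulay -/
theorem isCohenMacaulayLocalRing_of_single_degree (hω : Dual.IsDualizing A ω) (i₀ : ℤ)
    (h : ∀ i : ℤ, i ≠ i₀ → Subsingleton (Dual.HD A ω i)) : LocCoh.IsCohenMacaulayLocalRing A := by
  obtain ⟨n, hN, -⟩ := exists_norm_shift hω
  obtain ⟨d, hd⟩ := exists_ringKrullDim_eq_nat (A := A)
  have hd' : Module.supportDim A A = d := by rw [Module.supportDim_self_eq_ringKrullDim, hd]
  -- degrees with `T ω j A ≠ 0` are `i₀`
  have key : ∀ j : ℤ, Nontrivial (T (ω⟦n⟧) j A) → n + j = i₀ := by
    intro j hj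
    by_contra hne
    haveI := h (n + j) hne
    haveI : Subsingleton (T ω (n + j) A) := (subsingleton_T_self_iff ω (n + j)).mpr inferInstance
    have : Subsingleton (T (ω⟦n⟧) j A) := (TShiftEquiv ω n j A).toEquiv.subsingleton
    exact not_subsingleton _ this
  have h1 := key _ (nontrivial_T_top hN A d hd')
  refine { supportDim_eq_depth := ?_ }
  rw [hd']
  cases hδ : LocCoh.depth A A with
  | top =>
    exfalso
    have hsub := vanish_of_le_depth hN (d + 1) A (by rw [hδ]; exact le_top) d (by omega)
    haveI := nontrivial_T_top hN A d hd'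
    exact not_subsingleton _ hsub
  | coe δ =>
    have h2 := key _ (nontrivial_of_depth_eq hN δ A hδ)
    have : δ = d := by omega
    rw [this]
    rfl

/-- **(L1')** over a Cohen–Macaulay local ring a dualizing complex has cohomology in at most one
degree -/
theorem eq_of_nontrivial_HD_of_isCohenMacaulay (hω : Dual.IsDualizing A ω)
    (hCM : Module.supportDim A A = ((LocCoh.depth A A : ℕ∞) : WithBot ℕ∞)) (i j : ℤ)
    (hi : Nontrivial (Dual.HD A ω i)) (hj : Nontrivial (Dual.HD A ω j)) : i = j := by
  obtain ⟨n, hN, -⟩ := exists_norm_shift hω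
  obtain ⟨d, hd⟩ := exists_ringKrullDim_eq_nat (A := A)
  have hd' : Module.supportDim A A = d := by rw [Module.supportDim_self_eq_ringKrullDim, hd]
  have hdepth : LocCoh.depth A A = d := by
    rw [hd'] at hCM
    exact (WithBot.coe_injective hCM).symm
  have key : ∀ i : ℤ, Nontrivial (Dual.HD A ω i) → i = n - d := by
    intro i hi
    have h1 : Nontrivial (T ω i A) := by
      by_contra hc
      rw [not_nontrivial_iff_subsingleton] at hc
      have := (subsingleton_T_self_iff ω i).mp hc
      exact not_subsingleton _ this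
    have h2 : Nontrivial (T (ω⟦n⟧) (i - n) A) := by
      have e := TShiftEquiv ω n (i - n) A
      have h3 : n + (i - n) = i := by ring
      rw [h3] at e
      exact e.toEquiv.nontrivial
    have h3 := (range_and_supportDim hN A d hd' (i - n)).1 h2
    by_contra hne
    obtain ⟨δ, hδ⟩ := Int.eq_ofNat_of_zero_le (by omega : 0 ≤ n - i)
    have hδd : δ < d := by omega
    have h4 := vanish_of_le_depth hN d A (le_of_eq hdepth.symm) δ hδd
    have h5 : i - n = -(δ : ℤ) := by omega
    rw [h5] at h2
    exact not_subsingleton _ h4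
  rw [key i hi, key j hj]

end Local

section Bottom2

variable {A : Type u} [CommRing A] [IsNoetherianRing A] [IsLocalRing A] {ω : Dual.D A}
  (hN : Norm ω)

include hN in
/-- the support of `H^{-d}(ω)` is the union of the irreducible components of dimension `d` -/
theorem support_HD_bottom (hfin : ∀ i, Module.Finite A (Dual.HD A ω i)) (d : ℕ)
    (hd : ringKrullDim A = d) :
    Module.support A (Dual.HD A ω (-(d : ℤ))) =
      {p : PrimeSpectrum A | ∃ q ∈ minimalPrimes A, q ≤ p.asIdeal ∧ ringKrullDim (A ⧸ q) = d} := by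
  haveI := hfin (-(d : ℤ))
  have hcohd : ∀ q : PrimeSpectrum A, Order.coheight q ≤ (d : ℕ∞) := by
    intro q
    have h1 : ((Order.coheight q : ℕ∞) : WithBot ℕ∞) ≤ ringKrullDim A := by
      rw [Groth.Agent.H24.coheight_eq_ringKrullDim_quotient q]
      exact ringKrullDim_quotient_le _
    rw [hd] at h1
    exact_mod_cast h1
  ext p
  constructor
  · intro hp
    rw [support_HD_eq] at hp
    obtain ⟨q', hq', -⟩ := exists_prime_of_mem_support_T ω (-(d : ℤ)) p A hp
    have hle := le_of_mem_support_T_quot q'.asIdeal p _ hq'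
    -- `coheight q' = d`
    have hnt : Nontrivial (T ω (-(d : ℤ)) (A ⧸ q'.asIdeal)) := by
      by_contra hc
      rw [not_nontrivial_iff_subsingleton] at hc
      rw [Module.support_eq_empty] at hq'
      exact absurd hq' (Set.notMem_empty p)
    obtain ⟨e, he⟩ := ENat.ne_top_iff_exists.mp (Order.coheight_lt_top q').ne
    have he' : Module.supportDim A (A ⧸ q'.asIdeal) = e := by
      rw [Module.supportDim_quotient_eq_ringKrullDim,
        ← Groth.Agent.H24.coheight_eq_ringKrullDim_quotient q', ← he]
      rfl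
    have h1 := (range_and_supportDim hN (A ⧸ q'.asIdeal) e he' (-(d : ℤ))).1 hnt
    have h2 : e ≤ d := by
      have := hcohd q'
      rw [← he] at this
      exact_mod_cast this
    have hed : e = d := by omega
    -- `q'` is minimal
    obtain ⟨q₀, hq₀, hq₀le⟩ := Ideal.exists_minimalPrimes_le (I := (⊥ : Ideal A))
      (J := q'.asIdeal) bot_le
    have hq₀' : q₀ ∈ minimalPrimes A := hq₀
    have heq : q₀ = q'.asIdeal := by
      by_contra hne
      have hlt : (⟨q₀, hq₀.1.1⟩ : PrimeSpectrum A) < q' := lt_of_le_of_ne hq₀le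
        (fun h => hne (congrArg PrimeSpectrum.asIdeal h))
      have h3 := Order.coheight_strictAnti hlt (Order.coheight_lt_top q')
      have h4 := hcohd ⟨q₀, hq₀.1.1⟩
      rw [← he, hed] at h3
      exact absurd (lt_of_lt_of_le h3 h4) (lt_irrefl _)
    refine ⟨q'.asIdeal, heq ▸ hq₀', hle, ?_⟩
    rw [← Groth.Agent.H24.coheight_eq_ringKrullDim_quotient q', ← he, hed]
    rfl
  · rintro ⟨q, hq, hqp, hdim⟩
    have hcoh : Order.coheight (⟨q, hq.1.1⟩ : PrimeSpectrum A) = (d : ℕ∞) := by
      have h1 := Groth.Agent.H24.coheight_eq_ringKrullDim_quotient (⟨q, hq.1.1⟩ : PrimeSpectrum A)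
      rw [hdim] at h1
      exact WithBot.coe_injective h1
    have h1 : (⟨q, hq.1.1⟩ : PrimeSpectrum A) ∈ Module.support A (Dual.HD A ω (-(d : ℤ))) :=
      (mem_support_HD_iff hN hfin ⟨q, hq.1.1⟩ hq d hcoh (-(d : ℤ))).mpr rfl
    rw [Module.mem_support_iff_of_finite] at h1 ⊢
    exact h1.trans hqp

include hN in
/-- `H^{-d}(ω)` has depth at least `min(2, d)` (the `(S₂)` inequality at the closed point) -/
theorem depth_HD_bottom (hω : Dual.IsDualizing A ω) (d : ℕ) (hd : ringKrullDim A = d) :
    min (2 : ℕ∞) (d : ℕ∞) ≤ LocCoh.depth A (Dual.HD A ω (-(d : ℤ))) := by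
  have hfin := hω.finite_cohomology
  haveI := hfin (-(d : ℤ))
  have hd' : Module.supportDim A A = d := by rw [Module.supportDim_self_eq_ringKrullDim, hd]
  haveI : Nontrivial (Dual.HD A ω (-(d : ℤ))) := by
    have h1 := nontrivial_T_top hN A d hd'
    by_contra hc
    rw [not_nontrivial_iff_subsingleton] at hc
    have := (subsingleton_T_self_iff ω (-(d : ℤ))).mpr hc
    exact not_subsingleton _ this
  have hpos : ∀ (M : Type u) [AddCommGroup M] [Module A M] [Module.Finite A M] (j : ℤ),
      0 < j → Subsingleton (T ω j M) := fun M _ _ _ j hj => pos_vanish hN M j hj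
  have hGE : ω.IsGE (-(d : ℤ)) := by
    rw [DerivedCategory.isGE_iff]
    intro i hi
    haveI : Subsingleton (T ω i A) := by
      by_contra hc
      rw [not_subsingleton_iff_nontrivial] at hc
      have := ((range_and_supportDim hN A d hd' i).1 hc).1
      omega
    haveI : Subsingleton (Dual.HD A ω i) := (subsingleton_T_self_iff ω i).mp inferInstance
    exact ModuleCat.isZero_of_subsingleton _
  have hLE : ω.IsLE 0 := by
    rw [DerivedCategory.isLE_iff]
    intro i hi
    haveI : Subsingleton (T ω i A) := pos_vanish hN A i hi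
    haveI : Subsingleton (Dual.HD A ω i) := (subsingleton_T_self_iff ω i).mp inferInstance
    exact ModuleCat.isZero_of_subsingleton _
  by_contra hcon
  push Not at hcon
  have hlt2 : LocCoh.depth A (Dual.HD A ω (-(d : ℤ))) < 2 := lt_of_lt_of_le hcon (min_le_left _ _)
  have hltd : LocCoh.depth A (Dual.HD A ω (-(d : ℤ))) < d := lt_of_lt_of_le hcon (min_le_right _ _)
  obtain ⟨δ, hδ⟩ := ENat.ne_top_iff_exists.mp (ne_top_of_lt hlt2)
  rw [← hδ] at hlt2 hltd
  have hδ2 : δ < 2 := by exact_mod_cast hlt2
  have hδd : δ < d := by exact_mod_cast hltd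
  have hnt := nontrivial_of_depth_eq hN δ (Dual.HD A ω (-(d : ℤ))) hδ.symm
  have hk0 : ((d : ℤ) - δ) ≠ 0 := by omega
  have hsub := subsingleton_T_bottom ω 0 hpos (-(d : ℤ)) 0 hGE hLE hfin ((d : ℤ) - δ)
    (hω.ext_self_subsingleton _ hk0) (by omega)
  have e : (d : ℤ) - δ + -(d : ℤ) = -(δ : ℤ) := by ring
  rw [e] at hsub
  exact not_subsingleton _ hsub

end Bottom2

end Groth.Agent.H2.DualCx
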