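import Mathlib
import Groth.Agent.H2.DualCx.LocalCM
import Groth.Agent.H35.BoundedInductionDeg

/-!
# `P`-locally vanishing Hom groups in `D(A)`  (helper2)

`PL P Z Y` : every morphism `Z ⟶ Y` is killed by some `s ∉ P`.  Calculus (isomorphisms, shifts,
triangles, amplitude induction) and a `P`-local version of `subsingleton_T_bottom`.
-/

set_option autoImplicit false
set_option linter.unusedSectionVars false
set_option linter.style.haveILetI false

namespace Groth.Agent.H2.DualCx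

universe u

open CategoryTheory CategoryTheory.Limits Pretriangulated DerivedCategory

attribute [local instance] HasDerivedCategory.standard

section PL

variable {A : Type u} [CommRing A] (P : PrimeSpectrum A)

/-- every morphism `Z ⟶ Y` is killed by some `s ∉ P` -/
def PL (Z Y : Dual.D A) : Prop := ∀ f : Z ⟶ Y, ∃ s : A, s ∉ P.asIdeal ∧ s • f = 0

variable {P}

theorem PL_of_subsingleton {Z Y : Dual.D A} (h : Subsingleton (Z ⟶ Y)) : PL P Z Y := by
  intro f
  refine ⟨1, ?_, Subsingleton.elim _ _⟩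
  intro h1
  exact P.2.ne_top ((Ideal.eq_top_iff_one _).mpr h1)

theorem PL_of_iso {Z Z' Y Y' : Dual.D A} (e : Z ≅ Z') (e' : Y ≅ Y') (h : PL P Z Y) :
    PL P Z' Y' := by
  intro f
  obtain ⟨s, hs, h0⟩ := h (e.hom ≫ f ≫ e'.inv)
  refine ⟨s, hs, ?_⟩
  have h1 : s • f = e.inv ≫ (s • (e.hom ≫ f ≫ e'.inv)) ≫ e'.hom := by
    rw [Linear.smul_comp, Linear.comp_smul]
    simp
  rw [h1, h0, zero_comp, comp_zero]

/-- `PL(X[n], Y)` from `PL(X, Y[m])`, `n + m = 0` -/
theorem PL_shift_left {X Y : Dual.D A} (n m : ℤ) (h : n + m = 0) (hs : PL P X (Y⟦m⟧)) :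
    PL P (X⟦n⟧) Y := by
  intro f
  let e : X ≅ X⟦n⟧⟦m⟧ := ((shiftFunctorCompIsoId (Dual.D A) n m h).app X).symm
  obtain ⟨s, hs, h0⟩ := hs (e.hom ≫ f⟦m⟧')
  refine ⟨s, hs, ?_⟩
  apply (shiftFunctor (Dual.D A) m).map_injective
  rw [Functor.map_smul, Functor.map_zero]
  have h1 : s • (e.hom ≫ f⟦m⟧') = e.hom ≫ (s • f⟦m⟧') := by rw [Linear.comp_smul]
  rw [h1] at h0
  have h2 : e.hom ≫ (s • f⟦m⟧') = e.hom ≫ 0 := by rw [h0, comp_zero]
  exact (cancel_epi e.hom).mp h2

/-- half-exactness on triangles -/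
theorem PL_obj₂ (T : Triangle (Dual.D A)) (hT : T ∈ distTriang (Dual.D A)) (Y : Dual.D A)
    (h₁ : PL P T.obj₁ Y) (h₃ : PL P T.obj₃ Y) : PL P T.obj₂ Y := by
  intro f
  obtain ⟨s₁, hs₁, h1⟩ := h₁ (T.mor₁ ≫ f)
  have h2 : T.mor₁ ≫ (s₁ • f) = 0 := by rw [Linear.comp_smul, h1]
  obtain ⟨g, hg⟩ := Triangle.yoneda_exact₂ T hT (s₁ • f) h2
  obtain ⟨s₃, hs₃, h3⟩ := h₃ g
  refine ⟨s₃ * s₁, ?_, ?_⟩
  · intro hmem
    rcases P.2.mem_or_mem hmem with h | h
    · exact hs₃ h
    · exact hs₁ h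
  · rw [mul_smul, hg, ← Linear.comp_smul, h3, comp_zero]

/-- amplitude induction for `PL` -/
theorem PL_of_bounded (Y : Dual.D A) (Z : Dual.D A) (a b : ℤ) (hGE : Z.IsGE a) (hLE : Z.IsLE b)
    (hZ : ∀ q : ℤ, PL P ((DerivedCategory.singleFunctor (ModuleCat.{u} A) q).obj
      ((DerivedCategory.homologyFunctor (ModuleCat.{u} A) q).obj Z)) Y) : PL P Z Y := by
  let Pr : ObjectProperty (Dual.D A) := fun X => PL P X Y
  let S : ℤ → ObjectProperty (ModuleCat.{u} A) := fun q M =>
    PL P ((DerivedCategory.singleFunctor (ModuleCat.{u} A) q).obj M) Y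
  haveI : Pr.IsClosedUnderIsomorphisms := ⟨fun e h => PL_of_iso e (Iso.refl Y) h⟩
  haveI : ∀ n, (S n).IsClosedUnderIsomorphisms := fun n =>
    ⟨fun e h => PL_of_iso ((DerivedCategory.singleFunctor (ModuleCat.{u} A) n).mapIso e)
      (Iso.refl Y) h⟩
  refine Groth.Agent.H35.bounded_induction_deg' Pr S ?_ ?_ ?_ ?_ Z a b hGE hLE hZ
  · intro X hX
    exact PL_of_subsingleton ⟨fun x y => hX.eq_of_src x y⟩
  · intro T hT h1 h3
    exact PL_obj₂ T hT Y h1 h3
  · intro M n hM
    exact hM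
  · intro n M hM
    have hz : IsZero ((DerivedCategory.singleFunctor (ModuleCat.{u} A) n).obj M) :=
      Functor.map_isZero _ hM
    exact PL_of_subsingleton ⟨fun x y => hz.eq_of_src x y⟩

end PL

section Single

variable {A : Type u} [CommRing A] (W : Dual.D A)

theorem singleHomEquiv_smul (M : ModuleCat.{u} A) (m i : ℤ) (s : A)
    (f : (DerivedCategory.singleFunctor (ModuleCat.{u} A) m).obj M ⟶ W⟦i⟧) :
    singleHomEquiv W M m i (s • f) = s • singleHomEquiv W M m i f := by
  simp only [singleHomEquiv, Equiv.trans_apply, Functor.FullyFaithful.homEquiv_apply,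
    Iso.homCongr_apply, Functor.map_smul, Linear.smul_comp, Linear.comp_smul]

/-- `PL(M[-m], W[i])` iff `P ∉ Supp T^{i+m}(M)` (one direction) -/
theorem PL_single_of_notMem_support (P : PrimeSpectrum A) (M : ModuleCat.{u} A) (m i : ℤ)
    (h : P ∉ Module.support A (T W (i + m) M)) :
    PL P ((DerivedCategory.singleFunctor (ModuleCat.{u} A) m).obj M) (W⟦i⟧) := by
  intro f
  rw [Module.notMem_support_iff'] at h
  obtain ⟨s, hs, h0⟩ := h (singleHomEquiv W M m i f)
  refine ⟨s, hs, ?_⟩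
  apply (singleHomEquiv W M m i).injective
  rw [singleHomEquiv_smul, h0]
  have : singleHomEquiv W M m i 0 = 0 := by
    have := singleHomEquiv_smul W M m i 0 f
    rwa [zero_smul, zero_smul] at this
  rw [this]

theorem notMem_support_of_PL_single (P : PrimeSpectrum A) (M : ModuleCat.{u} A) (m i : ℤ)
    (h : PL P ((DerivedCategory.singleFunctor (ModuleCat.{u} A) m).obj M) (W⟦i⟧)) :
    P ∉ Module.support A (T W (i + m) M) := by
  rw [Module.notMem_support_iff']
  intro t
  obtain ⟨s, hs, h0⟩ := h ((singleHomEquiv W M m i).symm t)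
  refine ⟨s, hs, ?_⟩
  have h1 := singleHomEquiv_smul W M m i s ((singleHomEquiv W M m i).symm t)
  rw [Equiv.apply_symm_apply, h0] at h1
  have : singleHomEquiv W M m i 0 = 0 := by
    have := singleHomEquiv_smul W M m i 0 ((singleHomEquiv W M m i).symm t)
    rwa [zero_smul, zero_smul] at this
  rw [this] at h1
  exact h1.symm

end Single

section Bottom

variable {A : Type u} [CommRing A] (W : Dual.D A) (P : PrimeSpectrum A)

/-- `P`-local bottom lemma: for `W ∈ D^{[m,b]}` with `Hom(W, W[k]) = 0`: if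
`P ∉ Supp T^{k+1+q}(H^q(W))` for all `q > m`, then `P ∉ Supp T^{k+m}(H^m(W))`. -/
theorem notMem_support_T_bottom (m b : ℤ) (hGE : W.IsGE m) (hLE : W.IsLE b) (k : ℤ)
    (hk : Subsingleton (W ⟶ W⟦k⟧))
    (hloc : ∀ q : ℤ, m + 1 ≤ q → P ∉ Module.support A (T W (k + 1 + q) (Dual.HD A W q))) :
    P ∉ Module.support A (T W (k + m) (Dual.HD A W m)) := by
  have hT := TStructure.t.triangleLTGE_distinguished (m + 1) W
  haveI : ((TStructure.t.truncLT (m + 1)).obj W).IsLE m := by
    have : ((TStructure.t.truncLT (m + 1)).obj W).IsLE (m + 1 - 1) := inferInstance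
    simpa using this
  obtain ⟨V, ⟨e⟩⟩ := exists_iso_singleFunctor_obj_of_isGE_of_isLE
    ((TStructure.t.truncLT (m + 1)).obj W) m
  have := Groth.Agent.H45.isIso_homologyMap_truncLTι W (m + 1) m (by omega)
  have eV : (homologyFunctor (ModuleCat.{u} A) m).obj W ≅ V :=
    (asIso ((homologyFunctor (ModuleCat.{u} A) m).map
      ((TStructure.t.truncLTι (m + 1)).app W))).symm ≪≫
      (homologyFunctor (ModuleCat.{u} A) m).mapIso e ≪≫
      (singleFunctorCompHomologyFunctorIso (ModuleCat.{u} A) m).app V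
  have h3 : PL P ((TStructure.t.truncGE (m + 1)).obj W) (W⟦k + 1⟧) := by
    refine PL_of_bounded (W⟦k + 1⟧) _ (m + 1) b inferInstance inferInstance ?_
    intro q
    by_cases hq : m + 1 ≤ q
    · have := Groth.Agent.H45.isIso_homologyMap_truncGEπ W (m + 1) q hq
      let eq : (homologyFunctor (ModuleCat.{u} A) q).obj W ≅
          (homologyFunctor (ModuleCat.{u} A) q).obj ((TStructure.t.truncGE (m + 1)).obj W) :=
        asIso ((homologyFunctor (ModuleCat.{u} A) q).map ((TStructure.t.truncGEπ (m + 1)).app W))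
      refine PL_of_iso ((DerivedCategory.singleFunctor (ModuleCat.{u} A) q).mapIso eq)
        (Iso.refl _) ?_
      exact PL_single_of_notMem_support W P _ q (k + 1) (hloc q hq)
    · have hz : IsZero ((homologyFunctor (ModuleCat.{u} A) q).obj
          ((TStructure.t.truncGE (m + 1)).obj W)) :=
        isZero_of_isGE _ (m + 1) q (by omega)
      have hz' : IsZero ((DerivedCategory.singleFunctor (ModuleCat.{u} A) q).obj
          ((homologyFunctor (ModuleCat.{u} A) q).obj ((TStructure.t.truncGE (m + 1)).obj W))) :=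
        Functor.map_isZero _ hz
      exact PL_of_subsingleton ⟨fun x y => hz'.eq_of_src x y⟩
  have h3' : PL P (((TStructure.t.truncGE (m + 1)).obj W)⟦(-1 : ℤ)⟧) (W⟦k⟧) := by
    apply PL_shift_left (-1) 1 (by omega)
    exact PL_of_iso (Iso.refl _) ((shiftFunctorAdd' (Dual.D A) k 1 (k + 1) rfl).app W) h3
  have hT' := inv_rot_of_distTriang _ hT
  have h1 : PL P ((TStructure.t.truncLT (m + 1)).obj W) (W⟦k⟧) :=
    PL_obj₂ _ hT' (W⟦k⟧) h3' (PL_of_subsingleton hk)
  have h1' : PL P ((DerivedCategory.singleFunctor (ModuleCat.{u} A) m).obj V) (W⟦k⟧) :=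
    PL_of_iso e (Iso.refl _) h1
  have h1'' := notMem_support_of_PL_single W P V m k h1'
  rw [← (congr W (k + m) eV.toLinearEquiv).support_eq]
  exact h1''

end Bottom

end Groth.Agent.H2.DualCx
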