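import Mathlib
import Groth.Agent.H2.DualCx.PLocalHom
import Groth.Agent.H2.DualCx.FinDim

/-!
# `P`-local bottom lemma  (helper2)

* `exists_smul_id_eq_zero_of_notMem_support`: a bounded object with finite cohomology modules none
  of which is supported at `P` is killed by some `s ∉ P`.
* `notMem_support_T_bottom_local`: the `P`-local version of `notMem_support_T_bottom`, where `a` is
  only the `P`-local bottom degree of `W`.
-/

set_option autoImplicit false
set_option linter.unusedSectionVars false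
set_option linter.style.haveILetI false

namespace Groth.Agent.H2.DualCx

universe u

open CategoryTheory CategoryTheory.Limits Pretriangulated DerivedCategory

attribute [local instance] HasDerivedCategory.standard

section Kill

variable {A : Type u} [CommRing A] (P : PrimeSpectrum A)

theorem exists_smul_id_eq_zero_of_notMem_support (Y : Dual.D A) (a b : ℤ) (hGE : Y.IsGE a)
    (hLE : Y.IsLE b) (hfin : ∀ q : ℤ, Module.Finite A (Dual.HD A Y q))
    (h : ∀ q : ℤ, P ∉ Module.support A (Dual.HD A Y q)) :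
    ∃ s : A, s ∉ P.asIdeal ∧ s • 𝟙 Y = 0 := by
  classical
  have h1 : ∀ q : ℤ, ∃ s : A, s ∉ P.asIdeal ∧ ∀ c : Dual.HD A Y q, s • c = 0 := by
    intro q
    haveI := hfin q
    have := h q
    rw [Module.mem_support_iff_of_finite, SetLike.not_le_iff_exists] at this
    obtain ⟨s, hs, hsP⟩ := this
    exact ⟨s, hsP, fun c => Module.mem_annihilator.mp hs c⟩
  choose s hs hkill using h1
  let t : A := ∏ q ∈ Finset.Icc a b, s q
  have htP : t ∉ P.asIdeal := by
    intro hmem
    obtain ⟨q, -, hq⟩ := (P.2.prod_mem_iff).mp hmem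
    exact hs q hq
  have ht : ∀ (j : ℤ) (c : Dual.HD A Y j), t • c = 0 := by
    intro j c
    by_cases hj : j ∈ Finset.Icc a b
    · obtain ⟨r, hr⟩ := Finset.dvd_prod_of_mem s hj
      change (∏ q ∈ Finset.Icc a b, s q) • c = 0
      rw [hr, mul_comm, mul_smul, hkill, smul_zero]
    · have hz : IsZero ((homologyFunctor (ModuleCat.{u} A) j).obj Y) := by
        rw [Finset.mem_Icc, not_and_or] at hj
        rcases hj with h | h
        · exact isZero_of_isGE Y a j (by omega)
        · exact isZero_of_isLE Y b j (by omega)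
      haveI : Subsingleton (Dual.HD A Y j) := ModuleCat.subsingleton_of_isZero hz
      exact Subsingleton.elim _ _
  obtain ⟨N, hN⟩ := exists_pow_smul_id_eq_zero Y a b hGE hLE t ht
  exact ⟨t ^ N, fun hmem => htP (P.2.mem_of_pow_mem N hmem), hN⟩

variable {P}

theorem PL_of_smul_id_right {Z Y : Dual.D A} (s : A) (hs : s ∉ P.asIdeal) (h : s • 𝟙 Y = 0) :
    PL P Z Y := by
  intro f
  refine ⟨s, hs, ?_⟩
  have : s • f = f ≫ (s • 𝟙 Y) := by rw [Linear.comp_smul, Category.comp_id]
  rw [this, h, comp_zero]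

theorem PL_of_smul_id_left {Z Y : Dual.D A} (s : A) (hs : s ∉ P.asIdeal) (h : s • 𝟙 Z = 0) :
    PL P Z Y := by
  intro f
  refine ⟨s, hs, ?_⟩
  have : s • f = (s • 𝟙 Z) ≫ f := by rw [Linear.smul_comp, Category.id_comp]
  rw [this, h, zero_comp]

theorem smul_id_shift_eq_zero {Y : Dual.D A} (s : A) (h : s • 𝟙 Y = 0) (n : ℤ) :
    s • 𝟙 (Y⟦n⟧) = 0 := by
  have : s • 𝟙 (Y⟦n⟧) = (s • 𝟙 Y)⟦n⟧' := by
    rw [Functor.map_smul, CategoryTheory.Functor.map_id]
  rw [this, h, Functor.map_zero]

end Kill

section Bottom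

variable {A : Type u} [CommRing A] (W : Dual.D A) (P : PrimeSpectrum A)

/-- `P`-local bottom lemma: `W ∈ D^{[m,b]}` with finite cohomology, `P ∉ Supp H^q(W)` for `q < a`,
`Hom(W, W[k])` `P`-locally zero, and `P ∉ Supp T^{k+1+q}(H^q(W))` for all `q > a`.  Then
`P ∉ Supp T^{k+a}(H^a(W))`. -/
theorem notMem_support_T_bottom_local (m a b : ℤ) (hGE : W.IsGE m) (hLE : W.IsLE b)
    (hfin : ∀ q : ℤ, Module.Finite A (Dual.HD A W q))
    (ha : ∀ q : ℤ, q < a → P ∉ Module.support A (Dual.HD A W q)) (k : ℤ)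
    (hk : PL P W (W⟦k⟧))
    (hloc : ∀ q : ℤ, a + 1 ≤ q → P ∉ Module.support A (T W (k + 1 + q) (Dual.HD A W q))) :
    P ∉ Module.support A (T W (k + a) (Dual.HD A W a)) := by
  -- first truncation: `X = τ_{≤ a} W`
  have hT := TStructure.t.triangleLTGE_distinguished (a + 1) W
  set X := (TStructure.t.truncLT (a + 1)).obj W with hX
  haveI : X.IsLE a := by
    have : ((TStructure.t.truncLT (a + 1)).obj W).IsLE (a + 1 - 1) := inferInstance
    simpa using this
  haveI : X.IsGE m := by rw [hX]; infer_instance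
  have h3 : PL P ((TStructure.t.truncGE (a + 1)).obj W) (W⟦k + 1⟧) := by
    refine PL_of_bounded (W⟦k + 1⟧) _ (a + 1) b inferInstance inferInstance ?_
    intro q
    by_cases hq : a + 1 ≤ q
    · have := Groth.Agent.H45.isIso_homologyMap_truncGEπ W (a + 1) q hq
      let eq : (homologyFunctor (ModuleCat.{u} A) q).obj W ≅
          (homologyFunctor (ModuleCat.{u} A) q).obj ((TStructure.t.truncGE (a + 1)).obj W) :=
        asIso ((homologyFunctor (ModuleCat.{u} A) q).map ((TStructure.t.truncGEπ (a + 1)).app W))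
      refine PL_of_iso ((DerivedCategory.singleFunctor (ModuleCat.{u} A) q).mapIso eq)
        (Iso.refl _) ?_
      exact PL_single_of_notMem_support W P _ q (k + 1) (hloc q hq)
    · have hz : IsZero ((homologyFunctor (ModuleCat.{u} A) q).obj
          ((TStructure.t.truncGE (a + 1)).obj W)) :=
        isZero_of_isGE _ (a + 1) q (by omega)
      have hz' : IsZero ((DerivedCategory.singleFunctor (ModuleCat.{u} A) q).obj
          ((homologyFunctor (ModuleCat.{u} A) q).obj ((TStructure.t.truncGE (a + 1)).obj W))) :=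
        Functor.map_isZero _ hz
      exact PL_of_subsingleton ⟨fun x y => hz'.eq_of_src x y⟩
  have h3' : PL P (((TStructure.t.truncGE (a + 1)).obj W)⟦(-1 : ℤ)⟧) (W⟦k⟧) := by
    apply PL_shift_left (-1) 1 (by omega)
    exact PL_of_iso (Iso.refl _) ((shiftFunctorAdd' (Dual.D A) k 1 (k + 1) rfl).app W) h3
  have hT' := inv_rot_of_distTriang _ hT
  have h1 : PL P X (W⟦k⟧) := PL_obj₂ _ hT' (W⟦k⟧) h3' hk
  -- second truncation: `τ_{< a} X → X → τ_{≥ a} X`
  have hT2 := TStructure.t.triangleLTGE_distinguished a X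
  set X1 := (TStructure.t.truncLT a).obj X with hX1
  set X2 := (TStructure.t.truncGE a).obj X with hX2
  haveI : X1.IsGE m := by rw [hX1]; infer_instance
  haveI : X1.IsLE (a - 1) := by rw [hX1]; infer_instance
  haveI : X2.IsLE a := by rw [hX2]; infer_instance
  haveI : X2.IsGE a := by rw [hX2]; infer_instance
  -- `X1` is `P`-locally zero
  have hX1fin : ∀ q : ℤ, Module.Finite A (Dual.HD A X1 q) ∧
      P ∉ Module.support A (Dual.HD A X1 q) := by
    intro q
    by_cases hq : q < a
    · have i1 := Groth.Agent.H45.isIso_homologyMap_truncLTι X a q hq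
      have i2 := Groth.Agent.H45.isIso_homologyMap_truncLTι W (a + 1) q (by omega)
      let e : (homologyFunctor (ModuleCat.{u} A) q).obj X1 ≅
          (homologyFunctor (ModuleCat.{u} A) q).obj W :=
        asIso ((homologyFunctor (ModuleCat.{u} A) q).map ((TStructure.t.truncLTι a).app X)) ≪≫
          asIso ((homologyFunctor (ModuleCat.{u} A) q).map
            ((TStructure.t.truncLTι (a + 1)).app W))
      haveI := hfin q
      refine ⟨Module.Finite.equiv e.toLinearEquiv.symm, ?_⟩
      rw [e.toLinearEquiv.support_eq]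
      exact ha q hq
    · have hz : IsZero ((homologyFunctor (ModuleCat.{u} A) q).obj X1) :=
        isZero_of_isLE X1 (a - 1) q (by omega)
      haveI : Subsingleton (Dual.HD A X1 q) := ModuleCat.subsingleton_of_isZero hz
      refine ⟨inferInstance, ?_⟩
      rw [Module.support_eq_empty]
      exact Set.notMem_empty P
  obtain ⟨s, hs, hs0⟩ := exists_smul_id_eq_zero_of_notMem_support P X1 m (a - 1) inferInstance
    inferInstance (fun q => (hX1fin q).1) (fun q => (hX1fin q).2)
  have h5 : PL P (X1⟦(1 : ℤ)⟧) (W⟦k⟧) :=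
    PL_of_smul_id_left s hs (smul_id_shift_eq_zero s hs0 1)
  have hT2' := rot_of_distTriang _ hT2
  have h6 : PL P X2 (W⟦k⟧) := PL_obj₂ _ hT2' (W⟦k⟧) h1 h5
  -- `X2` is `H^a(W)[-a]`
  obtain ⟨V, ⟨e⟩⟩ := exists_iso_singleFunctor_obj_of_isGE_of_isLE X2 a
  have j1 := Groth.Agent.H45.isIso_homologyMap_truncGEπ X a a le_rfl
  have j2 := Groth.Agent.H45.isIso_homologyMap_truncLTι W (a + 1) a (by omega)
  have eV : (homologyFunctor (ModuleCat.{u} A) a).obj W ≅ V :=
    (asIso ((homologyFunctor (ModuleCat.{u} A) a).map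
      ((TStructure.t.truncLTι (a + 1)).app W))).symm ≪≫
      asIso ((homologyFunctor (ModuleCat.{u} A) a).map ((TStructure.t.truncGEπ a).app X)) ≪≫
      (homologyFunctor (ModuleCat.{u} A) a).mapIso e ≪≫
      (singleFunctorCompHomologyFunctorIso (ModuleCat.{u} A) a).app V
  have h7 : PL P ((DerivedCategory.singleFunctor (ModuleCat.{u} A) a).obj V) (W⟦k⟧) :=
    PL_of_iso e (Iso.refl _) h6
  have h8 := notMem_support_of_PL_single W P V a k h7
  rw [← (congr W (k + a) eV.toLinearEquiv).support_eq]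
  exact h8

end Bottom

end Groth.Agent.H2.DualCx
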