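import Mathlib
import Groth.Agent.H2.DualCx.PLocalBottom
import Groth.Agent.H2.DualCx.DepthSuppGen
import Groth.Agent.H2.DualCx.AdjTransfer
import Groth.Agent.H28.CoextModel
import Groth.Agent.H28.DualFinite

/-!
# The `P`-local field case  (helper2)

For a dualizing complex `ω` over a Noetherian ring `A` and a prime `P`:
* `mem_support_HD_iff_of_minimal`: if `P` is a minimal prime, `P ∈ Supp H^k(ω)` iff `k = n(P)`;
* `mem_support_T_quot_self_iff`: for any prime `P`, `P ∈ Supp Hom(A/P, ω[k])` iff `k = n(P)`.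
No localization of complexes is used.
-/

set_option autoImplicit false
set_option linter.unusedSectionVars false
set_option linter.style.haveILetI false

namespace Groth.Agent.H2.DualCx

universe u v

open CategoryTheory CategoryTheory.Limits Pretriangulated DerivedCategory

attribute [local instance] HasDerivedCategory.standard

section Alg

variable {A : Type u} [CommRing A] [IsNoetherianRing A]

theorem mem_support_quot_iff' (q : Ideal A) (p : PrimeSpectrum A) :
    p ∈ Module.support A (A ⧸ q) ↔ q ≤ p.asIdeal := by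
  rw [Module.support_eq_zeroLocus, PrimeSpectrum.mem_zeroLocus, SetLike.coe_subset_coe,
    Ideal.annihilator_quotient]

/-- a minimal element of the support of a finite module is an associated prime (no locality) -/
theorem exists_injective_of_minimal' (q' : PrimeSpectrum A) (N : Type v) [AddCommGroup N]
    [Module A N] [Module.Finite A N] (hq' : q' ∈ Module.support A N)
    (hmin : ∀ p ∈ Module.support A N, p ≤ q' → p = q') :
    ∃ ι : (A ⧸ q'.asIdeal) →ₗ[A] N, Function.Injective ι := by
  have hmem : q'.asIdeal ∈ (Module.annihilator A N).minimalPrimes := by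
    refine ⟨⟨q'.2, Module.annihilator_le_of_mem_support hq'⟩, ?_⟩
    rintro p ⟨hp, hle⟩ hpq
    have hpN : (⟨p, hp⟩ : PrimeSpectrum A) ∈ Module.support A N := by
      rw [Module.support_eq_zeroLocus, PrimeSpectrum.mem_zeroLocus, SetLike.coe_subset_coe]
      exact hle
    have := hmin ⟨p, hp⟩ hpN hpq
    rw [← this]
  have hass : IsAssociatedPrime q'.asIdeal N :=
    Module.associatedPrimes.minimalPrimes_annihilator_subset_associatedPrimes A N hmem
  obtain ⟨_, n₀, hn₀⟩ := Submodule.isAssociatedPrime_iff.mp hass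
  have hker : LinearMap.ker (LinearMap.toSpanSingleton A N n₀) = q'.asIdeal := by
    rw [hn₀]
    ext a
    rw [LinearMap.mem_ker, LinearMap.toSpanSingleton_apply, Submodule.mem_colon_singleton,
      Submodule.mem_bot]
  refine ⟨Submodule.liftQ q'.asIdeal (LinearMap.toSpanSingleton A N n₀) (le_of_eq hker.symm), ?_⟩
  rw [← LinearMap.ker_eq_bot, Submodule.ker_liftQ, hker, Submodule.mkQ_map_self]

/-- supports along a semilinear bijection -/
theorem mem_support_iff_of_semilinear {B : Type*} [CommRing B] (φ : A →+* B)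
    (hφ : Function.Surjective φ) {X : Type*} [AddCommGroup X] [Module B X] {Y : Type*}
    [AddCommGroup Y] [Module A Y] (Θ : X ≃ Y) (hΘ : ∀ (a : A) (x : X), Θ (φ a • x) = a • Θ x)
    (Q : PrimeSpectrum B) :
    Q ∈ Module.support B X ↔ PrimeSpectrum.comap φ Q ∈ Module.support A Y := by
  have Θ0 : Θ 0 = 0 := by
    have := hΘ 0 0
    rwa [map_zero, zero_smul, zero_smul] at this
  rw [Module.mem_support_iff', Module.mem_support_iff']
  constructor
  · rintro ⟨x, hx⟩
    refine ⟨Θ x, fun a ha h0 => hx (φ a) ha (Θ.injective ?_)⟩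
    rw [hΘ, h0, Θ0]
  · rintro ⟨y, hy⟩
    refine ⟨Θ.symm y, fun b hb h0 => ?_⟩
    obtain ⟨a, rfl⟩ := hφ b
    refine hy a hb ?_
    rw [← Θ.apply_symm_apply y, ← hΘ, h0, Θ0]

end Alg

section MinPrime

variable {A : Type u} [CommRing A] [IsNoetherianRing A] {W : Dual.D A}
  (P : PrimeSpectrum A) (n : ℤ)
  (h1 : ∀ (M : Type u) [AddCommGroup M] [Module A M] [Module.Finite A M] (k : ℤ),
    n < k → P ∉ Module.support A (T W k M))
  (h2 : P ∈ Module.support A (T W n (A ⧸ P.asIdeal)))

include h1 h2 in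
/-- at a prime `P` minimal in `Supp M`: `P ∈ Supp T^{n(P)}(M)` -/
theorem mem_support_T_top_of_minimal (M : Type u) [AddCommGroup M] [Module A M]
    [Module.Finite A M] (hPM : P ∈ Module.support A M)
    (hmin : ∀ p ∈ Module.support A M, p ≤ P → p = P) :
    P ∈ Module.support A (T W n M) := by
  obtain ⟨ι, hι⟩ := exists_injective_of_minimal' P M hPM hmin
  have hg : Function.Surjective (LinearMap.range ι).mkQ := Submodule.mkQ_surjective _
  have hex : Function.Exact ι (LinearMap.range ι).mkQ := LinearMap.exact_map_mkQ_range ι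
  rcases support_T_left W ι _ hι hg hex n (n + 1) rfl h2 with h | h
  · exact h
  · exact absurd h (h1 _ (n + 1) (by omega))

end MinPrime

section Single

variable {A : Type u} [CommRing A] [IsNoetherianRing A] {ω : Dual.D A}

/-- a dualizing complex is bounded -/
theorem exists_isGE_isLE (hω : Dual.IsDualizing A ω) : ∃ m b : ℤ, ω.IsGE m ∧ ω.IsLE b := by
  obtain ⟨a, b, hab⟩ := hω.finite_injective_dimension
  refine ⟨a, b, ?_, ?_⟩
  · rw [DerivedCategory.isGE_iff]
    intro i hi
    haveI : Subsingleton (T ω i A) := hab A i (Or.inl hi)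
    haveI : Subsingleton (Dual.HD A ω i) := (subsingleton_T_self_iff ω i).mp inferInstance
    exact ModuleCat.isZero_of_subsingleton _
  · rw [DerivedCategory.isLE_iff]
    intro i hi
    haveI : Subsingleton (T ω i A) := hab A i (Or.inr hi)
    haveI : Subsingleton (Dual.HD A ω i) := (subsingleton_T_self_iff ω i).mp inferInstance
    exact ModuleCat.isZero_of_subsingleton _

/-- at a minimal prime `P`: `P ∈ Supp H^k(ω)` iff `k = n(P)` -/
theorem mem_support_HD_iff_of_minimal (hω : Dual.IsDualizing A ω) (P : PrimeSpectrum A)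
    (hP : P.asIdeal ∈ minimalPrimes A) (n : ℤ)
    (h1 : ∀ (M : Type u) [AddCommGroup M] [Module A M] [Module.Finite A M] (k : ℤ),
      n < k → P ∉ Module.support A (T ω k M))
    (h2 : P ∈ Module.support A (T ω n (A ⧸ P.asIdeal))) (k : ℤ) :
    P ∈ Module.support A (Dual.HD A ω k) ↔ k = n := by
  classical
  have hfin := hω.finite_cohomology
  obtain ⟨m, b, hGE, hLE⟩ := exists_isGE_isLE hω
  have hminP : ∀ p : PrimeSpectrum A, p ≤ P → p = P := fun p hle =>
    le_antisymm hle (hP.2 ⟨p.2, bot_le⟩ hle)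
  have hPA : P ∈ Module.support A A := by
    rw [Module.mem_support_iff']
    refine ⟨1, fun r hr h0 => hr ?_⟩
    rw [smul_eq_mul, mul_one] at h0
    rw [h0]
    exact P.asIdeal.zero_mem
  have htop : P ∈ Module.support A (Dual.HD A ω n) := by
    haveI := hfin n
    rw [support_HD_eq]
    exact mem_support_T_top_of_minimal P n h1 h2 A hPA (fun p _ hle => hminP p hle)
  have hle : ∀ j : ℤ, P ∈ Module.support A (Dual.HD A ω j) → j ≤ n := by
    intro j hj
    haveI := hfin j
    rw [support_HD_eq] at hj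
    by_contra hcon
    push Not at hcon
    exact h1 A j hcon hj
  have hge : ∀ j : ℤ, P ∈ Module.support A (Dual.HD A ω j) → m ≤ j := by
    intro j hj
    by_contra hcon
    push Not at hcon
    have hz : IsZero ((homologyFunctor (ModuleCat.{u} A) j).obj ω) := isZero_of_isGE ω m j hcon
    haveI : Subsingleton (Dual.HD A ω j) := ModuleCat.subsingleton_of_isZero hz
    rw [Module.support_eq_empty] at hj
    exact absurd hj (Set.notMem_empty P)
  obtain ⟨a, haS, hamin⟩ := Int.exists_least_of_bdd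
    (P := fun j => P ∈ Module.support A (Dual.HD A ω j)) ⟨m, fun j hj => hge j hj⟩ ⟨n, htop⟩
  have han : a = n := by
    by_contra hne
    have hlt : a < n := lt_of_le_of_ne (hle a haS) hne
    haveI := hfin a
    have hbot := notMem_support_T_bottom_local ω P m a b hGE hLE hfin
      (fun q hq hmem => by have := hamin q hmem; omega) (n - a)
      (PL_of_subsingleton (hω.ext_self_subsingleton _ (by omega)))
      (fun q hq => by
        haveI := hfin q
        exact h1 _ _ (by omega))
    have e : n - a + a = n := by ring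
    rw [e] at hbot
    exact hbot (mem_support_T_top_of_minimal P n h1 h2 _ haS (fun p _ hle => hminP p hle))
  constructor
  · intro hk
    have := hamin k hk
    have := hle k hk
    omega
  · rintro rfl
    exact htop

end Single

section Quot

variable {A : Type u} [CommRing A] [IsNoetherianRing A] {ω : Dual.D A}

/-- transfer to a quotient ring: `RHom(A/I, ω)` is dualizing over `A/I` and computes
`Hom_{D(A)}(A/I, ω[i])`. -/
theorem exists_quotient_transfer (hω : Dual.IsDualizing A ω) (I : Ideal A) :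
    ∃ (W' : Dual.D (A ⧸ I)) (_ : Dual.IsDualizing (A ⧸ I) W')
      (Θ : ∀ i : ℤ, (Dual.inD (A ⧸ I) (A ⧸ I) ⟶ W'⟦i⟧) ≃ (Dual.inD A (A ⧸ I) ⟶ ω⟦i⟧)),
      ∀ (i : ℤ) (a : A) (g : Dual.inD (A ⧸ I) (A ⧸ I) ⟶ W'⟦i⟧),
        Θ i ((Ideal.Quotient.mk I a) • g) = a • Θ i g := by
  let R : Dual.D A ⥤ Dual.D (A ⧸ I) := Groth.Agent.H28.CoextModel.RRc (A := A) (B := A ⧸ I)
  let adj : DRing.restrictD (algebraMap A (A ⧸ I)) ⊣ R :=
    Groth.Agent.H28.CoextModel.adj' (A := A) (B := A ⧸ I)
  have hω' : Dual.IsDualizing (A ⧸ I) (R.obj ω) :=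
    Groth.Agent.H28.DualFinite.isDualizing_rightAdjoint R adj ω hω
  let Θ : ∀ i : ℤ, (Dual.inD (A ⧸ I) (A ⧸ I) ⟶ (R.obj ω)⟦i⟧) ≃
      (Dual.inD A (A ⧸ I) ⟶ ω⟦i⟧) := fun i =>
    (thetaEquiv R adj (Dual.inD (A ⧸ I) (A ⧸ I)) ω i).trans
      (Iso.homCongr (Groth.Agent.H28.RestrAdj.restrictD_inD_iso (A := A) (B := A ⧸ I))
        (Iso.refl _))
  have hΘ : ∀ (i : ℤ) (g : Dual.inD (A ⧸ I) (A ⧸ I) ⟶ (R.obj ω)⟦i⟧), Θ i g =
      (Groth.Agent.H28.RestrAdj.restrictD_inD_iso (A := A) (B := A ⧸ I)).inv ≫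
        thetaFun R adj (Dual.inD (A ⧸ I) (A ⧸ I)) ω i g := by
    intro i g
    simp only [Θ, Equiv.trans_apply, Iso.homCongr_apply, Iso.refl_hom, Category.comp_id,
      thetaEquiv_apply]
  refine ⟨R.obj ω, hω', Θ, ?_⟩
  intro i a g
  rw [hΘ, hΘ]
  have : (Ideal.Quotient.mk I a) • g = (algebraMap A (A ⧸ I) a) • g := rfl
  rw [this, thetaFun_smul, Linear.comp_smul]

/-- **the `P`-local field case**: `P ∈ Supp Hom(A/P, ω[k])` for exactly one `k` -/
theorem mem_support_T_quot_self_iff (hω : Dual.IsDualizing A ω) (P : PrimeSpectrum A) (n : ℤ)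
    (h2 : P ∈ Module.support A (T ω n (A ⧸ P.asIdeal))) (k : ℤ) :
    P ∈ Module.support A (T ω k (A ⧸ P.asIdeal)) ↔ k = n := by
  obtain ⟨W', hW', Θ, hΘ⟩ := exists_quotient_transfer hω P.asIdeal
  haveI : IsDomain (A ⧸ P.asIdeal) := Ideal.Quotient.isDomain P.asIdeal
  let η : PrimeSpectrum (A ⧸ P.asIdeal) := ⟨⊥, Ideal.isPrime_bot⟩
  have hη : η.asIdeal ∈ minimalPrimes (A ⧸ P.asIdeal) := by
    refine ⟨⟨Ideal.isPrime_bot, bot_le⟩, fun q _ _ => bot_le⟩
  have hcomap : PrimeSpectrum.comap (Ideal.Quotient.mk P.asIdeal) η = P := by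
    apply PrimeSpectrum.ext
    change Ideal.comap (Ideal.Quotient.mk P.asIdeal) ⊥ = P.asIdeal
    rw [← RingHom.ker_eq_comap_bot, Ideal.mk_ker]
  -- transfer of supports
  have htr : ∀ i : ℤ, η ∈ Module.support (A ⧸ P.asIdeal) (T W' i (A ⧸ P.asIdeal)) ↔
      P ∈ Module.support A (T ω i (A ⧸ P.asIdeal)) := by
    intro i
    have := mem_support_iff_of_semilinear (Ideal.Quotient.mk P.asIdeal)
      Ideal.Quotient.mk_surjective (Θ i) (hΘ i) η
    rw [hcomap] at this
    exact this
  obtain ⟨n', hn'2, hn'1⟩ := exists_top_degree hW' η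
  have key : ∀ i : ℤ, P ∈ Module.support A (T ω i (A ⧸ P.asIdeal)) ↔ i = n' := by
    intro i
    rw [← htr i]
    haveI := hW'.finite_cohomology i
    rw [← support_HD_eq]
    exact mem_support_HD_iff_of_minimal hW' η hη n' hn'1 hn'2 i
  have hn : n = n' := (key n).mp h2
  rw [key k, hn]

end Quot

end Groth.Agent.H2.DualCx
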