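import Mathlib
import Groth.Agent.H2.DualCx.PLocalField
import Groth.Agent.H98.GrHt.SuppDim

/-!
# The dimension function `n(P)` of a dualizing complex and `dim M_P`  (helper2)

`topDeg hω P = n(P)`: the unique `k` with `P ∈ Supp Hom(A/P, ω[k])`.  It is strictly increasing
along specializations.  For a finite module `M` and `P ∈ Supp M`:
`dim_{A_P} M_P = n(P) - min {k | P ∈ Supp T^k(M)}`  (`le_supportDim_of_mem_support_T`,
`exists_le_of_supportDim_eq`).
-/

set_option autoImplicit false
set_option linter.unusedSectionVars false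
set_option linter.style.haveILetI false

namespace Groth.Agent.H2.DualCx

universe u

open CategoryTheory CategoryTheory.Limits Pretriangulated DerivedCategory

attribute [local instance] HasDerivedCategory.standard

section TopDeg

variable {A : Type u} [CommRing A] [IsNoetherianRing A] {ω : Dual.D A}
  (hω : Dual.IsDualizing A ω)

/-- the dimension function `n(P)` -/
noncomputable def topDeg (P : PrimeSpectrum A) : ℤ := (exists_top_degree hω P).choose

theorem topDeg_mem (P : PrimeSpectrum A) :
    P ∈ Module.support A (T ω (topDeg hω P) (A ⧸ P.asIdeal)) :=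
  (exists_top_degree hω P).choose_spec.1

theorem topDeg_max (P : PrimeSpectrum A) (M : Type u) [AddCommGroup M] [Module A M]
    [Module.Finite A M] (k : ℤ) (hk : topDeg hω P < k) : P ∉ Module.support A (T ω k M) :=
  (exists_top_degree hω P).choose_spec.2 M k hk

theorem le_topDeg (P : PrimeSpectrum A) (M : Type u) [AddCommGroup M] [Module A M]
    [Module.Finite A M] (k : ℤ) (h : P ∈ Module.support A (T ω k M)) : k ≤ topDeg hω P := by
  by_contra hcon
  push Not at hcon
  exact topDeg_max hω P M k hcon h

theorem mem_support_T_quot_self_iff' (P : PrimeSpectrum A) (k : ℤ) :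
    P ∈ Module.support A (T ω k (A ⧸ P.asIdeal)) ↔ k = topDeg hω P :=
  mem_support_T_quot_self_iff hω P _ (topDeg_mem hω P) k

theorem exists_topDeg_add {q q' : PrimeSpectrum A} (h : q ≤ q') :
    ∃ k : ℕ, topDeg hω q + k = topDeg hω q' ∧ (q ≠ q' → 1 ≤ k) := by
  have hfin := finT'_of_isDualizing hω
  have h0 : q' ∈ Module.support A (T ω (topDeg hω q) (A ⧸ q.asIdeal)) :=
    Module.mem_support_mono h (topDeg_mem hω q)
  obtain ⟨k, hk, hk1⟩ := exists_nat_of_mem_support_T hfin q' q.asIdeal q.2 (topDeg hω q) h0
  refine ⟨k, (mem_support_T_quot_self_iff' hω q' _).mp hk, fun hne => hk1 ?_⟩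
  intro heq
  exact hne (PrimeSpectrum.ext heq)

theorem topDeg_mono {q q' : PrimeSpectrum A} (h : q ≤ q') : topDeg hω q ≤ topDeg hω q' := by
  obtain ⟨k, hk, -⟩ := exists_topDeg_add hω h
  omega

theorem topDeg_lt {q q' : PrimeSpectrum A} (h : q < q') : topDeg hω q < topDeg hω q' := by
  obtain ⟨k, hk, hk1⟩ := exists_topDeg_add hω h.le
  have := hk1 h.ne
  omega

theorem topDeg_series (l : LTSeries (PrimeSpectrum A)) :
    topDeg hω l.head + l.length ≤ topDeg hω l.last := by
  have key : ∀ (i : ℕ) (hi : i < l.length + 1),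
      topDeg hω l.head + i ≤ topDeg hω (l ⟨i, hi⟩) := by
    intro i
    induction i with
    | zero =>
      intro hi
      simp only [Nat.cast_zero, add_zero]
      exact le_of_eq rfl
    | succ i ih =>
      intro hi
      have h1 := ih (by omega)
      have hlt : l ⟨i, by omega⟩ < l ⟨i + 1, hi⟩ := l.strictMono (by simp)
      have h2 := topDeg_lt hω hlt
      push_cast
      omega
  exact key l.length (by omega)

/-- chains from Ext non-vanishing -/
theorem exists_series_of_mem_support_T_quot (P : PrimeSpectrum A) :
    ∀ (r : ℕ) (q : PrimeSpectrum A) (k : ℤ), k + r = topDeg hω P →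
      P ∈ Module.support A (T ω k (A ⧸ q.asIdeal)) →
      ∃ l : LTSeries (PrimeSpectrum A), l.length = r ∧ l.head = q ∧ l.last = P := by
  have hfin := finT'_of_isDualizing hω
  intro r
  induction r with
  | zero =>
    intro q k hk hq
    have hle : q.asIdeal ≤ P.asIdeal := le_of_mem_support_T_quot (W := ω) q.asIdeal P k hq
    obtain ⟨k', hk', hk'1⟩ := exists_nat_of_mem_support_T hfin P q.asIdeal q.2 k hq
    have h1 := (mem_support_T_quot_self_iff' hω P _).mp hk'
    have hqP : q = P := by
      by_contra hne
      have := hk'1 (fun h => hne (PrimeSpectrum.ext h))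
      simp only [Nat.cast_zero, add_zero] at hk
      omega
    exact ⟨RelSeries.singleton _ P, rfl, by simp [hqP], by simp⟩
  | succ r ih =>
    intro q k hk hq
    have hle : q.asIdeal ≤ P.asIdeal := le_of_mem_support_T_quot (W := ω) q.asIdeal P k hq
    have hne : q ≠ P := by
      rintro rfl
      have := (mem_support_T_quot_self_iff' hω q k).mp hq
      push_cast at hk
      omega
    have hlt : q.asIdeal < P.asIdeal := lt_of_le_of_ne hle (fun h => hne (PrimeSpectrum.ext h))
    haveI := q.2
    obtain ⟨q', hq'1, hq'2⟩ := exists_gt_of_mem_support_T hfin q.asIdeal P hlt k hq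
    obtain ⟨l, hl1, hl2, hl3⟩ := ih q' (k + 1) (by push_cast at hk ⊢; omega) hq'2
    have hqq' : q < l.head := by
      rw [hl2]
      exact hq'1
    refine ⟨l.cons q hqq', ?_, ?_, ?_⟩
    · rw [RelSeries.cons_length, hl1]
    · simp
    · simp [hl3]

end TopDeg

section Dim

variable {A : Type u} [CommRing A] [IsNoetherianRing A] {ω : Dual.D A}
  (hω : Dual.IsDualizing A ω)

open Groth.Agent.H98.GrHt in
/-- a chain of primes in `V(Ann M)` ending at `P` bounds `dim M_P` below -/
theorem length_le_supportDim_localizedModule (M : Type u) [AddCommGroup M] [Module A M]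
    [Module.Finite A M] (P : PrimeSpectrum A) (l : LTSeries (PrimeSpectrum A))
    (hhead : Module.annihilator A M ≤ l.head.asIdeal) (hlast : l.last = P) :
    ((l.length : ℕ) : WithBot ℕ∞) ≤ Module.supportDim (Localization.AtPrime P.asIdeal)
      (LocalizedModule P.asIdeal.primeCompl M) := by
  have h : Module.annihilator A M ≤ P.asIdeal := by
    rw [← hlast]
    exact hhead.trans (l.head_le_last)
  rw [supportDim_localizedModule_eq_relHt P.asIdeal M h]
  have hmem : ∀ i, l i ∈ VV (Module.annihilator A M) := by
    intro i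
    rw [PrimeSpectrum.mem_zeroLocus, SetLike.coe_subset_coe]
    exact hhead.trans (l.head_le i)
  let l' : LTSeries (VV (Module.annihilator A M)) :=
    { length := l.length
      toFun := fun i => ⟨l i, hmem i⟩
      step := fun i => l.step i }
  have h1 : l'.last ≤ pt (Module.annihilator A M) P.asIdeal h := by
    change l.last ≤ P
    rw [hlast]
  have h2 := Order.length_le_height h1
  have h3 : ((l.length : ℕ) : ℕ∞) ≤ relHt (Module.annihilator A M) P.asIdeal h := h2
  exact_mod_cast WithBot.coe_le_coe.mpr h3

/-- `P ∈ Supp T^k(M)` implies `n(P) - k ≤ dim M_P` -/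
theorem le_supportDim_of_mem_support_T (M : Type u) [AddCommGroup M] [Module A M]
    [Module.Finite A M] (P : PrimeSpectrum A) (k : ℤ)
    (h : P ∈ Module.support A (T ω k M)) :
    (((topDeg hω P - k).toNat : ℕ) : WithBot ℕ∞) ≤
      Module.supportDim (Localization.AtPrime P.asIdeal)
        (LocalizedModule P.asIdeal.primeCompl M) := by
  have hk := le_topDeg hω P M k h
  obtain ⟨q, hq, hann⟩ := exists_prime_of_mem_support_T ω k P M h
  obtain ⟨l, hl1, hl2, hl3⟩ := exists_series_of_mem_support_T_quot hω P
    (topDeg hω P - k).toNat q k (by omega) hq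
  rw [← hl1]
  exact length_le_supportDim_localizedModule M P l (by rw [hl2]; exact hann) hl3

open Groth.Agent.H98.GrHt in
/-- if `dim M_P = e` then `P ∈ Supp T^k(M)` for some `k ≤ n(P) - e` -/
theorem exists_le_of_supportDim_eq (M : Type u) [AddCommGroup M] [Module A M]
    [Module.Finite A M] (P : PrimeSpectrum A) (e : ℕ)
    (he : Module.supportDim (Localization.AtPrime P.asIdeal)
      (LocalizedModule P.asIdeal.primeCompl M) = e) :
    ∃ k : ℤ, k + e ≤ topDeg hω P ∧ P ∈ Module.support A (T ω k M) := by
  have hPM : P ∈ Module.support A M := by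
    rw [Module.mem_support_iff]
    rw [← Module.supportDim_ne_bot_iff_nontrivial (R := Localization.AtPrime P.asIdeal), he]
    exact WithBot.coe_ne_bot
  have h : Module.annihilator A M ≤ P.asIdeal := Module.annihilator_le_of_mem_support hPM
  rw [supportDim_localizedModule_eq_relHt P.asIdeal M h] at he
  have he' : relHt (Module.annihilator A M) P.asIdeal h = (e : ℕ∞) := by
    have : ((relHt (Module.annihilator A M) P.asIdeal h : ℕ∞) : WithBot ℕ∞) =
        (((e : ℕ) : ℕ∞) : WithBot ℕ∞) := he
    exact WithBot.coe_inj.mp this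
  obtain ⟨l', hl'1, hl'2⟩ := Order.exists_series_of_height_eq_coe
    (pt (Module.annihilator A M) P.asIdeal h) he'
  let l : LTSeries (PrimeSpectrum A) := l'.map Subtype.val (fun a b hab => hab)
  have hlast : l.last = P := by
    change (l'.last).val = P
    rw [hl'1]
    rfl
  have hlen : l.length = e := hl'2
  have hhead : Module.annihilator A M ≤ l.head.asIdeal := by
    have := (l'.head).2
    rw [PrimeSpectrum.mem_zeroLocus, SetLike.coe_subset_coe] at this
    exact this
  -- a minimal prime below the head
  obtain ⟨Qm, hQm, hQmle⟩ := Ideal.exists_minimalPrimes_le hhead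
  haveI := hQm.1.1
  let Q : PrimeSpectrum A := ⟨Qm, hQm.1.1⟩
  have hQM : Q ∈ Module.support A M := by
    rw [Module.mem_support_iff_of_finite]
    exact hQm.1.2
  have hmin : ∀ p ∈ Module.support A M, p ≤ Q → p = Q := by
    intro p hp hle
    rw [Module.mem_support_iff_of_finite] at hp
    exact le_antisymm hle (hQm.2 ⟨p.2, hp⟩ hle)
  have h1 := mem_support_T_top_of_minimal Q (topDeg hω Q) (fun M _ _ _ k hk => topDeg_max hω Q M k hk)
    (topDeg_mem hω Q) M hQM hmin
  have hQhead : Q ≤ l.head := hQmle
  have hQP : Q ≤ P := by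
    rw [← hlast]
    exact hQhead.trans l.head_le_last
  refine ⟨topDeg hω Q, ?_, Module.mem_support_mono hQP h1⟩
  have h2 := topDeg_mono hω hQhead
  have h3 := topDeg_series hω l
  rw [hlast, hlen] at h3
  omega

end Dim

end Groth.Agent.H2.DualCx
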