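import Mathlib
import Groth.Agent.H2.DualCx.PLocalDim

/-!
# The length of maximal chains between two primes, via the dimension function  (helper2)

For `p ≤ q` in the spectrum of a Noetherian ring with a dualizing complex `ω`:
`dim [p, q] = height of q in {≥ p} = topDeg q - topDeg p`.
-/

set_option autoImplicit false
set_option linter.unusedSectionVars false
set_option linter.style.haveILetI false

namespace Groth.Agent.H2.DualCx

universe u

open CategoryTheory CategoryTheory.Limits Pretriangulated DerivedCategory

attribute [local instance] HasDerivedCategory.standard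

variable {A : Type u} [CommRing A] [IsNoetherianRing A] {ω : Dual.D A}
  (hω : Dual.IsDualizing A ω)

/-- a chain of primes from `p` to `q` of length `topDeg q - topDeg p` -/
theorem exists_series_between {p q : PrimeSpectrum A} (hpq : p ≤ q) :
    ∃ l : LTSeries (PrimeSpectrum A), l.length = (topDeg hω q - topDeg hω p).toNat ∧
      l.head = p ∧ l.last = q := by
  have h0 := topDeg_mono hω hpq
  exact exists_series_of_mem_support_T_quot hω q (topDeg hω q - topDeg hω p).toNat p
    (topDeg hω p) (by omega) (Module.mem_support_mono hpq (topDeg_mem hω p))

theorem length_le_of_between (l : LTSeries (PrimeSpectrum A)) {p q : PrimeSpectrum A}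
    (hp : p ≤ l.head) (hq : l.last ≤ q) : l.length ≤ (topDeg hω q - topDeg hω p).toNat := by
  have h1 := topDeg_series hω l
  have h2 := topDeg_mono hω hp
  have h3 := topDeg_mono hω hq
  omega

theorem krullDim_Icc_eq {p q : PrimeSpectrum A} (hpq : p ≤ q) :
    Order.krullDim (Set.Icc p q) = (((topDeg hω q - topDeg hω p).toNat : ℕ) : WithBot ℕ∞) := by
  apply le_antisymm
  · unfold Order.krullDim
    refine iSup_le fun l => ?_
    have h1 := length_le_of_between hω (l.map Subtype.val (fun _ _ h => h))
      (p := p) (q := q) (by rw [LTSeries.head_map]; exact l.head.2.1)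
      (by rw [LTSeries.last_map]; exact l.last.2.2)
    rw [LTSeries.map_length] at h1
    exact_mod_cast h1
  · obtain ⟨l, hl1, hl2, hl3⟩ := exists_series_between hω hpq
    let l' : LTSeries (Set.Icc p q) :=
      { length := l.length
        toFun := fun i => ⟨l i, ⟨by rw [← hl2]; exact l.monotone (Fin.zero_le i),
          by rw [← hl3]; exact l.monotone (Fin.le_last i)⟩⟩
        step := fun i => l.step i }
    have h1 := Order.LTSeries.length_le_krullDim l'
    have h2 : l'.length = (topDeg hω q - topDeg hω p).toNat := hl1
    rw [h2] at h1
    exact h1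

theorem height_Ici_eq {p q : PrimeSpectrum A} (hpq : p ≤ q) :
    Order.height (⟨q, hpq⟩ : Set.Ici p) = (((topDeg hω q - topDeg hω p).toNat : ℕ) : ℕ∞) := by
  apply le_antisymm
  · refine Order.height_le fun l hl => ?_
    have h1 := length_le_of_between hω (l.map Subtype.val (fun _ _ h => h))
      (p := p) (q := q) (by rw [LTSeries.head_map]; exact l.head.2)
      (by rw [LTSeries.last_map, hl])
    rw [LTSeries.map_length] at h1
    exact_mod_cast h1
  · obtain ⟨l, hl1, hl2, hl3⟩ := exists_series_between hω hpq
    let l' : LTSeries (Set.Ici p) :=
      { length := l.length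
        toFun := fun i => ⟨l i, by
          show p ≤ l i
          rw [← hl2]; exact l.monotone (Fin.zero_le i)⟩
        step := fun i => l.step i }
    have hlast : l'.last ≤ (⟨q, hpq⟩ : Set.Ici p) := by
      show l (Fin.last _) ≤ q
      exact le_of_eq hl3
    have h1 := Order.length_le_height hlast
    have h2 : l'.length = (topDeg hω q - topDeg hω p).toNat := hl1
    rw [h2] at h1
    exact h1

end Groth.Agent.H2.DualCx
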