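import Mathlib

/-!
# Transferring `R ≅ End(X)` and `Hom(X, X[1]) = 0` along isomorphisms, shifts and fully faithful
linear functors  (helper2)
-/

set_option autoImplicit false

namespace Groth.Agent.H2.EndTransfer

open CategoryTheory CategoryTheory.Limits

section Linear

variable {R : Type*} [CommRing R] {C : Type*} [Category C] [Preadditive C] [Linear R C]

theorem bijective_smul_id_of_iso {X Y : C} (e : X ≅ Y)
    (h : Function.Bijective (fun r : R => r • 𝟙 X)) : Function.Bijective (fun r : R => r • 𝟙 Y) := by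
  have hconj : ∀ r : R, e.inv ≫ (r • 𝟙 X) ≫ e.hom = r • 𝟙 Y := by
    intro r
    rw [Linear.smul_comp, Linear.comp_smul, Category.id_comp, e.inv_hom_id]
  refine ⟨?_, ?_⟩
  · intro r s hrs
    have hrs' : r • 𝟙 Y = s • 𝟙 Y := hrs
    apply h.1
    change r • 𝟙 X = s • 𝟙 X
    have h1 : e.hom ≫ (r • 𝟙 Y) ≫ e.inv = e.hom ≫ (s • 𝟙 Y) ≫ e.inv := by rw [hrs']
    rw [Linear.smul_comp, Linear.comp_smul, Category.id_comp, e.hom_inv_id,
      Linear.smul_comp, Linear.comp_smul, Category.id_comp, e.hom_inv_id] at h1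
    exact h1
  · intro g
    obtain ⟨r, hr⟩ := h.2 (e.hom ≫ g ≫ e.inv)
    refine ⟨r, ?_⟩
    change r • 𝟙 Y = g
    have hr' : r • 𝟙 X = e.hom ≫ g ≫ e.inv := hr
    rw [← hconj r, hr']
    simp

variable {D : Type*} [Category D] [Preadditive D] [Linear R D]

theorem bijective_smul_id_of_fullyFaithful (F : C ⥤ D) [F.Additive] [F.Linear R] [F.Full]
    [F.Faithful] (X : C) (h : Function.Bijective (fun r : R => r • 𝟙 (F.obj X))) :
    Function.Bijective (fun r : R => r • 𝟙 X) := by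
  have hF : ∀ r : R, F.map (r • 𝟙 X) = r • 𝟙 (F.obj X) := by
    intro r
    rw [F.map_smul, F.map_id]
  refine ⟨?_, ?_⟩
  · intro r s hrs
    have hrs' : r • 𝟙 X = s • 𝟙 X := hrs
    apply h.1
    change r • 𝟙 (F.obj X) = s • 𝟙 (F.obj X)
    rw [← hF, ← hF, hrs']
  · intro g
    obtain ⟨r, hr⟩ := h.2 (F.map g)
    refine ⟨r, ?_⟩
    change r • 𝟙 X = g
    apply F.map_injective
    rw [hF]
    exact hr

end Linear

section Shift

variable {C : Type*} [Category C] [Preadditive C] [HasShift C ℤ]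
  [∀ n : ℤ, (shiftFunctor C n).Additive]

theorem subsingleton_hom_shift_of_iso {X Y : C} (e : X ≅ Y)
    (h : Subsingleton (X ⟶ X⟦(1 : ℤ)⟧)) : Subsingleton (Y ⟶ Y⟦(1 : ℤ)⟧) := by
  refine ⟨fun x y => ?_⟩
  have key : ∀ f : Y ⟶ Y⟦(1 : ℤ)⟧, f = 0 := by
    intro f
    have h0 : e.hom ≫ f ≫ e.inv⟦(1 : ℤ)⟧' = 0 := h.elim _ _
    have h1 : f = e.inv ≫ (e.hom ≫ f ≫ e.inv⟦(1 : ℤ)⟧') ≫ e.hom⟦(1 : ℤ)⟧' := by
      simp [← Functor.map_comp]
    rw [h1, h0, zero_comp, comp_zero]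
  rw [key x, key y]

theorem subsingleton_hom_shift_of_shift (Y : C) (n : ℤ)
    (h : Subsingleton (Y⟦n⟧ ⟶ (Y⟦n⟧)⟦(1 : ℤ)⟧)) : Subsingleton (Y ⟶ Y⟦(1 : ℤ)⟧) := by
  refine ⟨fun x y => ?_⟩
  have key : ∀ f : Y ⟶ Y⟦(1 : ℤ)⟧, f = 0 := by
    intro f
    let c : (Y⟦(1 : ℤ)⟧)⟦n⟧ ≅ (Y⟦n⟧)⟦(1 : ℤ)⟧ := shiftComm Y 1 n
    have h0 : f⟦n⟧' ≫ c.hom = 0 := h.elim _ _
    have h1 : f⟦n⟧' = 0 := by
      have : f⟦n⟧' = (f⟦n⟧' ≫ c.hom) ≫ c.inv := by simp
      rw [this, h0, zero_comp]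
    apply (shiftFunctor C n).map_injective
    rw [h1, Functor.map_zero]
  rw [key x, key y]

end Shift

end Groth.Agent.H2.EndTransfer
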