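import Mathlib
import Groth.Agent.H2.DualCx.PosVanishCx

/-!
# `Hom(Z, W[i]) = 0` from vanishing on the cohomology modules of `Z`  (helper2)

For a bounded `Z`, if `Hom(H^q(Z)[0], W[i+q]) = 0` for all `q`, then `Hom(Z, W[i]) = 0`
(amplitude induction).
-/

set_option autoImplicit false
set_option linter.unusedSectionVars false
set_option linter.style.haveILetI false

namespace Groth.Agent.H2.DualCx

universe u

open CategoryTheory CategoryTheory.Limits Pretriangulated DerivedCategory

attribute [local instance] HasDerivedCategory.standard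

section

variable {A : Type u} [CommRing A]

/-- transfer of vanishing along an isomorphism in `ModuleCat` -/
theorem subsingleton_single_of_iso (W : Dual.D A) (j : ℤ) (X : Type u) [AddCommGroup X]
    [Module A X] (M : ModuleCat.{u} A) (e : ModuleCat.of A X ≅ M) (h : Subsingleton (T W j X)) :
    Subsingleton ((DerivedCategory.singleFunctor (ModuleCat.{u} A) 0).obj M ⟶ W⟦j⟧) := by
  let e' := (DerivedCategory.singleFunctor (ModuleCat.{u} A) 0).mapIso e
  refine ⟨fun x y => ?_⟩
  have hx : x = e'.inv ≫ (e'.hom ≫ x) := by simp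
  have hy : y = e'.inv ≫ (e'.hom ≫ y) := by simp
  rw [hx, hy]
  congr 1
  exact h.elim _ _

/-- amplitude induction -/
theorem subsingleton_hom_of_cohomology_aux (W : Dual.D A) (i : ℤ) (k : ℕ) :
    ∀ (Z : Dual.D A) (a : ℤ), Z.IsGE a → Z.IsLE (a + k - 1) →
      (∀ q : ℤ, Subsingleton (T W (i + q) (Dual.HD A Z q))) → Subsingleton (Z ⟶ W⟦i⟧) := by
  induction k with
  | zero =>
    intro Z a hGE hLE _
    have hz : IsZero Z := TStructure.t.isZero Z (a + (0 : ℕ) - 1) a (by simp)
    exact ⟨fun x y => hz.eq_of_src x y⟩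
  | succ k ih =>
    intro Z a hGE hLE hZ
    let n : ℤ := a + k
    have hLE' : Z.IsLE n := by
      have : a + ((k + 1 : ℕ) : ℤ) - 1 = n := by simp only [n]; omega
      rw [← this]
      exact hLE
    have hT := TStructure.t.triangleLTGE_distinguished n Z
    have h₁ : Subsingleton ((TStructure.t.truncLT n).obj Z ⟶ W⟦i⟧) := by
      apply ih _ a inferInstance
      · have : a + (k : ℤ) - 1 = n - 1 := by simp [n]
        rw [this]
        infer_instance
      · intro q
        by_cases hq : q < n
        · have := Groth.Agent.H45.isIso_homologyMap_truncLTι Z n q hq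
          let e : Dual.HD A ((TStructure.t.truncLT n).obj Z) q ≃ₗ[A] Dual.HD A Z q :=
            (asIso ((homologyFunctor (ModuleCat.{u} A) q).map
              ((TStructure.t.truncLTι n).app Z))).toLinearEquiv
          haveI := hZ q
          exact (congr W (i + q) e.symm).toEquiv.subsingleton
        · have hz : IsZero ((homologyFunctor (ModuleCat.{u} A) q).obj
              ((TStructure.t.truncLT n).obj Z)) :=
            isZero_of_isLE _ (n - 1) q (by lia)
          haveI : Subsingleton (Dual.HD A ((TStructure.t.truncLT n).obj Z) q) :=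
            ModuleCat.subsingleton_of_isZero hz
          exact subsingleton_of_subsingleton W (i + q)
    have h₃ : Subsingleton ((TStructure.t.truncGE n).obj Z ⟶ W⟦i⟧) := by
      obtain ⟨M, ⟨e⟩⟩ := exists_iso_singleFunctor_obj_of_isGE_of_isLE
        ((TStructure.t.truncGE n).obj Z) n
      have := Groth.Agent.H45.isIso_homologyMap_truncGEπ Z n n le_rfl
      have eM : (homologyFunctor (ModuleCat.{u} A) n).obj Z ≅ M :=
        asIso ((homologyFunctor (ModuleCat.{u} A) n).map ((TStructure.t.truncGEπ n).app Z)) ≪≫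
          (homologyFunctor (ModuleCat.{u} A) n).mapIso e ≪≫
          (singleFunctorCompHomologyFunctorIso (ModuleCat.{u} A) n).app M
      have hpos := subsingleton_single_of_iso W (i + n) (Dual.HD A Z n) M eM (hZ n)
      have h4 := subsingleton_single_hom W M n i hpos
      exact ⟨fun x y => by
        have hx : x = e.hom ≫ (e.inv ≫ x) := by simp
        have hy : y = e.hom ≫ (e.inv ≫ y) := by simp
        rw [hx, hy, Subsingleton.elim (e.inv ≫ x) (e.inv ≫ y)]⟩
    exact subsingleton_hom_obj₂ _ hT _ h₁ h₃

theorem subsingleton_hom_of_cohomology (W Z : Dual.D A) (i a b : ℤ) (hGE : Z.IsGE a)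
    (hLE : Z.IsLE b)
    (hZ : ∀ q : ℤ, Subsingleton (T W (i + q) (Dual.HD A Z q))) : Subsingleton (Z ⟶ W⟦i⟧) := by
  obtain ⟨k, hk⟩ : ∃ k : ℕ, b ≤ a + k - 1 := ⟨(b - a + 1).toNat, by lia⟩
  exact subsingleton_hom_of_cohomology_aux W i k Z a hGE
    (TStructure.t.isLE_of_le _ b _ hk) hZ

end

end Groth.Agent.H2.DualCx
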