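import Mathlib
import Groth.Agent.H2.DualCx.PLocalDim

/-!
# Cohen–Macaulay loci via a dualizing complex, `P`-locally  (helper2)

For a finite module `M` over a Noetherian ring `A` with dualizing complex `ω` and `P ∈ Supp M`:
`M_P` is Cohen–Macaulay iff `P ∈ Supp Hom(M, ω[k])` for exactly one `k`.  Hence the locus where
`M_P` is zero or Cohen–Macaulay is open, and it contains the minimal primes of `Supp M`.
-/

set_option autoImplicit false
set_option linter.unusedSectionVars false
set_option linter.style.haveILetI false

namespace Groth.Agent.H2.DualCx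

universe u

open CategoryTheory CategoryTheory.Limits Pretriangulated DerivedCategory

attribute [local instance] HasDerivedCategory.standard

section CM

variable {A : Type u} [CommRing A] [IsNoetherianRing A] {ω : Dual.D A}
  (hω : Dual.IsDualizing A ω)

/-- a minimal element of `Supp M` below `P` -/
theorem exists_minimal_le (M : Type u) [AddCommGroup M] [Module A M] [Module.Finite A M]
    (P : PrimeSpectrum A) (hPM : P ∈ Module.support A M) :
    ∃ Q : PrimeSpectrum A, Q ∈ Module.support A M ∧ Q ≤ P ∧
      ∀ p ∈ Module.support A M, p ≤ Q → p = Q := by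
  have h : Module.annihilator A M ≤ P.asIdeal := Module.annihilator_le_of_mem_support hPM
  obtain ⟨Qm, hQm, hQmle⟩ := Ideal.exists_minimalPrimes_le h
  refine ⟨⟨Qm, hQm.1.1⟩, ?_, hQmle, ?_⟩
  · rw [Module.mem_support_iff_of_finite]
    exact hQm.1.2
  · intro p hp hle
    rw [Module.mem_support_iff_of_finite] at hp
    exact le_antisymm hle (hQm.2 ⟨p.2, hp⟩ hle)

/-- at a minimal point `Q` of `Supp M`: `Q ∈ Supp T^k(M)` iff `k = n(Q)` -/
theorem mem_support_T_iff_of_minimal (M : Type u) [AddCommGroup M] [Module A M]
    [Module.Finite A M] (Q : PrimeSpectrum A) (hQM : Q ∈ Module.support A M)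
    (hmin : ∀ p ∈ Module.support A M, p ≤ Q → p = Q) (k : ℤ) :
    Q ∈ Module.support A (T ω k M) ↔ k = topDeg hω Q := by
  constructor
  · intro h
    obtain ⟨q, hq, hann⟩ := exists_prime_of_mem_support_T ω k Q M h
    have hle : q ≤ Q := le_of_mem_support_T_quot (W := ω) q.asIdeal Q k hq
    have hqM : q ∈ Module.support A M := by
      rw [Module.mem_support_iff_of_finite]
      exact hann
    have := hmin q hqM hle
    subst this
    exact (mem_support_T_quot_self_iff' hω q k).mp hq
  · rintro rfl
    exact mem_support_T_top_of_minimal Q (topDeg hω Q)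
      (fun M _ _ _ k hk => topDeg_max hω Q M k hk) (topDeg_mem hω Q) M hQM hmin

include hω in
/-- `P ∈ Supp M` implies `P ∈ Supp T^k(M)` for some `k` -/
theorem exists_mem_support_T_of_mem_support (M : Type u) [AddCommGroup M] [Module A M]
    [Module.Finite A M] (P : PrimeSpectrum A) (hPM : P ∈ Module.support A M) :
    ∃ k : ℤ, P ∈ Module.support A (T ω k M) := by
  obtain ⟨Q, hQM, hQP, hmin⟩ := exists_minimal_le M P hPM
  exact ⟨topDeg hω Q, Module.mem_support_mono hQP
    ((mem_support_T_iff_of_minimal hω M Q hQM hmin _).mpr rfl)⟩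

/-- `dim M_P` is a natural number for `P ∈ Supp M` -/
theorem exists_supportDim_eq_nat (M : Type u) [AddCommGroup M] [Module A M] [Module.Finite A M]
    (P : PrimeSpectrum A) (hPM : P ∈ Module.support A M) :
    ∃ e : ℕ, Module.supportDim (Localization.AtPrime P.asIdeal)
      (LocalizedModule P.asIdeal.primeCompl M) = e := by
  have hnt : Nontrivial (LocalizedModule P.asIdeal.primeCompl M) :=
    Module.mem_support_iff.mp hPM
  have h1 : Module.supportDim (Localization.AtPrime P.asIdeal)
      (LocalizedModule P.asIdeal.primeCompl M) ≠ ⊥ :=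
    (Module.supportDim_ne_bot_iff_nontrivial _ _).mpr hnt
  have h2 : Module.supportDim (Localization.AtPrime P.asIdeal)
      (LocalizedModule P.asIdeal.primeCompl M) ≤ ringKrullDim (Localization.AtPrime P.asIdeal) :=
    Module.supportDim_le_ringKrullDim _ _
  rw [IsLocalization.AtPrime.ringKrullDim_eq_height P.asIdeal (Localization.AtPrime P.asIdeal)]
    at h2
  have h3 : P.asIdeal.height ≠ ⊤ := Ideal.height_ne_top P.2.ne_top
  cases hd : Module.supportDim (Localization.AtPrime P.asIdeal)
      (LocalizedModule P.asIdeal.primeCompl M) with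
  | bot => exact absurd hd h1
  | coe x =>
    rw [hd] at h2
    have h4 : x ≤ P.asIdeal.height := WithBot.coe_le_coe.mp h2
    cases hx : x with
    | top =>
      rw [hx] at h4
      exact absurd (top_le_iff.mp h4) h3
    | coe e => exact ⟨e, rfl⟩

include hω in
/-- **`M_P` is Cohen–Macaulay iff `P ∈ Supp T^k(M)` for exactly one `k`** -/
theorem isCohenMacaulayModule_localizedModule_iff (M : Type u) [AddCommGroup M] [Module A M]
    [Module.Finite A M] (P : PrimeSpectrum A) (hPM : P ∈ Module.support A M) :
    LocCoh.IsCohenMacaulayModule (Localization.AtPrime P.asIdeal)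
        (LocalizedModule P.asIdeal.primeCompl M) ↔
      ∀ i j : ℤ, P ∈ Module.support A (T ω i M) → P ∈ Module.support A (T ω j M) → i = j := by
  have hfin := finT_of_isDualizing' hω
  obtain ⟨e, he⟩ := exists_supportDim_eq_nat M P hPM
  have hgen := depth_support_gen hfin P (topDeg hω P)
    (fun M _ _ _ k hk => topDeg_max hω P M k hk) (topDeg_mem hω P)
  obtain ⟨k0, hk0le, hk0⟩ := exists_le_of_supportDim_eq hω M P e he
  have hD1 : ∀ k : ℤ, P ∈ Module.support A (T ω k M) → topDeg hω P - k ≤ e := by
    intro k hk
    have h1 := le_supportDim_of_mem_support_T hω M P k hk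
    rw [he] at h1
    have h2 : (topDeg hω P - k).toNat ≤ e := by exact_mod_cast h1
    omega
  have hk0eq : k0 = topDeg hω P - e := by
    have := hD1 k0 hk0
    omega
  -- the depth is finite
  obtain ⟨r, hr⟩ : ∃ r : ℕ, LocCoh.depth (Localization.AtPrime P.asIdeal)
      (LocalizedModule P.asIdeal.primeCompl M) = r := by
    cases hdep : LocCoh.depth (Localization.AtPrime P.asIdeal)
        (LocalizedModule P.asIdeal.primeCompl M) with
    | top =>
      exfalso
      have := (hgen (e + 1) M).1 (by rw [hdep]; exact le_top) k0 (by push_cast; omega)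
      exact this hk0
    | coe r => exact ⟨r, rfl⟩
  have hU := (hgen r M).2 hr
  have hL := (hgen r M).1 (le_of_eq hr.symm)
  have hre : (r : ℤ) ≤ e := by
    have := hD1 _ hU
    omega
  have hCM : LocCoh.IsCohenMacaulayModule (Localization.AtPrime P.asIdeal)
      (LocalizedModule P.asIdeal.primeCompl M) ↔ e = r := by
    unfold LocCoh.IsCohenMacaulayModule
    rw [he, hr]
    constructor
    · intro h
      have h2 : (((e : ℕ) : ℕ∞) : WithBot ℕ∞) = (((r : ℕ) : ℕ∞) : WithBot ℕ∞) := h
      rw [WithBot.coe_inj] at h2
      exact_mod_cast h2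
    · intro h
      rw [h]
      rfl
  rw [hCM]
  constructor
  · intro her i j hi hj
    have hi1 := hD1 i hi
    have hj1 := hD1 j hj
    have hi2 : i ≤ topDeg hω P - r := by
      by_contra hcon
      push Not at hcon
      exact hL i hcon hi
    have hj2 : j ≤ topDeg hω P - r := by
      by_contra hcon
      push Not at hcon
      exact hL j hcon hj
    omega
  · intro huniq
    have := huniq _ _ hk0 hU
    omega

include hω in
/-- the locus where `M_P` is zero or Cohen–Macaulay -/
theorem zero_or_cm_iff (M : Type u) [AddCommGroup M] [Module A M] [Module.Finite A M]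
    (P : PrimeSpectrum A) :
    (Subsingleton (LocalizedModule P.asIdeal.primeCompl M) ∨
      LocCoh.IsCohenMacaulayModule (Localization.AtPrime P.asIdeal)
        (LocalizedModule P.asIdeal.primeCompl M)) ↔
      ∀ i j : ℤ, P ∈ Module.support A (T ω i M) → P ∈ Module.support A (T ω j M) → i = j := by
  by_cases hPM : P ∈ Module.support A M
  · rw [← isCohenMacaulayModule_localizedModule_iff hω M P hPM]
    constructor
    · rintro (h | h)
      · exact absurd (Module.mem_support_iff.mp hPM) (not_nontrivial_iff_subsingleton.mpr h)
      · exact h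
    · exact Or.inr
  · constructor
    · intro _ i j hi _
      exact absurd (support_T_subset ω i M hi) hPM
    · intro _
      left
      rw [Module.mem_support_iff] at hPM
      exact not_nontrivial_iff_subsingleton.mp hPM

include hω in
/-- the locus is open -/
theorem isOpen_unique_degree (M : Type u) [AddCommGroup M] [Module A M] [Module.Finite A M] :
    IsOpen {P : PrimeSpectrum A | ∀ i j : ℤ, P ∈ Module.support A (T ω i M) →
      P ∈ Module.support A (T ω j M) → i = j} := by
  classical
  have hfin := finT_of_isDualizing' hω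
  obtain ⟨a, b, hab⟩ := hω.finite_injective_dimension
  have hrange : ∀ (i : ℤ) (P : PrimeSpectrum A), P ∈ Module.support A (T ω i M) →
      i ∈ Finset.Icc a b := by
    intro i P hP
    rw [Finset.mem_Icc]
    by_contra hcon
    have : i < a ∨ b < i := by omega
    haveI := hab M i this
    rw [Module.support_eq_empty] at hP
    exact absurd hP (Set.notMem_empty P)
  rw [← isClosed_compl_iff]
  have heq : {P : PrimeSpectrum A | ∀ i j : ℤ, P ∈ Module.support A (T ω i M) →
      P ∈ Module.support A (T ω j M) → i = j}ᶜ =
      ⋃ i ∈ Finset.Icc a b, ⋃ j ∈ Finset.Icc a b,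
        (if i = j then (∅ : Set (PrimeSpectrum A)) else
          Module.support A (T ω i M) ∩ Module.support A (T ω j M)) := by
    ext P
    simp only [Set.mem_compl_iff, Set.mem_ofPred_eq, Set.mem_iUnion]
    constructor
    · intro h
      push Not at h
      obtain ⟨i, j, hi, hj, hne⟩ := h
      refine ⟨i, hrange i P hi, j, hrange j P hj, ?_⟩
      rw [if_neg hne]
      exact ⟨hi, hj⟩
    · rintro ⟨i, -, j, -, h⟩ hall
      by_cases hij : i = j
      · rw [if_pos hij] at h
        exact h
      · rw [if_neg hij] at h
        exact hij (hall i j h.1 h.2)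
  rw [heq]
  refine isClosed_biUnion_finset (fun i _ => isClosed_biUnion_finset (fun j _ => ?_))
  split_ifs
  · exact isClosed_empty
  · haveI := hfin i M
    haveI := hfin j M
    exact (Module.isClosed_support).inter (Module.isClosed_support)

end CM

end Groth.Agent.H2.DualCx
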