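import Mathlib
import Groth.Agent.H2.DualCx.PLocalCM
import Groth.Agent.H29.SkAt

/-!
# Serre's conditions `(S_k)` via the Ext modules of a dualizing complex  (helper2)

* `exists_depth_dim`: at `P ∈ Supp M`, `{k | P ∈ Supp T^k(M)}` lies in
  `[n(P) - dim M_P, n(P) - depth M_P]` and contains both end points.
* `skCond_iff`: `min(k, dim M_P) ≤ depth M_P` iff `dim M_P ≥ k + i - j` whenever
  `P ∈ Supp T^i(M) ∩ Supp T^j(M)`, `i > j`.
* `isOpen_hasSkAt_of_isDualizing`: the `(S_k)`-locus is open.
-/

set_option autoImplicit false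
set_option linter.unusedSectionVars false
set_option linter.style.haveILetI false

namespace Groth.Agent.H2.DualCx

universe u

open CategoryTheory CategoryTheory.Limits Pretriangulated DerivedCategory

attribute [local instance] HasDerivedCategory.standard

section Sk

variable {A : Type u} [CommRing A] [IsNoetherianRing A] {ω : Dual.D A}
  (hω : Dual.IsDualizing A ω)

include hω in
/-- depth and dimension of `M_P` via the Ext modules -/
theorem exists_depth_dim (M : Type u) [AddCommGroup M] [Module A M] [Module.Finite A M]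
    (P : PrimeSpectrum A) (hPM : P ∈ Module.support A M) :
    ∃ e r : ℕ, Module.supportDim (Localization.AtPrime P.asIdeal)
        (LocalizedModule P.asIdeal.primeCompl M) = e ∧
      LocCoh.depth (Localization.AtPrime P.asIdeal) (LocalizedModule P.asIdeal.primeCompl M) = r ∧
      r ≤ e ∧ P ∈ Module.support A (T ω (topDeg hω P - e) M) ∧
      P ∈ Module.support A (T ω (topDeg hω P - r) M) ∧
      ∀ k : ℤ, P ∈ Module.support A (T ω k M) →
        topDeg hω P - e ≤ k ∧ k ≤ topDeg hω P - r := by
  have hfin := finT_of_isDualizing' hω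
  obtain ⟨e, he⟩ := exists_supportDim_eq_nat M P hPM
  have hgen := depth_support_gen hfin P (topDeg hω P)
    (fun M _ _ _ k hk => topDeg_max hω P M k hk) (topDeg_mem hω P)
  obtain ⟨k0, hk0le, hk0⟩ := exists_le_of_supportDim_eq hω M P e he
  have hD1 : ∀ k : ℤ, P ∈ Module.support A (T ω k M) → topDeg hω P - k ≤ e := by
    intro k hk
    have h1 := le_supportDim_of_mem_support_T hω M P k hk
    rw [he] at h1
    have h2 : (topDeg hω P - k).toNat ≤ e := by exact_mod_cast h1
    omega
  have hk0eq : k0 = topDeg hω P - e := by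
    have := hD1 k0 hk0
    omega
  obtain ⟨r, hr⟩ : ∃ r : ℕ, LocCoh.depth (Localization.AtPrime P.asIdeal)
      (LocalizedModule P.asIdeal.primeCompl M) = r := by
    cases hdep : LocCoh.depth (Localization.AtPrime P.asIdeal)
        (LocalizedModule P.asIdeal.primeCompl M) with
    | top =>
      exfalso
      have := (hgen (e + 1) M).1 (by rw [hdep]; exact le_top) k0 (by push_cast; omega)
      exact this hk0
    | coe r => exact ⟨r, rfl⟩
  have hU := (hgen r M).2 hr
  have hL := (hgen r M).1 (le_of_eq hr.symm)
  have hre : (r : ℤ) ≤ e := by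
    have := hD1 _ hU
    omega
  refine ⟨e, r, he, hr, by exact_mod_cast hre, hk0eq ▸ hk0, hU, fun k hk => ⟨?_, ?_⟩⟩
  · have := hD1 k hk
    omega
  · by_contra hcon
    push Not at hcon
    exact hL k hcon hk

include hω in
/-- the single-prime `(S_k)` condition via Ext supports -/
theorem skCond_iff (k : ℕ) (M : Type u) [AddCommGroup M] [Module A M] [Module.Finite A M]
    (P : PrimeSpectrum A) :
    min (k : WithBot ℕ∞) (Module.supportDim (Localization.AtPrime P.asIdeal)
        (LocalizedModule P.asIdeal.primeCompl M)) ≤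
      ((LocCoh.depth (Localization.AtPrime P.asIdeal)
        (LocalizedModule P.asIdeal.primeCompl M) : ℕ∞) : WithBot ℕ∞) ↔
    ∀ i j : ℤ, j < i → P ∈ Module.support A (T ω i M) → P ∈ Module.support A (T ω j M) →
      ((((k : ℤ) + i - j).toNat : ℕ) : WithBot ℕ∞) ≤
        Module.supportDim (Localization.AtPrime P.asIdeal)
          (LocalizedModule P.asIdeal.primeCompl M) := by
  by_cases hPM : P ∈ Module.support A M
  · obtain ⟨e, r, he, hr, hre, hmin, hmax, hall⟩ := exists_depth_dim hω M P hPM
    rw [he, hr]
    have hL : min (k : WithBot ℕ∞) ((e : ℕ) : WithBot ℕ∞) ≤ (((r : ℕ) : ℕ∞) : WithBot ℕ∞) ↔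
        min k e ≤ r := by
      have h1 : min (k : WithBot ℕ∞) ((e : ℕ) : WithBot ℕ∞) = ((min k e : ℕ) : WithBot ℕ∞) := by
        rcases le_total k e with h | h
        · rw [min_eq_left h, min_eq_left (by exact_mod_cast h)]
        · rw [min_eq_right h, min_eq_right (by exact_mod_cast h)]
      rw [h1]
      constructor
      · intro h
        have h2 : (((min k e : ℕ) : ℕ∞) : WithBot ℕ∞) ≤ (((r : ℕ) : ℕ∞) : WithBot ℕ∞) := h
        rw [WithBot.coe_le_coe] at h2
        exact_mod_cast h2
      · intro h
        have h2 : (((min k e : ℕ) : ℕ∞) : WithBot ℕ∞) ≤ (((r : ℕ) : ℕ∞) : WithBot ℕ∞) := by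
          rw [WithBot.coe_le_coe]
          exact_mod_cast h
        exact h2
    rw [hL]
    constructor
    · intro h i j hji hi hj
      have hi' := (hall i hi).2
      have hj' := (hall j hj).1
      have hlt : r < e := by omega
      have hkr : k ≤ r := by
        rcases min_le_iff.mp h with h | h
        · exact h
        · omega
      have : ((k : ℤ) + i - j).toNat ≤ e := by omega
      exact_mod_cast this
    · intro h
      by_cases hre' : r = e
      · rw [hre']
        exact min_le_right _ _
      · have hlt : r < e := lt_of_le_of_ne hre hre'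
        have h1 := h (topDeg hω P - r) (topDeg hω P - e) (by omega) hmax hmin
        have h2 : ((k : ℤ) + (topDeg hω P - r) - (topDeg hω P - e)).toNat ≤ e := by
          exact_mod_cast h1
        have : k ≤ r := by omega
        exact (min_le_left _ _).trans this
  · have hsub : Subsingleton (LocalizedModule P.asIdeal.primeCompl M) := by
      rw [Module.mem_support_iff] at hPM
      exact not_nontrivial_iff_subsingleton.mp hPM
    rw [Module.supportDim_eq_bot_of_subsingleton]
    constructor
    · intro _ i j _ hi _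
      exact absurd (support_T_subset ω i M hi) hPM
    · intro _
      simp

open Groth.Agent.H98.GrHt in
/-- `dim M_Q ≤ dim M_P` for `Q ≤ P` in `Supp M` -/
theorem supportDim_localizedModule_mono (M : Type u) [AddCommGroup M] [Module A M]
    [Module.Finite A M] {Q P : PrimeSpectrum A} (hQP : Q ≤ P) (hQM : Q ∈ Module.support A M) :
    Module.supportDim (Localization.AtPrime Q.asIdeal)
        (LocalizedModule Q.asIdeal.primeCompl M) ≤
      Module.supportDim (Localization.AtPrime P.asIdeal)
        (LocalizedModule P.asIdeal.primeCompl M) := by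
  have hQ : Module.annihilator A M ≤ Q.asIdeal := Module.annihilator_le_of_mem_support hQM
  have hP : Module.annihilator A M ≤ P.asIdeal := hQ.trans hQP
  rw [supportDim_localizedModule_eq_relHt Q.asIdeal M hQ,
    supportDim_localizedModule_eq_relHt P.asIdeal M hP]
  apply WithBot.coe_le_coe.mpr
  unfold relHt
  apply Order.height_mono
  exact hQP

include hω in
/-- **the `(S_k)`-locus is open** -/
theorem isOpen_hasSkAt_of_isDualizing (k : ℕ) (M : Type u) [AddCommGroup M] [Module A M]
    [Module.Finite A M] :
    IsOpen {p : PrimeSpectrum A | EGA4.HasSkAt k A M p.asIdeal} := by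
  classical
  have hfin := finT_of_isDualizing' hω
  obtain ⟨a, b, hab⟩ := hω.finite_injective_dimension
  have hrange : ∀ (i : ℤ) (P : PrimeSpectrum A), P ∈ Module.support A (T ω i M) →
      i ∈ Finset.Icc a b := by
    intro i P hP
    rw [Finset.mem_Icc]
    by_contra hcon
    have : i < a ∨ b < i := by omega
    haveI := hab M i this
    rw [Module.support_eq_empty] at hP
    exact absurd hP (Set.notMem_empty P)
  let I : ℤ → ℤ → Ideal A := fun i j =>
    Module.annihilator A (T ω i M) ⊔ Module.annihilator A (T ω j M)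
  -- the bad generic points
  let F : ℤ → ℤ → Set (PrimeSpectrum A) := fun i j =>
    {q | q.asIdeal ∈ (I i j).minimalPrimes ∧ j < i ∧
      ¬ ((((k : ℤ) + i - j).toNat : ℕ) : WithBot ℕ∞) ≤
        Module.supportDim (Localization.AtPrime q.asIdeal)
          (LocalizedModule q.asIdeal.primeCompl M)}
  have hFfin : ∀ i j, (F i j).Finite := by
    intro i j
    have h1 : (PrimeSpectrum.asIdeal ⁻¹' (I i j).minimalPrimes : Set (PrimeSpectrum A)).Finite :=
      (Ideal.finite_minimalPrimes_of_isNoetherianRing A (I i j)).preimage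
        (fun x _ y _ h => PrimeSpectrum.ext h)
    exact h1.subset (fun q hq => hq.1)
  have hmemI : ∀ (i j : ℤ) (q : PrimeSpectrum A), I i j ≤ q.asIdeal ↔
      (q ∈ Module.support A (T ω i M) ∧ q ∈ Module.support A (T ω j M)) := by
    intro i j q
    haveI := hfin i M
    haveI := hfin j M
    rw [Module.mem_support_iff_of_finite, Module.mem_support_iff_of_finite]
    exact sup_le_iff
  rw [← isClosed_compl_iff]
  have heq : {p : PrimeSpectrum A | EGA4.HasSkAt k A M p.asIdeal}ᶜ =
      ⋃ i ∈ Finset.Icc a b, ⋃ j ∈ Finset.Icc a b, ⋃ q ∈ F i j,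
        PrimeSpectrum.zeroLocus (q.asIdeal : Set A) := by
    ext p
    simp only [Set.mem_compl_iff, Set.mem_ofPred_eq, Set.mem_iUnion, exists_prop]
    rw [Groth.Agent.H29.SkAt.hasSkAt_iff]
    constructor
    · intro h
      push Not at h
      obtain ⟨q, hqprime, hqp, hq⟩ := h
      let Q : PrimeSpectrum A := ⟨q, hqprime⟩
      have hq' : ¬ (min (k : WithBot ℕ∞) (Module.supportDim (Localization.AtPrime Q.asIdeal)
          (LocalizedModule Q.asIdeal.primeCompl M)) ≤
          ((LocCoh.depth (Localization.AtPrime Q.asIdeal)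
            (LocalizedModule Q.asIdeal.primeCompl M) : ℕ∞) : WithBot ℕ∞)) := hq
      rw [skCond_iff hω k M Q] at hq'
      push Not at hq'
      obtain ⟨i, j, hji, hi, hj, hdim⟩ := hq'
      have hIQ : I i j ≤ Q.asIdeal := (hmemI i j Q).mpr ⟨hi, hj⟩
      obtain ⟨q', hq'min, hq'le⟩ := Ideal.exists_minimalPrimes_le hIQ
      let Q' : PrimeSpectrum A := ⟨q', hq'min.1.1⟩
      have hQ'mem := (hmemI i j Q').mp hq'min.1.2
      have hQ'M : Q' ∈ Module.support A M := support_T_subset ω i M hQ'mem.1
      have hmono := supportDim_localizedModule_mono M (Q := Q') (P := Q) hq'le hQ'M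
      refine ⟨i, hrange i Q hi, j, hrange j Q hj, Q', ⟨hq'min, hji, ?_⟩, ?_⟩
      · intro hcon
        exact absurd (hcon.trans hmono) (not_le.mpr hdim)
      · rw [PrimeSpectrum.mem_zeroLocus, SetLike.coe_subset_coe]
        exact hq'le.trans hqp
    · rintro ⟨i, -, j, -, Q', ⟨hQ'min, hji, hdim⟩, hp⟩ hall
      rw [PrimeSpectrum.mem_zeroLocus, SetLike.coe_subset_coe] at hp
      have h1 := hall Q'.asIdeal hp
      have h2 : min (k : WithBot ℕ∞) (Module.supportDim (Localization.AtPrime Q'.asIdeal)
          (LocalizedModule Q'.asIdeal.primeCompl M)) ≤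
          ((LocCoh.depth (Localization.AtPrime Q'.asIdeal)
            (LocalizedModule Q'.asIdeal.primeCompl M) : ℕ∞) : WithBot ℕ∞) := h1
      rw [skCond_iff hω k M Q'] at h2
      have hQ'mem := (hmemI i j Q').mp hQ'min.1.2
      exact hdim (h2 i j hji hQ'mem.1 hQ'mem.2)
  rw [heq]
  refine isClosed_biUnion_finset (fun i _ => isClosed_biUnion_finset (fun j _ => ?_))
  exact (hFfin i j).isClosed_biUnion (fun q _ => PrimeSpectrum.isClosed_zeroLocus _)

end Sk

end Groth.Agent.H2.DualCx
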