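import Mathlib
import Groth.Agent.H2.DualCx.PLocalSk
import Groth.Agent.H2.DualCx.LocalCM

/-!
# `(S_k)` for an equidimensional module over a local ring with normalized dualizing complex
(helper2)
-/

set_option autoImplicit false
set_option linter.unusedSectionVars false
set_option linter.style.haveILetI false

namespace Groth.Agent.H2.DualCx

universe u

open CategoryTheory CategoryTheory.Limits Pretriangulated DerivedCategory

attribute [local instance] HasDerivedCategory.standard

section Equidim

variable {A : Type u} [CommRing A] [IsNoetherianRing A] [IsLocalRing A] {ω : Dual.D A}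
  (hω : Dual.IsDualizing A ω) (hN : Norm ω)

include hN in
/-- for a normalized dualizing complex over a local ring, `n(q) = -dim A/q` -/
theorem topDeg_eq_neg_coheight (q : PrimeSpectrum A) (c : ℕ) (hc : Order.coheight q = c) :
    topDeg hω q = -(c : ℤ) :=
  ((mem_support_T_quot_self_iff' hω q _).mp (mem_support_T_quot hN c q hc)).symm

theorem exists_coheight_eq_nat (q : PrimeSpectrum A) : ∃ c : ℕ, Order.coheight q = c := by
  obtain ⟨e, he⟩ := ENat.ne_top_iff_exists.mp (Order.coheight_lt_top q).ne
  exact ⟨e, he.symm⟩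

include hω hN in
theorem hasSk_iff_of_isEquidimModule (M : Type u) [AddCommGroup M] [Module A M]
    [Module.Finite A M] [Nontrivial M] (hM : EGA4.IsEquidimModule A M) (δ : ℕ)
    (hδ : Module.supportDim A M = δ) (k : ℕ) :
    LocCoh.HasSk k A M ↔
      ∀ j : ℤ, j ≠ -(δ : ℤ) →
        (-j - (k : ℤ) < 0 → Subsingleton (T ω j M)) ∧
        (0 ≤ -j - (k : ℤ) →
          Module.supportDim A (T ω j M) ≤ ((-j - (k : ℤ)).toNat : WithBot ℕ∞)) := by
  have hfin := finT_of_isDualizing' hω
  -- (a) `-δ` always occurs
  have ha : ∀ p : PrimeSpectrum A, p ∈ Module.support A M →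
      p ∈ Module.support A (T ω (-(δ : ℤ)) M) := by
    intro p hp
    obtain ⟨Q, hQM, hQP, hmin⟩ := exists_minimal_le M p hp
    have hQmin : Q.asIdeal ∈ (Module.annihilator A M).minimalPrimes := by
      refine ⟨⟨Q.2, Module.annihilator_le_of_mem_support hQM⟩, ?_⟩
      rintro q' ⟨hq'prime, hq'ann⟩ hq'Q
      have hq'M : (⟨q', hq'prime⟩ : PrimeSpectrum A) ∈ Module.support A M := by
        rw [Module.mem_support_iff_of_finite]
        exact hq'ann
      have := hmin ⟨q', hq'prime⟩ hq'M hq'Q
      rw [← this]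
    have h1 := hM Q.asIdeal hQmin
    rw [hδ, ← Groth.Agent.H24.coheight_eq_ringKrullDim_quotient Q] at h1
    have hcQ : Order.coheight Q = (δ : ℕ∞) := by
      have h2 : ((Order.coheight Q : ℕ∞) : WithBot ℕ∞) = (((δ : ℕ) : ℕ∞) : WithBot ℕ∞) := h1
      exact WithBot.coe_injective h2
    have h3 := topDeg_eq_neg_coheight hω hN Q δ hcQ
    have h4 := (mem_support_T_iff_of_minimal hω M Q hQM hmin (-(δ : ℤ))).mpr h3.symm
    exact Module.mem_support_mono hQP h4
  -- (b) lower bound
  have hb : ∀ (p : PrimeSpectrum A) (j : ℤ), p ∈ Module.support A (T ω j M) → -(δ : ℤ) ≤ j := by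
    intro p j hp
    have hnt : Nontrivial (T ω j M) := by
      by_contra hc
      rw [not_nontrivial_iff_subsingleton] at hc
      rw [Module.support_eq_empty] at hp
      exact absurd hp (Set.notMem_empty p)
    exact ((range_and_supportDim hN M δ hδ j).1 hnt).1
  -- (c) `dim M_p = δ - dim A/p`
  have hc : ∀ (p : PrimeSpectrum A) (c : ℕ), Order.coheight p = c → p ∈ Module.support A M →
      ∃ e : ℕ, Module.supportDim (Localization.AtPrime p.asIdeal)
        (LocalizedModule p.asIdeal.primeCompl M) = e ∧ e + c = δ := by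
    intro p c hcp hp
    obtain ⟨e, r, he, hr, hre, hmin, hmax, hall⟩ := exists_depth_dim hω M p hp
    have hn := topDeg_eq_neg_coheight hω hN p c hcp
    have h1 := (hall _ (ha p hp)).1
    have h2 := hb p _ hmin
    refine ⟨e, he, ?_⟩
    omega
  constructor
  · intro hSk j hj
    have key : ∀ (p : PrimeSpectrum A) (c : ℕ), Order.coheight p = c →
        p ∈ Module.support A (T ω j M) → (c : ℤ) ≤ -j - k := by
      intro p c hcp hpj
      have hp : p ∈ Module.support A M := support_T_subset ω j M hpj
      obtain ⟨e, he, hec⟩ := hc p c hcp hp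
      have hjδ : -(δ : ℤ) < j := lt_of_le_of_ne (hb p j hpj) (Ne.symm hj)
      have h1 := (skCond_iff hω k M p).mp (hSk p.asIdeal) j (-(δ : ℤ)) hjδ hpj (ha p hp)
      rw [he] at h1
      have h2 : ((k : ℤ) + j - -(δ : ℤ)).toNat ≤ e := by exact_mod_cast h1
      omega
    constructor
    · intro hneg
      by_contra hcon
      rw [not_subsingleton_iff_nontrivial] at hcon
      obtain ⟨p, hp⟩ := Module.nonempty_support_of_nontrivial (R := A) (M := T ω j M)
      obtain ⟨c, hcp⟩ := exists_coheight_eq_nat p
      have := key p c hcp hp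
      omega
    · intro hpos
      have h0 : (((-j - (k : ℤ)).toNat : ℕ) : WithBot ℕ∞) =
          ((((-j - (k : ℤ)).toNat : ℕ) : ℕ∞) : WithBot ℕ∞) := rfl
      rw [h0, supportDim_le_iff]
      intro p hp
      obtain ⟨c, hcp⟩ := exists_coheight_eq_nat p
      have := key p c hcp hp
      rw [hcp]
      have : c ≤ (-j - (k : ℤ)).toNat := by omega
      exact_mod_cast this
  · intro h p hpprime
    let P : PrimeSpectrum A := ⟨p, hpprime⟩
    refine (skCond_iff hω k M P).mpr ?_
    intro i j hji hi hj
    have hP : P ∈ Module.support A M := support_T_subset ω i M hi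
    obtain ⟨c, hcp⟩ := exists_coheight_eq_nat P
    obtain ⟨e, he, hec⟩ := hc P c hcp hP
    have hjδ := hb P j hj
    have hiδ : i ≠ -(δ : ℤ) := by omega
    obtain ⟨h1, h2⟩ := h i hiδ
    have hpos : 0 ≤ -i - (k : ℤ) := by
      by_contra hneg
      push Not at hneg
      haveI := h1 hneg
      rw [Module.support_eq_empty] at hi
      exact absurd hi (Set.notMem_empty P)
    have h3 := h2 hpos
    have h0 : (((-i - (k : ℤ)).toNat : ℕ) : WithBot ℕ∞) =
        ((((-i - (k : ℤ)).toNat : ℕ) : ℕ∞) : WithBot ℕ∞) := rfl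
    rw [h0, supportDim_le_iff] at h3
    have h4 := h3 P hi
    rw [hcp] at h4
    have h5 : c ≤ (-i - (k : ℤ)).toNat := by exact_mod_cast h4
    rw [he]
    have : ((k : ℤ) + i - j).toNat ≤ e := by omega
    exact_mod_cast this

end Equidim

end Groth.Agent.H2.DualCx
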