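import Mathlib
import Groth.Agent.H2.DualCx.PLocalSkEquidim
import Groth.Agent.H2.HartshorneConn
import Groth.Agent.H24.Catenary

/-!
# `(S_2)` + dualizing complex ⇒ equidimensional  (helper2)

For a Noetherian local ring `A` with a dualizing complex satisfying `(S_2)`, all minimal primes have
the same value of the codimension function; if `ω` is normalized, `A` is equidimensional.
(Hartshorne's connectedness in codimension one.)
-/

set_option autoImplicit false
set_option linter.unusedSectionVars false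
set_option linter.style.haveILetI false

namespace Groth.Agent.H2.DualCx

universe u

open CategoryTheory CategoryTheory.Limits Pretriangulated DerivedCategory

attribute [local instance] HasDerivedCategory.standard

section Split

variable {R : Type u} [CommRing R] [IsLocalRing R] [IsNoetherianRing R]

/-- A local ring of depth `≥ 2` cannot be split by two non-nilpotent ideals meeting only at the
closed point. -/
theorem not_two_le_depth_of_split (I J : Ideal R) (k : ℕ) (hIJ : (I * J) ^ k = ⊥)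
    (hprim : ∀ P : PrimeSpectrum R, I ≤ P.asIdeal → J ≤ P.asIdeal →
      P.asIdeal = IsLocalRing.maximalIdeal R)
    (hI : ¬ I ≤ nilradical R) (hJ : ¬ J ≤ nilradical R) (hI' : I ≠ ⊤) (hJ' : J ≠ ⊤) :
    ¬ 2 ≤ LocCoh.depth R R := by
  intro h
  have hI𝔪 : I ≤ IsLocalRing.maximalIdeal R := IsLocalRing.le_maximalIdeal hI'
  have hJ𝔪 : J ≤ IsLocalRing.maximalIdeal R := IsLocalRing.le_maximalIdeal hJ'
  set I' := I ^ (k + 1) with hI'def
  set J' := J ^ (k + 1) with hJ'def
  have hIJ' : I' * J' = ⊥ := by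
    rw [hI'def, hJ'def, ← mul_pow, pow_succ, hIJ, Ideal.bot_mul]
  have hK : I' ⊔ J' ≠ ⊤ := by
    intro htop
    have : I' ⊔ J' ≤ IsLocalRing.maximalIdeal R :=
      sup_le ((Ideal.pow_le_self (Nat.succ_ne_zero k)).trans hI𝔪)
        ((Ideal.pow_le_self (Nat.succ_ne_zero k)).trans hJ𝔪)
    rw [htop] at this
    exact (Ideal.IsMaximal.ne_top inferInstance) (top_le_iff.mp this)
  have hrad : IsLocalRing.maximalIdeal R ≤ (I' ⊔ J' : Ideal R).radical := by
    rw [← PrimeSpectrum.zeroLocus_subset_zeroLocus_iff, PrimeSpectrum.zeroLocus_sup,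
      PrimeSpectrum.zeroLocus_pow _ (Nat.succ_ne_zero k),
      PrimeSpectrum.zeroLocus_pow _ (Nat.succ_ne_zero k)]
    intro x hx
    rw [PrimeSpectrum.mem_zeroLocus]
    have := hprim x ((PrimeSpectrum.mem_zeroLocus _ _).mp hx.1)
      ((PrimeSpectrum.mem_zeroLocus _ _).mp hx.2)
    rw [this]
  obtain ⟨n, hn⟩ := Ideal.exists_pow_le_of_le_radical_of_fg hrad (IsNoetherian.noetherian _)
  have hdepth := Groth.Agent.H2.HartshorneConn.two_le_idealDepth_of_pow_le h (I' ⊔ J') hK n hn
  obtain ⟨x, hx, y, hy, hxr, hyr⟩ := Groth.Agent.H34.exists_regular_of_two_le_idealDepth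
    (I' ⊔ J') R (Groth.Agent.H2.HartshorneConn.smul_top_ne_top_self _ hK) hdepth
  have hnil : ∀ L : Ideal R, L ^ (k + 1) = ⊥ → L ≤ nilradical R := by
    intro L hL a ha
    rw [mem_nilradical]
    refine ⟨k + 1, ?_⟩
    have := Ideal.pow_mem_pow ha (k + 1)
    rwa [hL, Ideal.mem_bot] at this
  rcases Groth.Agent.H2.HartshorneConn.eq_bot_or_eq_bot_of_regular I' J' hIJ' x y hx hy hxr hyr
    with h0 | h0
  · exact hI (hnil I h0)
  · exact hJ (hnil J h0)

end Split

section Chain

variable {A : Type u} [CommRing A] [IsNoetherianRing A] {ω : Dual.D A}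
  (hω : Dual.IsDualizing A ω)

/-- over a prime of height `≤ 1`, the codimension function jumps by exactly one -/
theorem topDeg_eq_add_one_of_height_le_one {q p : PrimeSpectrum A} (h : q < p)
    (hp : Order.height p ≤ 1) : topDeg hω p = topDeg hω q + 1 := by
  obtain ⟨k, hk, hk1⟩ := exists_topDeg_add hω h.le
  have h0 : p ∈ Module.support A (T ω (topDeg hω q) (A ⧸ q.asIdeal)) :=
    Module.mem_support_mono h.le (topDeg_mem hω q)
  obtain ⟨l, hl, -, hlast⟩ := exists_series_of_mem_support_T_quot hω p k q (topDeg hω q) hk h0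
  have h1 : (l.length : ℕ∞) ≤ Order.height l.last := Order.length_le_height_last
  rw [hlast, hl] at h1
  have h2 : (k : ℕ∞) ≤ 1 := h1.trans hp
  have h3 : k ≤ 1 := by exact_mod_cast h2
  have h4 := hk1 h.ne
  omega

end Chain

section Main

variable {A : Type u} [CommRing A] [IsNoetherianRing A] [IsLocalRing A] {ω : Dual.D A}
  (hω : Dual.IsDualizing A ω)

theorem topDeg_eq_of_minimalPrimes_of_hasSk_two (hS : LocCoh.HasSk 2 A A)
    (q1 q2 : PrimeSpectrum A) (h1 : q1.asIdeal ∈ minimalPrimes A)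
    (h2 : q2.asIdeal ∈ minimalPrimes A) : topDeg hω q1 = topDeg hω q2 := by
  classical
  by_contra hne
  obtain ⟨c, hc⟩ : ∃ c : ℤ, c = topDeg hω q1 := ⟨_, rfl⟩
  rw [← hc] at hne
  have hSfin : {q : PrimeSpectrum A | q.asIdeal ∈ minimalPrimes A}.Finite := by
    have := minimalPrimes.finite_of_isNoetherianRing A
    exact this.preimage (fun a _ b _ hab => PrimeSpectrum.ext hab)
  obtain ⟨Gf, hGf⟩ : ∃ Gf : Finset (PrimeSpectrum A), ∀ q : PrimeSpectrum A,
      q ∈ Gf ↔ q.asIdeal ∈ minimalPrimes A ∧ topDeg hω q = c :=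
    ⟨hSfin.toFinset.filter (fun q => topDeg hω q = c), fun q => by
      rw [Finset.mem_filter, Set.Finite.mem_toFinset]; rfl⟩
  obtain ⟨Bf, hBf⟩ : ∃ Bf : Finset (PrimeSpectrum A), ∀ q : PrimeSpectrum A,
      q ∈ Bf ↔ q.asIdeal ∈ minimalPrimes A ∧ topDeg hω q ≠ c :=
    ⟨hSfin.toFinset.filter (fun q => topDeg hω q ≠ c), fun q => by
      rw [Finset.mem_filter, Set.Finite.mem_toFinset]; rfl⟩
  obtain ⟨I1, hI1⟩ : ∃ I1 : Ideal A, I1 = Gf.inf (fun q => q.asIdeal) := ⟨_, rfl⟩
  obtain ⟨I2, hI2⟩ : ∃ I2 : Ideal A, I2 = Bf.inf (fun q => q.asIdeal) := ⟨_, rfl⟩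
  have hI1le : ∀ q ∈ Gf, I1 ≤ q.asIdeal := fun q hq => by
    rw [hI1]; exact Finset.inf_le (f := fun q : PrimeSpectrum A => q.asIdeal) hq
  have hI2le : ∀ q ∈ Bf, I2 ≤ q.asIdeal := fun q hq => by
    rw [hI2]; exact Finset.inf_le (f := fun q : PrimeSpectrum A => q.asIdeal) hq
  have hq1G : q1 ∈ Gf := (hGf q1).mpr ⟨h1, hc.symm⟩
  have hq2B : q2 ∈ Bf := (hBf q2).mpr ⟨h2, fun h => hne h.symm⟩
  have hI1q1 : I1 ≤ q1.asIdeal := hI1le q1 hq1G
  have hI2q2 : I2 ≤ q2.asIdeal := hI2le q2 hq2B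
  -- `I1 * I2` is nilpotent
  have hnil : I1 * I2 ≤ nilradical A := by
    rw [nilradical_eq_sInf, le_sInf_iff]
    intro P hP
    haveI : P.IsPrime := hP
    obtain ⟨Q, hQmin, hQP⟩ := Ideal.exists_minimalPrimes_le (bot_le : (⊥ : Ideal A) ≤ P)
    have hQprime : Q.IsPrime := hQmin.1.1
    let Q' : PrimeSpectrum A := ⟨Q, hQprime⟩
    by_cases hQc : topDeg hω Q' = c
    · have h3 : I1 ≤ Q := hI1le Q' ((hGf Q').mpr ⟨hQmin, hQc⟩)
      exact (Ideal.mul_le_left.trans h3).trans hQP
    · have h3 : I2 ≤ Q := hI2le Q' ((hBf Q').mpr ⟨hQmin, hQc⟩)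
      exact (Ideal.mul_le_right.trans h3).trans hQP
  obtain ⟨k, hk⟩ : ∃ k : ℕ, (I1 * I2) ^ k = ⊥ := by
    obtain ⟨k, hk⟩ := IsNoetherianRing.isNilpotent_nilradical A
    refine ⟨k, ?_⟩
    rw [eq_bot_iff, ← Ideal.zero_eq_bot, ← hk]
    exact Ideal.pow_right_mono hnil k
  -- a minimal prime over `I1 ⊔ I2`
  have hle𝔪 : I1 ⊔ I2 ≤ IsLocalRing.maximalIdeal A :=
    sup_le (hI1q1.trans (IsLocalRing.le_maximalIdeal q1.2.ne_top))
      (hI2q2.trans (IsLocalRing.le_maximalIdeal q2.2.ne_top))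
  obtain ⟨p, hpmin, -⟩ := Ideal.exists_minimalPrimes_le hle𝔪
  haveI hpprime : p.IsPrime := hpmin.1.1
  let P : PrimeSpectrum A := ⟨p, hpprime⟩
  have hI1p : I1 ≤ p := le_sup_left.trans hpmin.1.2
  have hI2p : I2 ≤ p := le_sup_right.trans hpmin.1.2
  obtain ⟨g, hgG, hgp⟩ := (Ideal.IsPrime.inf_le' hpprime).mp (hI1 ▸ hI1p)
  obtain ⟨b, hbB, hbp⟩ := (Ideal.IsPrime.inf_le' hpprime).mp (hI2 ▸ hI2p)
  have hgmin : g.asIdeal ∈ minimalPrimes A := ((hGf g).mp hgG).1
  have hbmin : b.asIdeal ∈ minimalPrimes A := ((hBf b).mp hbB).1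
  have hgc : topDeg hω g = c := ((hGf g).mp hgG).2
  have hbc : topDeg hω b ≠ c := ((hBf b).mp hbB).2
  -- the localization
  let R := Localization.AtPrime p
  have hdisj : ∀ Q : PrimeSpectrum A, Q.asIdeal ≤ p → Disjoint (p.primeCompl : Set A) Q.asIdeal := by
    intro Q hQ
    rw [Set.disjoint_left]
    intro a ha haQ
    exact ha (hQ haQ)
  have hmapprime : ∀ Q : PrimeSpectrum A, Q.asIdeal ≤ p →
      (Q.asIdeal.map (algebraMap A R)).IsPrime := fun Q hQ =>
    IsLocalization.isPrime_of_isPrime_disjoint p.primeCompl R _ Q.2 (hdisj Q hQ)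
  have hcomapmap : ∀ Q : PrimeSpectrum A, Q.asIdeal ≤ p →
      (Q.asIdeal.map (algebraMap A R)).comap (algebraMap A R) = Q.asIdeal := fun Q hQ =>
    IsLocalization.comap_map_of_isPrime_disjoint p.primeCompl R Q.2 (hdisj Q hQ)
  -- not contained in the nilradical
  have hnotnil : ∀ (F : Finset (PrimeSpectrum A)) (t : PrimeSpectrum A),
      t.asIdeal ∈ minimalPrimes A → t.asIdeal ≤ p → (∀ q ∈ F, q.asIdeal ≤ t.asIdeal → False) →
      ¬ (F.inf (fun q => q.asIdeal)).map (algebraMap A R) ≤ nilradical R := by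
    intro F t htmin htp hF hcon
    haveI := hmapprime t htp
    have h3 : nilradical R ≤ t.asIdeal.map (algebraMap A R) := by
      rw [nilradical_eq_sInf]
      exact sInf_le (hmapprime t htp)
    have h4 := Ideal.map_le_iff_le_comap.mp (hcon.trans h3)
    rw [hcomapmap t htp] at h4
    obtain ⟨q, hqF, hqt⟩ := (Ideal.IsPrime.inf_le' t.2).mp h4
    exact hF q hqF hqt
  have hdepth : ¬ 2 ≤ LocCoh.depth R R := by
    apply not_two_le_depth_of_split (I1.map (algebraMap A R)) (I2.map (algebraMap A R)) k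
    · rw [← Ideal.map_mul, ← Ideal.map_pow, hk, Ideal.map_bot]
    · intro P' h1' h2'
      have h3 : I1 ⊔ I2 ≤ P'.asIdeal.comap (algebraMap A R) :=
        sup_le (Ideal.map_le_iff_le_comap.mp h1') (Ideal.map_le_iff_le_comap.mp h2')
      have h4 : P'.asIdeal.comap (algebraMap A R) ≤ p := by
        intro a ha
        by_contra hap
        have hu : IsUnit (algebraMap A R a) := IsLocalization.map_units R (⟨a, hap⟩ : p.primeCompl)
        exact P'.2.ne_top (Ideal.eq_top_of_isUnit_mem _ ha hu)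
      have h5 : P'.asIdeal.comap (algebraMap A R) = p :=
        le_antisymm h4 (hpmin.2 ⟨Ideal.IsPrime.comap _, h3⟩ h4)
      have h6 : (P'.asIdeal.comap (algebraMap A R)).map (algebraMap A R) = P'.asIdeal :=
        IsLocalization.map_comap p.primeCompl R P'.asIdeal
      rw [h5] at h6
      rw [← h6, Localization.AtPrime.map_eq_maximalIdeal]
    · rw [hI1]
      apply hnotnil Gf b hbmin hbp
      intro q hqG hqb
      have : q = b := PrimeSpectrum.ext (le_antisymm hqb (hbmin.2 ⟨q.2, bot_le⟩ hqb))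
      rw [this] at hqG
      exact hbc ((hGf b).mp hqG).2
    · rw [hI2]
      apply hnotnil Bf g hgmin hgp
      intro q hqB hqg
      have : q = g := PrimeSpectrum.ext (le_antisymm hqg (hgmin.2 ⟨q.2, bot_le⟩ hqg))
      rw [this] at hqB
      exact ((hBf g).mp hqB).2 hgc
    · intro htop
      have h3 : I1.map (algebraMap A R) ≤ IsLocalRing.maximalIdeal R := by
        rw [← Localization.AtPrime.map_eq_maximalIdeal]
        exact Ideal.map_mono hI1p
      rw [htop] at h3
      exact (Ideal.IsMaximal.ne_top inferInstance) (top_le_iff.mp h3)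
    · intro htop
      have h3 : I2.map (algebraMap A R) ≤ IsLocalRing.maximalIdeal R := by
        rw [← Localization.AtPrime.map_eq_maximalIdeal]
        exact Ideal.map_mono hI2p
      rw [htop] at h3
      exact (Ideal.IsMaximal.ne_top inferInstance) (top_le_iff.mp h3)
  -- `ht p ≤ 1`
  have hht : Order.height P ≤ 1 := by
    have h3 := hS p
    have h4 : Module.supportDim (Localization.AtPrime p) (LocalizedModule p.primeCompl A) =
        (p.height : WithBot ℕ∞) := by
      have e1 : Module.supportDim (Localization.AtPrime p) (LocalizedModule p.primeCompl A) =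
          Module.supportDim (Localization.AtPrime p) (Localization.AtPrime p) := rfl
      rw [e1, Module.supportDim_self_eq_ringKrullDim,
        IsLocalization.AtPrime.ringKrullDim_eq_height p]
    rw [h4] at h3
    have h5 : LocCoh.depth (Localization.AtPrime p) (LocalizedModule p.primeCompl A) =
        LocCoh.depth R R := rfl
    rw [h5] at h3
    have h8 : (p.height : WithBot ℕ∞) ≤ ((1 : ℕ∞) : WithBot ℕ∞) := by
      by_contra hcon
      push Not at hcon
      have h9' : ((2 : ℕ) : ℕ∞) ≤ p.height := by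
        have : (1 : ℕ∞) < p.height := WithBot.coe_lt_coe.mp hcon
        have : (1 : ℕ∞) + 1 ≤ p.height := Order.add_one_le_of_lt this
        rw [one_add_one_eq_two] at this
        exact_mod_cast this
      have h9 : ((2 : ℕ) : WithBot ℕ∞) ≤ (p.height : WithBot ℕ∞) := WithBot.coe_le_coe.mpr h9'
      rw [min_eq_left h9] at h3
      have h10 : ((2 : ℕ) : ℕ∞) ≤ LocCoh.depth R R := WithBot.coe_le_coe.mp h3
      exact hdepth (by exact_mod_cast h10)
    have h11 := WithBot.coe_le_coe.mp h8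
    have h12 : P.asIdeal.height = Order.height P := PrimeSpectrum.height_eq_orderHeight P
    rw [← h12]
    exact h11
  -- both `g` and `b` are strictly below `P`
  have hgP : g < P := by
    refine lt_of_le_of_ne hgp ?_
    intro he
    have hbg : b.asIdeal ≤ g.asIdeal := by rw [he]; exact hbp
    have : b = g := PrimeSpectrum.ext (le_antisymm hbg (hgmin.2 ⟨b.2, bot_le⟩ hbg))
    rw [this] at hbc
    exact hbc hgc
  have hbP : b < P := by
    refine lt_of_le_of_ne hbp ?_
    intro he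
    have hgb : g.asIdeal ≤ b.asIdeal := by rw [he]; exact hgp
    have : g = b := PrimeSpectrum.ext (le_antisymm hgb (hbmin.2 ⟨g.2, bot_le⟩ hgb))
    rw [this] at hgc
    exact hbc hgc
  have e1 := topDeg_eq_add_one_of_height_le_one hω hgP hht
  have e2 := topDeg_eq_add_one_of_height_le_one hω hbP hht
  apply hbc
  omega

end Main

section Equidim

variable {A : Type u} [CommRing A] [IsNoetherianRing A] [IsLocalRing A] {ω : Dual.D A}
  (hω : Dual.IsDualizing A ω) (hN : Norm ω)

include hω hN in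
/-- `(S_2)` + normalized dualizing complex ⇒ all minimal primes have the same coheight -/
theorem coheight_eq_of_minimalPrimes_of_hasSk_two (hS : LocCoh.HasSk 2 A A)
    (q1 q2 : PrimeSpectrum A) (h1 : q1.asIdeal ∈ minimalPrimes A)
    (h2 : q2.asIdeal ∈ minimalPrimes A) : Order.coheight q1 = Order.coheight q2 := by
  obtain ⟨c1, hc1⟩ := exists_coheight_eq_nat q1
  obtain ⟨c2, hc2⟩ := exists_coheight_eq_nat q2
  have e := topDeg_eq_of_minimalPrimes_of_hasSk_two hω hS q1 q2 h1 h2
  rw [topDeg_eq_neg_coheight hω hN q1 c1 hc1, topDeg_eq_neg_coheight hω hN q2 c2 hc2] at e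
  rw [hc1, hc2]
  have : c1 = c2 := by omega
  rw [this]

include hω hN in
/-- `(S_2)` + normalized dualizing complex ⇒ equidimensional -/
theorem isEquidim_of_hasSk_two (hS : LocCoh.HasSk 2 A A) : EGA4.IsEquidim A := by
  intro q hq
  let Q : PrimeSpectrum A := ⟨q, hq.1.1⟩
  have h1 := Groth.Agent.H24.coheight_eq_ringKrullDim_quotient Q
  change _ = ringKrullDim (A ⧸ q) at h1
  rw [← h1]
  have h2 : ringKrullDim A = ((⨆ a : PrimeSpectrum A, Order.coheight a : ℕ∞) : WithBot ℕ∞) :=
    Order.krullDim_eq_iSup_coheight_of_nonempty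
  rw [h2, WithBot.coe_inj]
  apply le_antisymm
  · exact le_iSup (fun a : PrimeSpectrum A => Order.coheight a) Q
  · refine iSup_le fun a => ?_
    obtain ⟨Q', hQ'min, hQ'a⟩ := Ideal.exists_minimalPrimes_le (bot_le : (⊥ : Ideal A) ≤ a.asIdeal)
    let Q'' : PrimeSpectrum A := ⟨Q', hQ'min.1.1⟩
    have h3 : Order.coheight a ≤ Order.coheight Q'' := Order.coheight_anti (show Q'' ≤ a from hQ'a)
    rw [coheight_eq_of_minimalPrimes_of_hasSk_two hω hN hS Q Q'' hq hQ'min]
    exact h3

end Equidim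

end Groth.Agent.H2.DualCx
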