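import Mathlib

/-!
# Exactness lemmas for `Hom` on distinguished triangles  (helper2)
-/

set_option autoImplicit false

namespace Groth.Agent.H2.TriangleHom

open CategoryTheory CategoryTheory.Limits Pretriangulated

variable {C : Type*} [Category C] [Preadditive C] [HasZeroObject C] [HasShift C ℤ]
  [∀ n : ℤ, (shiftFunctor C n).Additive] [Pretriangulated C]

/-- `mor₁^* : Hom(obj₂, Y) → Hom(obj₁, Y)` is injective if `Hom(obj₃, Y) = 0` -/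
theorem precomp_mor₁_injective (T : Triangle C) (hT : T ∈ distTriang C) (Y : C)
    (h₃ : Subsingleton (T.obj₃ ⟶ Y)) (f g : T.obj₂ ⟶ Y) (hfg : T.mor₁ ≫ f = T.mor₁ ≫ g) :
    f = g := by
  have h0 : T.mor₁ ≫ (f - g) = 0 := by rw [Preadditive.comp_sub, hfg, sub_self]
  obtain ⟨u, hu⟩ := Triangle.yoneda_exact₂ T hT (f - g) h0
  rw [Subsingleton.elim u 0, comp_zero] at hu
  exact sub_eq_zero.mp hu

/-- `mor₁^* : Hom(obj₂, Y) → Hom(obj₁, Y)` is surjective if `Hom(obj₃, Y[1]) = 0` -/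
theorem precomp_mor₁_surjective (T : Triangle C) (hT : T ∈ distTriang C) (Y : C)
    (h₃ : Subsingleton (T.obj₃ ⟶ Y⟦(1 : ℤ)⟧)) (h : T.obj₁ ⟶ Y) :
    ∃ f : T.obj₂ ⟶ Y, h = T.mor₁ ≫ f := by
  have hT' := rot_of_distTriang _ (rot_of_distTriang _ hT)
  have h0 : T.rotate.rotate.mor₁ ≫ h⟦(1 : ℤ)⟧' = 0 := h₃.elim _ _
  obtain ⟨g₀, hg₀⟩ : ∃ g₀ : (T.obj₂)⟦(1 : ℤ)⟧ ⟶ Y⟦(1 : ℤ)⟧,
      h⟦(1 : ℤ)⟧' = (-(T.mor₁⟦(1 : ℤ)⟧')) ≫ g₀ := by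
    obtain ⟨g, hg⟩ := Triangle.yoneda_exact₂ _ hT' (h⟦(1 : ℤ)⟧') h0
    exact ⟨g, hg⟩
  obtain ⟨g', rfl⟩ := (shiftFunctor C (1 : ℤ)).map_surjective g₀
  refine ⟨-g', ?_⟩
  apply (shiftFunctor C (1 : ℤ)).map_injective
  rw [hg₀, Functor.map_comp, Functor.map_neg, Preadditive.neg_comp, Preadditive.comp_neg]

/-- `(mor₁)_* : Hom(X, obj₁) → Hom(X, obj₂)` is injective if `Hom(X[1], obj₃) = 0` -/
theorem postcomp_mor₁_injective (T : Triangle C) (hT : T ∈ distTriang C) (X : C)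
    (h₃ : Subsingleton (X⟦(1 : ℤ)⟧ ⟶ T.obj₃)) (f g : X ⟶ T.obj₁)
    (hfg : f ≫ T.mor₁ = g ≫ T.mor₁) : f = g := by
  have h0 : (f - g)⟦(1 : ℤ)⟧' ≫ T.mor₁⟦(1 : ℤ)⟧' = 0 := by
    rw [← Functor.map_comp, Preadditive.sub_comp, hfg, sub_self, Functor.map_zero]
  obtain ⟨u, hu⟩ := Triangle.coyoneda_exact₁ T hT ((f - g)⟦(1 : ℤ)⟧') h0
  rw [Subsingleton.elim u 0, zero_comp] at hu
  have : f - g = 0 := by
    apply (shiftFunctor C (1 : ℤ)).map_injective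
    rw [hu, Functor.map_zero]
  exact sub_eq_zero.mp this

/-- `(mor₁)_* : Hom(X, obj₁) → Hom(X, obj₂)` is surjective if `Hom(X, obj₃) = 0` -/
theorem postcomp_mor₁_surjective (T : Triangle C) (hT : T ∈ distTriang C) (X : C)
    (h₃ : Subsingleton (X ⟶ T.obj₃)) (h : X ⟶ T.obj₂) : ∃ g : X ⟶ T.obj₁, h = g ≫ T.mor₁ :=
  Triangle.coyoneda_exact₂ T hT h (Subsingleton.elim _ _)

/-- `(mor₁[1])_* : Hom(X, obj₁[1]) → Hom(X, obj₂[1])` is injective if `Hom(X, obj₃) = 0` -/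
theorem postcomp_mor₁_shift_injective (T : Triangle C) (hT : T ∈ distTriang C) (X : C)
    (h₃ : Subsingleton (X ⟶ T.obj₃)) (f : X ⟶ T.obj₁⟦(1 : ℤ)⟧)
    (hf : f ≫ T.mor₁⟦(1 : ℤ)⟧' = 0) : f = 0 := by
  obtain ⟨u, hu⟩ := Triangle.coyoneda_exact₁ T hT f hf
  rw [Subsingleton.elim u 0, zero_comp] at hu
  exact hu

section Linear

variable {R : Type*} [CommRing R] [Linear R C] [∀ n : ℤ, (shiftFunctor C n).Linear R]

/-- If `R ≅ End(obj₂)`, `Hom(obj₃, obj₂[i]) = 0` for `i = 0, 1` and `Hom(obj₁[i], obj₃) = 0` for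
`i = 1`, then `R ≅ End(obj₁)`. -/
theorem end_obj₁_bijective (T : Triangle C) (hT : T ∈ distTriang C)
    (hend : Function.Bijective (fun r : R => r • 𝟙 T.obj₂))
    (hZ0 : Subsingleton (T.obj₃ ⟶ T.obj₂)) (hZ1 : Subsingleton (T.obj₃ ⟶ T.obj₂⟦(1 : ℤ)⟧))
    (hXZ' : Subsingleton ((T.obj₁)⟦(1 : ℤ)⟧ ⟶ T.obj₃)) :
    Function.Bijective (fun r : R => r • 𝟙 T.obj₁) := by
  have hcomm : ∀ r : R, (r • 𝟙 T.obj₁) ≫ T.mor₁ = T.mor₁ ≫ (r • 𝟙 T.obj₂) := by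
    intro r
    rw [Linear.smul_comp, Linear.comp_smul, Category.id_comp, Category.comp_id]
  refine ⟨?_, ?_⟩
  · intro r s hrs
    have hrs' : r • 𝟙 T.obj₁ = s • 𝟙 T.obj₁ := hrs
    apply hend.1
    apply precomp_mor₁_injective T hT T.obj₂ hZ0
    rw [← hcomm, ← hcomm, hrs']
  · intro g
    obtain ⟨f, hf⟩ := precomp_mor₁_surjective T hT T.obj₂ hZ1 (g ≫ T.mor₁)
    obtain ⟨r, hr⟩ := hend.2 f
    refine ⟨r, ?_⟩
    apply postcomp_mor₁_injective T hT T.obj₁ hXZ'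
    change (r • 𝟙 T.obj₁) ≫ T.mor₁ = g ≫ T.mor₁
    rw [hcomm, hf]
    congr 1

end Linear

/-- `Hom(obj₁, obj₁[1]) = 0` if `Hom(obj₂, obj₂[1]) = 0`, `Hom(obj₃, obj₂[2]) = 0` and
`Hom(obj₁, obj₃) = 0`. -/
theorem subsingleton_obj₁_shift (T : Triangle C) (hT : T ∈ distTriang C)
    (hself : Subsingleton (T.obj₂ ⟶ T.obj₂⟦(1 : ℤ)⟧))
    (hZ2 : Subsingleton (T.obj₃ ⟶ (T.obj₂⟦(1 : ℤ)⟧)⟦(1 : ℤ)⟧))
    (hXZ : Subsingleton (T.obj₁ ⟶ T.obj₃)) :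
    Subsingleton (T.obj₁ ⟶ (T.obj₁)⟦(1 : ℤ)⟧) := by
  refine ⟨fun x y => ?_⟩
  have key : ∀ f : T.obj₁ ⟶ (T.obj₁)⟦(1 : ℤ)⟧, f = 0 := by
    intro f
    apply postcomp_mor₁_shift_injective T hT T.obj₁ hXZ
    obtain ⟨f', hf'⟩ := precomp_mor₁_surjective T hT (T.obj₂⟦(1 : ℤ)⟧) hZ2
      (f ≫ T.mor₁⟦(1 : ℤ)⟧')
    rw [hf', Subsingleton.elim f' 0, comp_zero]
  rw [key x, key y]

end Groth.Agent.H2.TriangleHom
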