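import Mathlib
import Groth.Agent.H2.DualCx.S2Equidim
import Groth.Agent.H2.DualCx.HomCohomology
import Groth.Agent.H2.DualCx.TriangleHom
import Groth.Agent.H2.DualCx.EndTransfer
import Groth.Agent.H2.DualCx.Support3
import Groth.Agent.H2.DualCx.PLocalCM

/-!
# Endomorphisms and `Ext^1` of the dualizing module `K = H^{-n}(ω)`  (helper2)

`A` Noetherian local of dimension `n`, `ω` normalized dualizing.  If `A` is `(S_2)` then
`A → End(K)` is bijective; if `A` is `(S_3)` then `Ext^1(K, K) = 0`.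
-/

set_option autoImplicit false
set_option linter.unusedSectionVars false
set_option linter.style.haveILetI false

namespace Groth.Agent.H2.DualCx

universe u

open CategoryTheory CategoryTheory.Limits Pretriangulated DerivedCategory

attribute [local instance] HasDerivedCategory.standard

section

variable {A : Type u} [CommRing A] [IsNoetherianRing A] [IsLocalRing A] {ω : Dual.D A}
  (hω : Dual.IsDualizing A ω) (hN : Norm ω) (n : ℕ) (hd : ringKrullDim A = n)

theorem hasSk_of_le' {k k' : ℕ} (hk : k' ≤ k) (h : LocCoh.HasSk k A A) : LocCoh.HasSk k' A A := by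
  intro p _
  refine le_trans ?_ (h p)
  exact min_le_min_right _ (by exact_mod_cast hk)

include hω hN hd in
/-- vanishing of `Ext^{i+q}(H^q(ω), ω)` for `q ≠ -n`, `i < k` under `(S_k)` -/
theorem subsingleton_T_HD_of_hasSk (k : ℕ) (hk : 2 ≤ k) (hS : LocCoh.HasSk k A A) (q : ℤ)
    (hq : q ≠ -(n : ℤ)) (i : ℤ) (hi : i < k) : Subsingleton (T ω (i + q) (Dual.HD A ω q)) := by
  haveI hfinq : Module.Finite A (Dual.HD A ω q) := hω.finite_cohomology q
  have hS2 : LocCoh.HasSk 2 A A := hasSk_of_le' hk hS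
  have hE := isEquidim_of_hasSk_two hω hN hS2
  have hsd : Module.supportDim A A = (n : WithBot ℕ∞) := by
    rw [Module.supportDim_self_eq_ringKrullDim, hd]
  have hM : EGA4.IsEquidimModule A A := by
    intro p hp
    rw [Module.annihilator_eq_bot.mpr inferInstance] at hp
    rw [hE p hp, Module.supportDim_self_eq_ringKrullDim]
  have h1 := ((hasSk_iff_of_isEquidimModule hω hN A hM n hsd k).mp hS q hq)
  by_cases hneg : -q - (k : ℤ) < 0
  · haveI := h1.1 hneg
    haveI : Subsingleton (Dual.HD A ω q) := (subsingleton_T_self_iff ω q).mp inferInstance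
    exact subsingleton_of_subsingleton ω (i + q)
  · push Not at hneg
    have h2 := h1.2 hneg
    by_cases hsub : Subsingleton (Dual.HD A ω q)
    · exact subsingleton_of_subsingleton ω (i + q)
    · rw [not_subsingleton_iff_nontrivial] at hsub
      have h3 : Module.supportDim A (Dual.HD A ω q) = Module.supportDim A (T ω q A) := by
        unfold Module.supportDim
        rw [support_HD_eq ω q]
      have h4 : Module.supportDim A (Dual.HD A ω q) ≠ ⊥ :=
        (Module.supportDim_ne_bot_iff_nontrivial _ _).mpr hsub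
      obtain ⟨d, hd'⟩ : ∃ d : ℕ, Module.supportDim A (Dual.HD A ω q) = d := by
        have h5 : Module.supportDim A (Dual.HD A ω q) ≤ (((-q - (k : ℤ)).toNat : ℕ) : WithBot ℕ∞) :=
          h3 ▸ h2
        cases hx : Module.supportDim A (Dual.HD A ω q) with
        | bot => exact absurd hx h4
        | coe x =>
          rw [hx] at h5
          have h6 : x ≤ (((-q - (k : ℤ)).toNat : ℕ) : ℕ∞) := WithBot.coe_le_coe.mp h5
          obtain ⟨d, rfl⟩ := ENat.ne_top_iff_exists.mp (ne_top_of_le_ne_top (ENat.coe_ne_top _) h6)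
          exact ⟨d, rfl⟩
      have h7 : d ≤ (-q - (k : ℤ)).toNat := by
        have h5 : Module.supportDim A (Dual.HD A ω q) ≤ (((-q - (k : ℤ)).toNat : ℕ) : WithBot ℕ∞) :=
          h3 ▸ h2
        rw [hd'] at h5
        exact_mod_cast h5
      by_contra hcon
      rw [not_subsingleton_iff_nontrivial] at hcon
      have h8 := (range_and_supportDim hN (Dual.HD A ω q) d hd' (i + q)).1 hcon
      omega

include hN hd in
theorem isGE_of_norm : ω.IsGE (-(n : ℤ)) := by
  have hsd : Module.supportDim A A = (n : WithBot ℕ∞) := by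
    rw [Module.supportDim_self_eq_ringKrullDim, hd]
  rw [DerivedCategory.isGE_iff]
  intro j hj
  have h1 : Subsingleton (T ω j A) := by
    by_contra hcon
    rw [not_subsingleton_iff_nontrivial] at hcon
    have := (range_and_supportDim hN A n hsd j).1 hcon
    omega
  haveI := (subsingleton_T_self_iff ω j).mp h1
  exact ModuleCat.isZero_of_subsingleton _

include hN in
theorem isLE_of_norm : ω.IsLE 0 := by
  rw [DerivedCategory.isLE_iff]
  intro j hj
  have h1 : Subsingleton (T ω j A) := pos_vanish hN A j hj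
  haveI := (subsingleton_T_self_iff ω j).mp h1
  exact ModuleCat.isZero_of_subsingleton _

include hω hN hd in
/-- `Hom(τ_{> -n} ω, ω[i]) = 0` for `i < k` under `(S_k)` -/
theorem subsingleton_truncGE_hom (k : ℕ) (hk : 2 ≤ k) (hS : LocCoh.HasSk k A A) (i : ℤ)
    (hi : i < k) :
    Subsingleton ((TStructure.t.truncGE (-(n : ℤ) + 1)).obj ω ⟶ ω⟦i⟧) := by
  haveI := isLE_of_norm hN
  refine subsingleton_hom_of_cohomology ω _ i (-(n : ℤ) + 1) 0 inferInstance inferInstance
    (fun q => ?_)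
  by_cases hq : -(n : ℤ) + 1 ≤ q
  · have := Groth.Agent.H45.isIso_homologyMap_truncGEπ ω (-(n : ℤ) + 1) q hq
    let e : Dual.HD A ω q ≃ₗ[A] Dual.HD A ((TStructure.t.truncGE (-(n : ℤ) + 1)).obj ω) q :=
      (asIso ((homologyFunctor (ModuleCat.{u} A) q).map
        ((TStructure.t.truncGEπ (-(n : ℤ) + 1)).app ω))).toLinearEquiv
    haveI := subsingleton_T_HD_of_hasSk hω hN n hd k hk hS q (by omega) i hi
    exact (congr ω (i + q) e).toEquiv.subsingleton
  · have hz : IsZero ((homologyFunctor (ModuleCat.{u} A) q).obj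
        ((TStructure.t.truncGE (-(n : ℤ) + 1)).obj ω)) :=
      isZero_of_isGE _ (-(n : ℤ) + 1) q (by lia)
    haveI : Subsingleton (Dual.HD A ((TStructure.t.truncGE (-(n : ℤ) + 1)).obj ω) q) :=
      ModuleCat.subsingleton_of_isZero hz
    exact subsingleton_of_subsingleton ω (i + q)

include hω hN hd in
/-- the core: endomorphisms and `Ext^1` of `τ_{≤ -n} ω` -/
theorem truncLT_end (k : ℕ) (hk : 2 ≤ k) (hS : LocCoh.HasSk k A A) :
    Function.Bijective
      (fun r : A => r • 𝟙 ((TStructure.t.truncLT (-(n : ℤ) + 1)).obj ω)) ∧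
    (3 ≤ k → Subsingleton ((TStructure.t.truncLT (-(n : ℤ) + 1)).obj ω ⟶
      ((TStructure.t.truncLT (-(n : ℤ) + 1)).obj ω)⟦(1 : ℤ)⟧)) := by
  haveI := isLE_of_norm hN
  haveI := isGE_of_norm hN n hd
  obtain ⟨m, hm⟩ : ∃ m : ℤ, m = -(n : ℤ) + 1 := ⟨_, rfl⟩
  rw [← hm]
  have hT := TStructure.t.triangleLTGE_distinguished m ω
  have hZi : ∀ i : ℤ, i < k → Subsingleton ((TStructure.t.truncGE m).obj ω ⟶ ω⟦i⟧) := by
    intro i hi
    rw [hm]
    exact subsingleton_truncGE_hom hω hN n hd k hk hS i hi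
  have hZ0 : Subsingleton ((TStructure.t.truncGE m).obj ω ⟶ ω) := by
    have := hZi 0 (by omega)
    let e : ω⟦(0 : ℤ)⟧ ≅ ω := (shiftFunctorZero (Dual.D A) ℤ).app ω
    refine ⟨fun x y => ?_⟩
    have hx : x = (x ≫ e.inv) ≫ e.hom := by simp
    have hy : y = (y ≫ e.inv) ≫ e.hom := by simp
    rw [hx, hy, Subsingleton.elim (x ≫ e.inv) (y ≫ e.inv)]
  have hZ1 : Subsingleton ((TStructure.t.truncGE m).obj ω ⟶ ω⟦(1 : ℤ)⟧) := hZi 1 (by omega)
  have hXZ : Subsingleton ((TStructure.t.truncLT m).obj ω ⟶ (TStructure.t.truncGE m).obj ω) := by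
    refine ⟨fun x y => ?_⟩
    rw [TStructure.t.zero_of_isLE_of_isGE x (m - 1) m (by omega) inferInstance inferInstance,
      TStructure.t.zero_of_isLE_of_isGE y (m - 1) m (by omega) inferInstance inferInstance]
  have hXZ' : Subsingleton (((TStructure.t.truncLT m).obj ω)⟦(1 : ℤ)⟧ ⟶
      (TStructure.t.truncGE m).obj ω) := by
    refine ⟨fun x y => ?_⟩
    have h1' : (((TStructure.t.truncLT m).obj ω)⟦(1 : ℤ)⟧).IsLE (m - 2) :=
      TStructure.t.isLE_shift ((TStructure.t.truncLT m).obj ω) (m - 1) 1 (m - 2) (by omega)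
    rw [TStructure.t.zero_of_isLE_of_isGE x (m - 2) m (by omega) h1' inferInstance,
      TStructure.t.zero_of_isLE_of_isGE y (m - 2) m (by omega) h1' inferInstance]
  refine ⟨?_, fun hk3 => ?_⟩
  · exact Groth.Agent.H2.TriangleHom.end_obj₁_bijective (R := A) _ hT hω.toEnd_bijective hZ0 hZ1 hXZ'
  · have hZ2 : Subsingleton ((TStructure.t.truncGE m).obj ω ⟶ (ω⟦(1 : ℤ)⟧)⟦(1 : ℤ)⟧) := by
      have := hZi 2 (by omega)
      let e : ω⟦(2 : ℤ)⟧ ≅ (ω⟦(1 : ℤ)⟧)⟦(1 : ℤ)⟧ :=
        (shiftFunctorAdd' (Dual.D A) (1 : ℤ) 1 2 (by omega)).app ω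
      refine ⟨fun x y => ?_⟩
      have hx : x = (x ≫ e.inv) ≫ e.hom := by simp
      have hy : y = (y ≫ e.inv) ≫ e.hom := by simp
      rw [hx, hy, Subsingleton.elim (x ≫ e.inv) (y ≫ e.inv)]
    have hself : Subsingleton (ω ⟶ ω⟦(1 : ℤ)⟧) := hω.ext_self_subsingleton 1 (by omega)
    exact Groth.Agent.H2.TriangleHom.subsingleton_obj₁_shift _ hT hself hZ2 hXZ

include hN hd in
/-- `τ_{≤ -n} ω ≅ K[n]` with `K = H^{-n}(ω)` -/
theorem exists_truncLT_iso :
    Nonempty ((TStructure.t.truncLT (-(n : ℤ) + 1)).obj ω ≅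
      (DerivedCategory.singleFunctor (ModuleCat.{u} A) (-(n : ℤ))).obj
        ((homologyFunctor (ModuleCat.{u} A) (-(n : ℤ))).obj ω)) := by
  haveI := isGE_of_norm hN n hd
  have hLE : ((TStructure.t.truncLT (-(n : ℤ) + 1)).obj ω).IsLE (-(n : ℤ)) := inferInstance
  obtain ⟨M, ⟨e₁⟩⟩ := exists_iso_singleFunctor_obj_of_isGE_of_isLE
    ((TStructure.t.truncLT (-(n : ℤ) + 1)).obj ω) (-(n : ℤ))
  have := Groth.Agent.H45.isIso_homologyMap_truncLTι ω (-(n : ℤ) + 1) (-(n : ℤ)) (by omega)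
  have eM : (homologyFunctor (ModuleCat.{u} A) (-(n : ℤ))).obj ω ≅ M :=
    (asIso ((homologyFunctor (ModuleCat.{u} A) (-(n : ℤ))).map
      ((TStructure.t.truncLTι (-(n : ℤ) + 1)).app ω))).symm ≪≫
      (homologyFunctor (ModuleCat.{u} A) (-(n : ℤ))).mapIso e₁ ≪≫
      (singleFunctorCompHomologyFunctorIso (ModuleCat.{u} A) (-(n : ℤ))).app M
  exact ⟨e₁ ≪≫ (DerivedCategory.singleFunctor (ModuleCat.{u} A) (-(n : ℤ))).mapIso eM.symm⟩

include hω hN hd in
theorem dualizingModule_end (k : ℕ) (hk : 2 ≤ k) (hS : LocCoh.HasSk k A A) :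
    Function.Bijective (fun r : A => r • (LinearMap.id :
      Dual.HD A ω (-(n : ℤ)) →ₗ[A] Dual.HD A ω (-(n : ℤ)))) ∧
    (3 ≤ k → Subsingleton (Dual.inD A (Dual.HD A ω (-(n : ℤ))) ⟶
      (Dual.inD A (Dual.HD A ω (-(n : ℤ))))⟦(1 : ℤ)⟧)) := by
  obtain ⟨h1, h2⟩ := truncLT_end hω hN n hd k hk hS
  obtain ⟨e⟩ := exists_truncLT_iso hN n hd
  obtain ⟨KM, hKM⟩ : ∃ KM : ModuleCat.{u} A,
      KM = (homologyFunctor (ModuleCat.{u} A) (-(n : ℤ))).obj ω := ⟨_, rfl⟩
  refine ⟨?_, fun hk3 => ?_⟩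
  · have h3 := Groth.Agent.H2.EndTransfer.bijective_smul_id_of_iso (R := A) e h1
    have h4 := Groth.Agent.H2.EndTransfer.bijective_smul_id_of_fullyFaithful (R := A)
      (DerivedCategory.singleFunctor (ModuleCat.{u} A) (-(n : ℤ))) _ h3
    refine ⟨?_, ?_⟩
    · intro r s hrs
      have hrs' : r • (LinearMap.id : Dual.HD A ω (-(n : ℤ)) →ₗ[A] Dual.HD A ω (-(n : ℤ))) =
          s • LinearMap.id := hrs
      apply h4.1
      change r • 𝟙 ((homologyFunctor (ModuleCat.{u} A) (-(n : ℤ))).obj ω) = s • 𝟙 _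
      apply ModuleCat.hom_ext
      rw [ModuleCat.hom_smul, ModuleCat.hom_smul, ModuleCat.hom_id]
      exact hrs'
    · intro φ
      obtain ⟨r, hr⟩ := h4.2 (ModuleCat.ofHom φ)
      refine ⟨r, ?_⟩
      have hr' : r • 𝟙 ((homologyFunctor (ModuleCat.{u} A) (-(n : ℤ))).obj ω) =
          ModuleCat.ofHom φ := hr
      have := congrArg ModuleCat.Hom.hom hr'
      rw [ModuleCat.hom_smul, ModuleCat.hom_id] at this
      exact this
  · have h3 := Groth.Agent.H2.EndTransfer.subsingleton_hom_shift_of_iso e (h2 hk3)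
    let e' := ((DerivedCategory.singleFunctors (ModuleCat.{u} A)).shiftIso (n : ℤ) (-(n : ℤ)) 0
      (by omega)).app ((homologyFunctor (ModuleCat.{u} A) (-(n : ℤ))).obj ω)
    have h4 := Groth.Agent.H2.EndTransfer.subsingleton_hom_shift_of_iso e'.symm h3
    exact Groth.Agent.H2.EndTransfer.subsingleton_hom_shift_of_shift _ (n : ℤ) h4

end

end Groth.Agent.H2.DualCx
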