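import Mathlib
import Groth.Agent.H2.DualCx.DualizingModuleEnd
import Groth.Agent.H2.LCTopSurj
import Groth.Agent.H2.CdTop
import Groth.Agent.H55.CanonS2
import Groth.Agent.H9.LD.HDICompare
import Groth.Agent.H9.LD.NatColim

/-!
# `H^0_I(ω) = 0` implies `cd(I) < dim A`  (helper2)

`A` Noetherian local with normalized dualizing complex `ω`, `d = dim A`, `K = H^{-d}(ω)`.
An element `f` avoiding the top-dimensional minimal primes kills `H^j(ω)` for `j ≠ -d`, so a power
`f^N` kills `τ_{> -d} ω`.  Any `β : Y ⟶ τ_{≤ -d} ω` dying in `ω` is then killed by `f^N`; if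
`H^0_I(ω) = 0` this shows that `f^N` kills `H^d_I(K)`.  But `f^N` is surjective on `H^d_I(K)`,
hence `H^d_I(K) = 0` and `cd(I) < d`.
-/

set_option autoImplicit false
set_option linter.unusedSectionVars false
set_option linter.style.haveILetI false

namespace Groth.Agent.H2.CdDualizing

universe u

open CategoryTheory CategoryTheory.Limits Pretriangulated DerivedCategory Opposite

attribute [local instance] HasDerivedCategory.standard

section Tri

variable {C : Type*} [Category C] [Preadditive C] [HasZeroObject C] [HasShift C ℤ]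
  [∀ n : ℤ, (shiftFunctor C n).Additive] [Pretriangulated C]
  {R : Type*} [CommRing R] [Linear R C] [∀ n : ℤ, (shiftFunctor C n).Linear R]

/-- if `r` kills `obj₃`, then `r` kills every map into `obj₁` which dies in `obj₂` -/
theorem smul_eq_zero_of_comp_mor₁ (T : Triangle C) (hT : T ∈ distTriang C) (r : R)
    (hr : r • 𝟙 T.obj₃ = 0) {Y : C} (β : Y ⟶ T.obj₁) (hβ : β ≫ T.mor₁ = 0) : r • β = 0 := by
  have h0 : β⟦(1 : ℤ)⟧' ≫ T.mor₁⟦(1 : ℤ)⟧' = 0 := by
    rw [← Functor.map_comp, hβ, Functor.map_zero]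
  obtain ⟨g, hg⟩ := Triangle.coyoneda_exact₁ T hT (β⟦(1 : ℤ)⟧') h0
  apply (shiftFunctor C (1 : ℤ)).map_injective
  have h1 : r • (g ≫ T.mor₃) = g ≫ (r • 𝟙 T.obj₃) ≫ T.mor₃ := by
    rw [Linear.smul_comp, Linear.comp_smul, Category.id_comp]
  rw [Functor.map_smul, hg, h1, hr, zero_comp, comp_zero, Functor.map_zero]

end Tri

section General

variable {A : Type u} [CommRing A]

/-- if `r` kills `τ_{≥ m} X`, then `r` kills every map into `τ_{< m} X` which dies in `X` -/
theorem smul_eq_zero_of_comp_truncLTι (X : Dual.D A) (m : ℤ) (r : A)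
    (hr : r • 𝟙 ((TStructure.t.truncGE m).obj X) = 0) {Y : Dual.D A}
    (β : Y ⟶ (TStructure.t.truncLT m).obj X)
    (hβ : β ≫ (TStructure.t.truncLTι m).app X = 0) : r • β = 0 :=
  smul_eq_zero_of_comp_mor₁ ((TStructure.t.triangleLTGE m).obj X)
    (TStructure.t.triangleLTGE_distinguished m X) r hr β hβ

/-- transfer of a uniform annihilator from `Hom(-, K[d])` to `H^d_I(K)` when `H^0_I(W) = 0` -/
theorem smul_H_eq_zero (I : Ideal A) (d : ℕ) (K : ModuleCat.{u} A) (W : Dual.D A)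
    (ι₀ : ((DerivedCategory.singleFunctor (ModuleCat.{u} A) 0).obj K)⟦(d : ℤ)⟧ ⟶ W) (r : A)
    (hr : ∀ (Y : Dual.D A)
      (β : Y ⟶ ((DerivedCategory.singleFunctor (ModuleCat.{u} A) 0).obj K)⟦(d : ℤ)⟧),
      β ≫ ι₀ = 0 → r • β = 0)
    (h0 : Subsingleton (Dual2.HDI A I W 0)) (x : (localCohomology I d).obj K) : r • x = 0 := by
  obtain ⟨n, α, rfl⟩ := Groth.Agent.H9.LD.cmpLeg_surjective I d K x
  let z : (Groth.Agent.H9.RG.FD I 0 W).obj (op (op n)) :=
    α ≫ ι₀ ≫ (shiftFunctorZero (Dual.D A) ℤ).inv.app W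
  have hz : (colimit.ι (Groth.Agent.H9.RG.FD I 0 W) (op (op n))).hom z = 0 :=
    Subsingleton.elim (h := h0) _ _
  obtain ⟨k, hk, hzk⟩ := Groth.Agent.H9.LD.exists_tr_eq_zero (Groth.Agent.H9.RG.FD I 0 W) n z hz
  have hzk' : (DerivedCategory.singleFunctor (ModuleCat.{u} A) 0).map
      (Groth.Agent.H58.LC.Qmap I hk) ≫ (α ≫ ι₀ ≫ (shiftFunctorZero (Dual.D A) ℤ).inv.app W) = 0 :=
    hzk
  have h1 : ((DerivedCategory.singleFunctor (ModuleCat.{u} A) 0).map
      (Groth.Agent.H58.LC.Qmap I hk) ≫ α) ≫ ι₀ = 0 := by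
    have := congrArg (fun φ => φ ≫ (shiftFunctorZero (Dual.D A) ℤ).hom.app W) hzk'
    simpa using this
  have h2 := hr _ _ h1
  have h3 : (DerivedCategory.singleFunctor (ModuleCat.{u} A) 0).map
      (Groth.Agent.H58.LC.Qmap I hk) ≫ (r • α) = 0 := by
    exact (Linear.comp_smul _ _ _ ((DerivedCategory.singleFunctor (ModuleCat.{u} A) 0).map
      (Groth.Agent.H58.LC.Qmap I hk)) r α).trans h2
  rw [← map_smul, ← Groth.Agent.H9.LD.cmpLeg_trans I d K hk (r • α)]
  exact (congrArg (Groth.Agent.H9.LD.cmpLeg I d K k) h3).trans (map_zero _)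

end General

section Main

open IsLocalRing Groth.Agent.H2.DualCx

variable {A : Type u} [CommRing A] [IsNoetherianRing A] [IsLocalRing A] {ω : Dual.D A}

theorem coheight_eq_of_dim (q : Ideal A) [hq : q.IsPrime] (d : ℕ)
    (hqd : ringKrullDim (A ⧸ q) = d) :
    Order.coheight (⟨q, hq⟩ : PrimeSpectrum A) = (d : ℕ∞) := by
  have h1 := Groth.Agent.H24.coheight_eq_ringKrullDim_quotient (⟨q, hq⟩ : PrimeSpectrum A)
  rw [hqd] at h1
  exact WithBot.coe_injective h1

/-- an element avoiding the top-dimensional minimal primes and killing `H^j(ω)`, `j ≠ -dim A` -/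
theorem exists_avoid_kill (hω : Dual.IsDualizing A ω) (hN : Norm ω) (d : ℕ)
    (hd : ringKrullDim A = d) :
    ∃ f : A, (∀ p ∈ minimalPrimes A, ringKrullDim (A ⧸ p) = d → f ∉ p) ∧
      ∀ j : ℤ, j ≠ -(d : ℤ) → ∀ c : Dual.HD A ω j, f • c = 0 := by
  classical
  let S : Set (Ideal A) := {p | p ∈ minimalPrimes A ∧ ringKrullDim (A ⧸ p) = d}
  have hSfin : S.Finite :=
    (minimalPrimes.finite_of_isNoetherianRing A).subset (fun p hp => hp.1)
  let J : Ideal A := (Finset.Icc (-(d : ℤ) + 1) 0).inf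
    (fun j => Module.annihilator A (Dual.HD A ω j))
  have hJ : ∀ q ∈ S, ¬ J ≤ q := by
    rintro q ⟨hqmin, hqd⟩ hle
    haveI hqp : q.IsPrime := hqmin.1.1
    obtain ⟨j, hj, hjq⟩ := (Ideal.IsPrime.inf_le' hqp).mp hle
    haveI := hω.finite_cohomology j
    have hmem : (⟨q, hqp⟩ : PrimeSpectrum A) ∈ Module.support A (Dual.HD A ω j) :=
      Module.mem_support_iff_of_finite.mpr hjq
    have hcoh := coheight_eq_of_dim q d hqd
    have := (mem_support_HD_iff hN hω.finite_cohomology ⟨q, hqp⟩ hqmin d hcoh j).mp hmem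
    rw [Finset.mem_Icc] at hj
    omega
  obtain ⟨f, hfJ, hfS⟩ := Groth.Agent.H55.CanonS2.exists_mem_forall_notMem J S hSfin
    (fun q hq => hq.1.1.1) hJ
  refine ⟨f, fun p hp hpd => hfS p ⟨hp, hpd⟩, fun j hj c => ?_⟩
  by_cases hj' : j ∈ Finset.Icc (-(d : ℤ) + 1) 0
  · have hle : J ≤ Module.annihilator A (Dual.HD A ω j) :=
      Finset.inf_le (f := fun j => Module.annihilator A (Dual.HD A ω j)) hj'
    exact Module.mem_annihilator.mp (hle hfJ) c
  · rw [Finset.mem_Icc] at hj'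
    haveI : Subsingleton (Dual.HD A ω j) := by
      by_cases h : j < -(d : ℤ)
      · haveI := isGE_of_norm hN d hd
        exact ModuleCat.subsingleton_of_isZero (isZero_of_isGE ω (-(d : ℤ)) j h)
      · haveI := isLE_of_norm hN
        exact ModuleCat.subsingleton_of_isZero (isZero_of_isLE ω 0 j (by omega))
    exact Subsingleton.elim _ _

/-- **Vanishing of `H^0_I(ω)` forces `cd(I) < dim A`.** -/
theorem subsingleton_H_of_subsingleton_HDI (hω : Dual.IsDualizing A ω)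
    (hn : Dual.IsNormalized A ω) (I : Ideal A) (h0 : Subsingleton (Dual2.HDI A I ω 0))
    (M : Type u) [AddCommGroup M] [Module A M] (i : ℕ)
    (hi : ringKrullDim A ≤ (i : WithBot ℕ∞)) : Subsingleton (LocCoh.H I i M) := by
  have hN := norm_of_isDualizing hω hn
  obtain ⟨d, hd⟩ : ∃ d : ℕ, ringKrullDim A = d :=
    ⟨_, Order.krullDim_eq_length_of_finiteDimensionalOrder⟩
  obtain ⟨f, hfS, hfkill⟩ := exists_avoid_kill hω hN d hd
  haveI := isLE_of_norm hN
  haveI := isGE_of_norm hN d hd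
  have hs : ∀ (j : ℤ) (c : Dual.HD A ((TStructure.t.truncGE (-(d : ℤ) + 1)).obj ω) j),
      f • c = 0 := by
    intro j c
    by_cases hq : -(d : ℤ) + 1 ≤ j
    · have := Groth.Agent.H45.isIso_homologyMap_truncGEπ ω (-(d : ℤ) + 1) j hq
      let e : Dual.HD A ω j ≃ₗ[A] Dual.HD A ((TStructure.t.truncGE (-(d : ℤ) + 1)).obj ω) j :=
        (asIso ((homologyFunctor (ModuleCat.{u} A) j).map
          ((TStructure.t.truncGEπ (-(d : ℤ) + 1)).app ω))).toLinearEquiv
      obtain ⟨c', rfl⟩ := e.surjective c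
      rw [← map_smul, hfkill j (by omega) c', map_zero]
    · have hz : IsZero ((homologyFunctor (ModuleCat.{u} A) j).obj
          ((TStructure.t.truncGE (-(d : ℤ) + 1)).obj ω)) :=
        isZero_of_isGE _ (-(d : ℤ) + 1) j (by lia)
      haveI := ModuleCat.subsingleton_of_isZero hz
      exact Subsingleton.elim _ _
  obtain ⟨N, hN0⟩ := exists_pow_smul_id_eq_zero
    ((TStructure.t.truncGE (-(d : ℤ) + 1)).obj ω) (-(d : ℤ) + 1) 0 inferInstance inferInstance f hs
  obtain ⟨e⟩ := exists_truncLT_iso hN d hd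
  obtain ⟨K, hK⟩ : ∃ K : ModuleCat.{u} A,
      K = (homologyFunctor (ModuleCat.{u} A) (-(d : ℤ))).obj ω := ⟨_, rfl⟩
  rw [← hK] at e
  let e' := ((DerivedCategory.singleFunctors (ModuleCat.{u} A)).shiftIso (d : ℤ) (-(d : ℤ)) 0
    (by omega)).app K
  have hkill : ∀ x : (localCohomology I d).obj K, (f ^ N) • x = 0 := by
    intro x
    refine smul_H_eq_zero I d K ω
      (e'.hom ≫ e.inv ≫ (TStructure.t.truncLTι (-(d : ℤ) + 1)).app ω) (f ^ N) ?_ h0 x
    intro Y β hβ
    have h1 : (β ≫ e'.hom ≫ e.inv) ≫ (TStructure.t.truncLTι (-(d : ℤ) + 1)).app ω = 0 := by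
      simpa using hβ
    have h2 := smul_eq_zero_of_comp_truncLTι ω _ (f ^ N) hN0 _ h1
    have h3 : (f ^ N) • β = ((f ^ N) • (β ≫ e'.hom ≫ e.inv)) ≫ e.hom ≫ e'.inv := by
      rw [Linear.smul_comp]
      simp
    rw [h3, h2, zero_comp]
  have hfN : ∀ p ∈ minimalPrimes A, ringKrullDim (A ⧸ p) = d → f ^ N ∉ p :=
    fun p hp hpd h => hfS p hp hpd (hp.1.1.mem_of_pow_mem N h)
  haveI : Module.Finite A (Dual.HD A ω (-(d : ℤ))) := hω.finite_cohomology _
  have hsurj := Groth.Agent.H2.LCTopSurj.smul_surjective I d hd (f ^ N) hfN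
    (Dual.HD A ω (-(d : ℤ)))
  have hvan : Subsingleton (LocCoh.H I d (Dual.HD A ω (-(d : ℤ)))) := by
    refine ⟨fun x y => ?_⟩
    obtain ⟨x', rfl⟩ := hsurj x
    obtain ⟨y', rfl⟩ := hsurj y
    subst hK
    show f ^ N • x' = f ^ N • y'
    rw [hkill x', hkill y']
  have hsupp : ∀ p ∈ minimalPrimes A, ringKrullDim (A ⧸ p) = d → ∀ hp : p.IsPrime,
      (⟨p, hp⟩ : PrimeSpectrum A) ∈ Module.support A (Dual.HD A ω (-(d : ℤ))) := by
    intro p hp hpd hpp
    have hcoh := coheight_eq_of_dim p d hpd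
    exact (mem_support_HD_iff hN hω.finite_cohomology ⟨p, hpp⟩ hp d hcoh _).mpr rfl
  have hdi : d ≤ i := by
    rw [hd] at hi
    exact_mod_cast hi
  exact Groth.Agent.H2.CdTop.subsingleton_H I d hd (Dual.HD A ω (-(d : ℤ))) hsupp hvan M i hdi

end Main

end Groth.Agent.H2.CdDualizing
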