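import Mathlib
import Groth.Agent.H2.DualCx.DepthSuppGen
import Groth.Agent.H28.ExtFinite2

/-!
# A Noetherian ring with a dualizing module is Cohen–Macaulay  (helper2)
-/

set_option autoImplicit false
set_option linter.unusedSectionVars false
set_option linter.style.haveILetI false

namespace Groth.Agent.H2.DualCx

universe u

open CategoryTheory CategoryTheory.Limits Pretriangulated DerivedCategory IsLocalRing

attribute [local instance] HasDerivedCategory.standard

section

variable {A : Type u} [CommRing A]

/-- `Hom(M[0], W[0][j]) = 0` for `j < 0` -/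
theorem subsingleton_T_single_of_neg (W : Type u) [AddCommGroup W] [Module A W]
    (M : Type u) [AddCommGroup M] [Module A M] (j : ℤ) (hj : j < 0) :
    Subsingleton (T (Dual.inD A W) j M) := by
  haveI : ((Dual.inD A W)⟦j⟧).IsGE (0 - j) :=
    Groth.Agent.H28.ExtFinite.isGE_shift' (Dual.inD A W) 0 j
  exact Groth.Agent.H28.ExtFinite.subsingleton_hom_of_isLE_of_isGE (Dual.inD A M)
    ((Dual.inD A W)⟦j⟧) 0 (0 - j) (by omega)

/-- `H^k(W[0]) = 0` for `k ≠ 0` -/
theorem subsingleton_HD_single (W : Type u) [AddCommGroup W] [Module A W] (k : ℤ) (hk : k ≠ 0) :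
    Subsingleton (Dual.HD A (Dual.inD A W) k) := by
  have hz : IsZero ((DerivedCategory.homologyFunctor (ModuleCat.{u} A) k).obj (Dual.inD A W)) := by
    rcases lt_or_gt_of_ne hk with h | h
    · exact (DerivedCategory.isGE_iff (Dual.inD A W) 0).mp inferInstance k h
    · exact (DerivedCategory.isLE_iff (Dual.inD A W) 0).mp inferInstance k h
  exact ModuleCat.subsingleton_of_isZero hz

/-- `H^0(W[0]) ≃ W` -/
noncomputable def HDSingleEquiv (W : Type u) [AddCommGroup W] [Module A W] :
    Dual.HD A (Dual.inD A W) 0 ≃ₗ[A] W :=
  ((singleFunctorCompHomologyFunctorIso (ModuleCat.{u} A) 0).app (ModuleCat.of A W)).toLinearEquiv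

/-- `A_p` as a localized module -/
noncomputable def localizedSelfEquiv (p : Ideal A) [p.IsPrime] :
    LocalizedModule p.primeCompl A ≃ₗ[Localization.AtPrime p] Localization.AtPrime p :=
  (IsLocalizedModule.isBaseChange p.primeCompl (Localization.AtPrime p)
      (LocalizedModule.mkLinearMap p.primeCompl A)).equiv.symm.trans
    (TensorProduct.AlgebraTensorModule.rid A (Localization.AtPrime p) (Localization.AtPrime p))

end

/-- **a Noetherian ring with a dualizing module is Cohen–Macaulay** -/
theorem isCohenMacaulayRing_of_isDualizing_single (A : Type u) [CommRing A] [IsNoetherianRing A]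
    (W : Type u) [AddCommGroup W] [Module A W] [Module.Finite A W]
    (h : Dual.IsDualizing A (Dual.inD A W)) : LocCoh.IsCohenMacaulayRing A := by
  refine { isCohenMacaulayLocalRing_localization := fun p hp => ?_ }
  let P : PrimeSpectrum A := ⟨p, hp⟩
  set ω : Dual.D A := Dual.inD A W with hωdef
  have hF1 : ∀ (M : Type u) [AddCommGroup M] [Module A M] (j : ℤ), j < 0 →
      Subsingleton (T ω j M) := fun M _ _ j hj => subsingleton_T_single_of_neg W M j hj
  -- `P ∈ Supp T^0(A)`
  have hann : Module.annihilator A W = ⊥ := by
    rw [eq_bot_iff]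
    intro a ha
    rw [Module.mem_annihilator] at ha
    have h0 : a • 𝟙 (ModuleCat.of A W) = 0 := by
      apply ModuleCat.hom_ext
      apply LinearMap.ext
      intro w
      exact ha w
    have h1 : a • 𝟙 ω = 0 := by
      have : a • 𝟙 ω = (DerivedCategory.singleFunctor (ModuleCat.{u} A) 0).map
          (a • 𝟙 (ModuleCat.of A W)) := by
        rw [Functor.map_smul, CategoryTheory.Functor.map_id]
      rw [this, h0, Functor.map_zero]
    have h2 : a = 0 := by
      apply h.toEnd_bijective.1
      change a • 𝟙 ω = (0 : A) • 𝟙 ω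
      rw [h1, zero_smul]
    rw [h2]
    exact Submodule.zero_mem _
  have hPW : P ∈ Module.support A W := by
    rw [Module.support_eq_zeroLocus, hann]
    simp
  haveI := h.finite_cohomology 0
  have hP0 : P ∈ Module.support A (T ω 0 A) := by
    rw [← support_HD_eq ω 0, (HDSingleEquiv W).support_eq]
    exact hPW
  have hTk : ∀ k : ℤ, k ≠ 0 → P ∉ Module.support A (T ω k A) := by
    intro k hk hp
    haveI := subsingleton_HD_single (A := A) W k hk
    haveI : Subsingleton (T ω k A) := (subsingleton_T_self_iff ω k).mpr inferInstance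
    rw [Module.support_eq_empty] at hp
    exact absurd hp (Set.notMem_empty P)
  obtain ⟨n, hn2, hn1⟩ := exists_top_degree h P
  have hfin := finT_of_isDualizing' h
  have hgen := depth_support_gen hfin P n hn1 hn2
  -- the depth of `A_p`
  have hdepth : LocCoh.depth (Localization.AtPrime p) (LocalizedModule p.primeCompl A) =
      ((n.toNat : ℕ) : ℕ∞) ∧ 0 ≤ n := by
    cases hδ : LocCoh.depth (Localization.AtPrime p) (LocalizedModule p.primeCompl A) with
    | top =>
      exfalso
      have := (hgen (n.toNat + 1) A).1 (by rw [hδ]; exact le_top) 0 (by push_cast; omega)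
      exact this hP0
    | coe r =>
      have h1 := (hgen r A).2 hδ
      have h2 : n - (r : ℤ) = 0 := by
        by_contra hne
        exact hTk _ hne h1
      have : n.toNat = r := by omega
      exact ⟨by rw [this], by omega⟩
  obtain ⟨hdepth, hn0⟩ := hdepth
  have hdepth' : LocCoh.depth (Localization.AtPrime p) (Localization.AtPrime p) =
      ((n.toNat : ℕ) : ℕ∞) := by
    rw [← hdepth]
  -- the height
  have hht : Order.height P ≤ ((n - 0).toNat : ℕ∞) := height_le_top_degree h 0 hF1 P n hn1
  have hdim : ringKrullDim (Localization.AtPrime p) = ((Order.height P : ℕ∞) : WithBot ℕ∞) := by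
    rw [IsLocalization.AtPrime.ringKrullDim_eq_height p (Localization.AtPrime p),
      ← PrimeSpectrum.height_eq_orderHeight P]
  have hle := Groth.Agent.H72.DepthCM.depth_le_supportDim (A := Localization.AtPrime p)
    (Localization.AtPrime p)
  rw [Module.supportDim_self_eq_ringKrullDim, hdim, hdepth'] at hle
  refine { supportDim_eq_depth := ?_ }
  rw [Module.supportDim_self_eq_ringKrullDim, hdim, hdepth']
  apply le_antisymm
  · rw [sub_zero] at hht
    exact WithBot.coe_le_coe.mpr hht
  · exact hle

end Groth.Agent.H2.DualCx
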