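import Mathlib
import Groth.Agent.H2.DualCx.PLocalSk
import Groth.Agent.H2.DualCx.LocalCM
import Groth.Agent.H26.DepthInf
import Groth.Agent.H24.Catenary

/-!
# Ordinary dualizing complexes  (helper2)

A dualizing complex `ω` over a Noetherian ring with `n(Q) = 0` at all minimal primes `Q`
("ordinary": the codimension function is `p ↦ ht p`).  Then `H^i(ω) = 0` for `i < 0`,
`L = H^0(ω)` satisfies `(S_2)`, more precisely `depth L_p ≥ min(2, ht p)`; over a local ring, `A`
is equidimensional and `ω[dim A]` is normalized.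
-/

set_option autoImplicit false
set_option linter.unusedSectionVars false
set_option linter.style.haveILetI false

namespace Groth.Agent.H2.DualCx

universe u

open CategoryTheory CategoryTheory.Limits Pretriangulated DerivedCategory

attribute [local instance] HasDerivedCategory.standard

section Ordinary

variable {A : Type u} [CommRing A] [IsNoetherianRing A] {ω : Dual.D A}
  (hω : Dual.IsDualizing A ω)
  (H0 : ∀ Q : PrimeSpectrum A, Q.asIdeal ∈ minimalPrimes A → topDeg hω Q = 0)

theorem exists_minimalPrime_le (q : PrimeSpectrum A) :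
    ∃ Q : PrimeSpectrum A, Q.asIdeal ∈ minimalPrimes A ∧ Q ≤ q := by
  obtain ⟨Qm, hQm, hle⟩ := Ideal.exists_minimalPrimes_le (I := (⊥ : Ideal A))
    (J := q.asIdeal) bot_le
  exact ⟨⟨Qm, hQm.1.1⟩, hQm, hle⟩

theorem exists_height_eq_nat (p : PrimeSpectrum A) : ∃ h : ℕ, Order.height p = h := by
  have h1 : p.asIdeal.height ≠ ⊤ := Ideal.height_ne_top p.2.ne_top
  rw [PrimeSpectrum.height_eq_orderHeight] at h1
  obtain ⟨h, hh⟩ := ENat.ne_top_iff_exists.mp h1
  exact ⟨h, hh.symm⟩

include H0 in
theorem topDeg_nonneg (q : PrimeSpectrum A) : 0 ≤ topDeg hω q := by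
  obtain ⟨Q, hQ, hle⟩ := exists_minimalPrime_le q
  have := topDeg_mono hω hle
  rw [H0 Q hQ] at this
  exact this

include H0 in
/-- the codimension function of an ordinary dualizing complex is the height -/
theorem topDeg_eq_height (p : PrimeSpectrum A) (h : ℕ) (hh : Order.height p = h) :
    topDeg hω p = h := by
  apply le_antisymm
  · obtain ⟨Q, hQ, hle⟩ := exists_minimalPrime_le p
    have h0 : p ∈ Module.support A (T ω 0 (A ⧸ Q.asIdeal)) := by
      have := topDeg_mem hω Q
      rw [H0 Q hQ] at this
      exact Module.mem_support_mono hle this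
    have hnn := topDeg_nonneg hω H0 p
    obtain ⟨l, hl1, hl2, hl3⟩ := exists_series_of_mem_support_T_quot hω p
      (topDeg hω p).toNat Q 0 (by omega) h0
    have h1 : (l.length : ℕ∞) ≤ Order.height l.last := Order.length_le_height_last
    rw [hl1, hl3, hh] at h1
    have h2 : (topDeg hω p).toNat ≤ h := by exact_mod_cast h1
    omega
  · obtain ⟨l, hl1, hl2⟩ := Order.exists_series_of_height_eq_coe p hh
    have h1 := topDeg_series hω l
    rw [hl1, hl2] at h1
    have h2 := topDeg_nonneg hω H0 l.head
    omega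

/-- `dim (A_p)_p ≤ ht p` for any module -/
theorem supportDim_localizedModule_le_height (M : Type u) [AddCommGroup M] [Module A M]
    (p : PrimeSpectrum A) :
    Module.supportDim (Localization.AtPrime p.asIdeal)
      (LocalizedModule p.asIdeal.primeCompl M) ≤ ((Order.height p : ℕ∞) : WithBot ℕ∞) := by
  refine (Module.supportDim_le_ringKrullDim _ _).trans ?_
  rw [IsLocalization.AtPrime.ringKrullDim_eq_height p.asIdeal (Localization.AtPrime p.asIdeal),
    PrimeSpectrum.height_eq_orderHeight]

include H0 in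
/-- `H^q(ω) = 0` for `q < 0`, `P`-locally -/
theorem nonneg_of_mem_support_HD (p : PrimeSpectrum A) (q : ℤ)
    (hp : p ∈ Module.support A (Dual.HD A ω q)) : 0 ≤ q := by
  haveI := hω.finite_cohomology q
  rw [support_HD_eq] at hp
  obtain ⟨h, hh⟩ := exists_height_eq_nat p
  have h1 := le_supportDim_of_mem_support_T hω A p q hp
  have h2 := h1.trans (supportDim_localizedModule_le_height A p)
  rw [hh, topDeg_eq_height hω H0 p h hh] at h2
  have h3 : ((h : ℤ) - q).toNat ≤ h := by exact_mod_cast h2
  omega

include H0 in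
/-- `depth L_p ≥ min(2, ht p)` for `L = H^0(ω)` -/
theorem min_two_height_le_depth_HD_zero (p : PrimeSpectrum A) (h : ℕ)
    (hh : Order.height p = h) :
    ((min 2 h : ℕ) : ℕ∞) ≤ LocCoh.depth (Localization.AtPrime p.asIdeal)
      (LocalizedModule p.asIdeal.primeCompl (Dual.HD A ω 0)) := by
  have hfinH := hω.finite_cohomology
  haveI := hfinH 0
  by_cases hpL : p ∈ Module.support A (Dual.HD A ω 0)
  · obtain ⟨e, r, he, hr, hre, hmin, hmax, hall⟩ := exists_depth_dim hω (Dual.HD A ω 0) p hpL
    rw [hr]
    by_contra hcon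
    have hcon' : r < min 2 h := by
      have : ¬ (min 2 h ≤ r) := by
        intro h'
        apply hcon
        exact_mod_cast h'
      omega
    have hn := topDeg_eq_height hω H0 p h hh
    obtain ⟨m, b, hGE, hLE⟩ := exists_isGE_isLE hω
    have hk0 : topDeg hω p - (r : ℤ) ≠ 0 := by
      have : r < h := lt_of_lt_of_le hcon' (min_le_right _ _)
      omega
    have hbot := notMem_support_T_bottom_local ω p m 0 b hGE hLE hfinH
      (fun q hq hmem => by
        have := nonneg_of_mem_support_HD hω H0 p q hmem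
        omega)
      (topDeg hω p - (r : ℤ))
      (PL_of_subsingleton (hω.ext_self_subsingleton _ hk0))
      (fun q hq => by
        haveI := hfinH q
        have : r < 2 := lt_of_lt_of_le hcon' (min_le_left _ _)
        exact topDeg_max hω p _ _ (by omega))
    rw [add_zero] at hbot
    exact hbot hmax
  · have hsub : Subsingleton (LocalizedModule p.asIdeal.primeCompl (Dual.HD A ω 0)) := by
      rw [Module.mem_support_iff] at hpL
      exact not_nontrivial_iff_subsingleton.mp hpL
    have : LocCoh.depth (Localization.AtPrime p.asIdeal)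
        (LocalizedModule p.asIdeal.primeCompl (Dual.HD A ω 0)) = ⊤ := by
      unfold LocCoh.depth
      apply Groth.Agent.H15.idealDepth_eq_top_of_smul_top_eq
      exact Subsingleton.elim _ _
    rw [this]
    exact le_top

include H0 in
/-- `L = H^0(ω)` satisfies `(S_2)` -/
theorem hasSk_two_HD_zero : LocCoh.HasSk 2 A (Dual.HD A ω 0) := by
  intro p hp
  let P : PrimeSpectrum A := ⟨p, hp⟩
  obtain ⟨h, hh⟩ := exists_height_eq_nat P
  have h1 := min_two_height_le_depth_HD_zero hω H0 P h hh
  have h2 := supportDim_localizedModule_le_height (Dual.HD A ω 0) P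
  rw [hh] at h2
  calc min ((2 : ℕ) : WithBot ℕ∞) (Module.supportDim (Localization.AtPrime p)
        (LocalizedModule p.primeCompl (Dual.HD A ω 0)))
      ≤ min ((2 : ℕ) : WithBot ℕ∞) (((h : ℕ) : ℕ∞) : WithBot ℕ∞) := min_le_min le_rfl h2
    _ = ((((min 2 h : ℕ)) : ℕ∞) : WithBot ℕ∞) := by
      have e2 : ((2 : ℕ) : WithBot ℕ∞) = (((2 : ℕ) : ℕ∞) : WithBot ℕ∞) := rfl
      rw [e2]
      rcases le_total 2 h with h' | h'
      · rw [min_eq_left h', min_eq_left (WithBot.coe_le_coe.mpr (Nat.cast_le.mpr h'))]
      · rw [min_eq_right h', min_eq_right (WithBot.coe_le_coe.mpr (Nat.cast_le.mpr h'))]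
    _ ≤ _ := WithBot.coe_le_coe.mpr h1

include H0 in
/-- `depth_J L ≥ 2` if `ht J ≥ 2` -/
theorem two_le_idealDepth_HD_zero (J : Ideal A) (hJ : 2 ≤ J.height) :
    2 ≤ LocCoh.idealDepth J (Dual.HD A ω 0) := by
  haveI := hω.finite_cohomology 0
  rw [Groth.Agent.H26.idealDepth_eq_iInf_depth_localization J (Dual.HD A ω 0)]
  refine le_iInf₂ fun p hp => ?_
  obtain ⟨h, hh⟩ := exists_height_eq_nat p
  have h1 := min_two_height_le_depth_HD_zero hω H0 p h hh
  have h2 : J.height ≤ p.asIdeal.height := Ideal.height_mono hp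
  rw [PrimeSpectrum.height_eq_orderHeight, hh] at h2
  have h3 : (2 : ℕ∞) ≤ (h : ℕ∞) := hJ.trans h2
  have h4 : 2 ≤ h := by exact_mod_cast h3
  rw [min_eq_left h4] at h1
  exact_mod_cast h1

end Ordinary

section Local

variable {A : Type u} [CommRing A] [IsNoetherianRing A] [IsLocalRing A] {ω : Dual.D A}
  (hω : Dual.IsDualizing A ω)
  (H0 : ∀ Q : PrimeSpectrum A, Q.asIdeal ∈ minimalPrimes A → topDeg hω Q = 0)

include H0 in
/-- `n(m) = dim A` -/
theorem topDeg_closedPoint (n : ℕ) (hd : ringKrullDim A = n) :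
    topDeg hω (IsLocalRing.closedPoint A) = n := by
  apply topDeg_eq_height hω H0
  have h1 : (IsLocalRing.maximalIdeal A).height = (n : ℕ∞) := by
    have := IsLocalRing.maximalIdeal_height_eq_ringKrullDim (R := A)
    rw [hd] at this
    exact_mod_cast this
  rw [← PrimeSpectrum.height_eq_orderHeight]
  exact h1

include H0 in
/-- `A` is equidimensional -/
theorem isEquidim_of_ordinary (n : ℕ) (hd : ringKrullDim A = n) : EGA4.IsEquidim A := by
  intro q hq
  let Q : PrimeSpectrum A := ⟨q, hq.1.1⟩
  have hQ0 := H0 Q hq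
  have hm := topDeg_closedPoint hω H0 n hd
  have hQm : Q ≤ IsLocalRing.closedPoint A := IsLocalRing.le_maximalIdeal Q.2.ne_top
  rw [hd, ← Groth.Agent.H24.coheight_eq_ringKrullDim_quotient Q]
  have hcoh : Order.coheight Q = (n : ℕ∞) := by
    apply le_antisymm
    · -- chains from `Q` have length `≤ n(m) - n(Q)`
      rw [Order.coheight_le_iff']
      intro l hl
      have h1 := topDeg_series hω l
      rw [hl, hQ0] at h1
      have h2 : l.last ≤ IsLocalRing.closedPoint A := IsLocalRing.le_maximalIdeal l.last.2.ne_top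
      have h3 := topDeg_mono hω h2
      rw [hm] at h3
      have : l.length ≤ n := by omega
      exact_mod_cast this
    · have h0 : IsLocalRing.closedPoint A ∈ Module.support A (T ω 0 (A ⧸ Q.asIdeal)) := by
        have := topDeg_mem hω Q
        rw [hQ0] at this
        exact Module.mem_support_mono hQm this
      obtain ⟨l, hl1, hl2, hl3⟩ := exists_series_of_mem_support_T_quot hω
        (IsLocalRing.closedPoint A) n Q 0 (by rw [hm]; omega) h0
      have h1 : (l.length : ℕ∞) ≤ Order.coheight l.head := Order.length_le_coheight_head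
      rw [hl1, hl2] at h1
      exact h1
  rw [hcoh]
  rfl

include H0 in
/-- `ω[dim A]` is normalized -/
theorem isNormalized_shift_of_ordinary (n : ℕ) (hd : ringKrullDim A = n) :
    Dual.IsNormalized A (ω⟦(n : ℤ)⟧) := by
  intro i hi
  have hm := topDeg_closedPoint hω H0 n hd
  have hfin := finT'_of_isDualizing hω
  have h1 : Subsingleton (T ω ((n : ℤ) + i) (A ⧸ (IsLocalRing.closedPoint A).asIdeal)) := by
    by_contra hcon
    rw [not_subsingleton_iff_nontrivial] at hcon
    haveI := hfin ((n : ℤ) + i) (A ⧸ (IsLocalRing.closedPoint A).asIdeal)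
    have h2 : IsLocalRing.closedPoint A ∈
        Module.support A (T ω ((n : ℤ) + i) (A ⧸ (IsLocalRing.closedPoint A).asIdeal)) :=
      IsLocalRing.closedPoint_mem_support A _
    have := (mem_support_T_quot_self_iff' hω (IsLocalRing.closedPoint A) _).mp h2
    omega
  have h2 : Subsingleton (T ω ((n : ℤ) + i) (IsLocalRing.ResidueField A)) := h1
  exact (TShiftEquiv ω (n : ℤ) i (IsLocalRing.ResidueField A)).toEquiv.subsingleton

end Local

end Groth.Agent.H2.DualCx
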