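import Mathlib
import Groth.Agent.H2.DualCx.PLocalSk

/-!
# `(S_k)` for equidimensional modules, non-local form  (helper2)

For a Noetherian ring `A` with a dualizing complex `ω` which is normalized at every maximal ideal:
`n(q) = -dim A/q` (`exists_coheight_eq_of_normalized`), and for a finite module `M` all of whose
minimal primes `Q` have `dim A/Q = δ`, `M` satisfies `(S_k)` iff `dim Supp Ext^j(M, ω) ≤ -j-k` for
all `j ≠ -δ` (`hasSk_iff_of_equidim_gen`).
-/

set_option autoImplicit false
set_option linter.unusedSectionVars false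
set_option linter.style.haveILetI false

namespace Groth.Agent.H2.DualCx

universe u

open CategoryTheory CategoryTheory.Limits Pretriangulated DerivedCategory

attribute [local instance] HasDerivedCategory.standard

section Gen

variable {A : Type u} [CommRing A] [IsNoetherianRing A] {ω : Dual.D A}
  (hω : Dual.IsDualizing A ω)

/-- if `ω` is normalized at every maximal ideal then `n(q) = -dim A/q` -/
theorem exists_coheight_eq_of_normalized
    (hnorm : ∀ (m : Ideal A) (_ : m.IsMaximal) (i : ℤ), i ≠ 0 →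
      Subsingleton (Dual.inD A (A ⧸ m) ⟶ ω⟦i⟧)) (q : PrimeSpectrum A) :
    ∃ c : ℕ, Order.coheight q = c ∧ topDeg hω q = -(c : ℤ) := by
  have hmax : ∀ m : PrimeSpectrum A, m.asIdeal.IsMaximal → topDeg hω m = 0 := by
    intro m hm
    by_contra hne
    haveI : Subsingleton (T ω (topDeg hω m) (A ⧸ m.asIdeal)) := hnorm m.asIdeal hm _ hne
    have := topDeg_mem hω m
    rw [Module.support_eq_empty] at this
    exact absurd this (Set.notMem_empty m)
  have hle0 : ∀ p : PrimeSpectrum A, topDeg hω p ≤ 0 := by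
    intro p
    obtain ⟨m, hm, hpm⟩ := Ideal.exists_le_maximal p.asIdeal p.2.ne_top
    have := topDeg_mono hω (q := p) (q' := ⟨m, hm.isPrime⟩) hpm
    rw [hmax ⟨m, hm.isPrime⟩ hm] at this
    exact this
  have hdim := ringKrullDim_lt_top_of_isDualizing hω
  have hcfin : Order.coheight q ≠ ⊤ := by
    intro htop
    have h1 := Order.coheight_le_krullDim q
    rw [htop] at h1
    have h2 : ringKrullDim A = ⊤ := top_le_iff.mp h1
    rw [h2] at hdim
    exact lt_irrefl _ hdim
  obtain ⟨c, hc⟩ := ENat.ne_top_iff_exists.mp hcfin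
  refine ⟨c, hc.symm, ?_⟩
  apply le_antisymm
  · obtain ⟨l, hl1, hl2⟩ := Order.exists_series_of_coheight_eq_coe q hc.symm
    have h1 := topDeg_series hω l
    rw [hl1, hl2] at h1
    have h2 := hle0 l.last
    omega
  · obtain ⟨m, hm, hqm⟩ := Ideal.exists_le_maximal q.asIdeal q.2.ne_top
    let m' : PrimeSpectrum A := ⟨m, hm.isPrime⟩
    have h0 : m' ∈ Module.support A (T ω (topDeg hω q) (A ⧸ q.asIdeal)) :=
      Module.mem_support_mono (show q ≤ m' from hqm) (topDeg_mem hω q)
    have hq0 := hle0 q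
    obtain ⟨l, hl1, hl2, hl3⟩ := exists_series_of_mem_support_T_quot hω m'
      (-(topDeg hω q)).toNat q (topDeg hω q) (by rw [hmax m' hm]; omega) h0
    have h1 : (l.length : ℕ∞) ≤ Order.coheight l.head := Order.length_le_coheight_head
    rw [hl1, hl2, ← hc] at h1
    have h2 : (-(topDeg hω q)).toNat ≤ c := by exact_mod_cast h1
    omega

include hω in
/-- lower bound for the degrees of the non-vanishing Ext modules -/
theorem neg_le_of_mem_support_T_gen
    (hcoh : ∀ q : PrimeSpectrum A, ∃ c : ℕ, Order.coheight q = c ∧ topDeg hω q = -(c : ℤ))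
    (M : Type u) [AddCommGroup M] [Module A M] [Module.Finite A M] (δ : ℕ)
    (hδ : ∀ Q ∈ Module.support A M, (∀ p ∈ Module.support A M, p ≤ Q → p = Q) →
      Order.coheight Q = δ) (p : PrimeSpectrum A) (j : ℤ)
    (hp : p ∈ Module.support A (T ω j M)) : -(δ : ℤ) ≤ j := by
  obtain ⟨q, hq, hann⟩ := exists_prime_of_mem_support_T ω j p M hp
  have hqM : q ∈ Module.support A M := by
    rw [Module.mem_support_iff_of_finite]
    exact hann
  have hjle := le_topDeg hω p M j hp
  obtain ⟨l, hl1, hl2, hl3⟩ := exists_series_of_mem_support_T_quot hω p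
    (topDeg hω p - j).toNat q j (by omega) hq
  have h1 := topDeg_series hω l
  rw [hl1, hl2, hl3] at h1
  obtain ⟨Q, hQM, hQq, hmin⟩ := exists_minimal_le M q hqM
  obtain ⟨c, hc1, hc2⟩ := hcoh Q
  have := hδ Q hQM hmin
  rw [hc1] at this
  have hcd : c = δ := by exact_mod_cast this
  have h3 := topDeg_mono hω hQq
  omega

/-- vanishing in positive degrees -/
theorem le_zero_of_mem_support_T_gen
    (hcoh : ∀ q : PrimeSpectrum A, ∃ c : ℕ, Order.coheight q = c ∧ topDeg hω q = -(c : ℤ))
    (M : Type u) [AddCommGroup M] [Module A M] [Module.Finite A M] (p : PrimeSpectrum A) (j : ℤ)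
    (hp : p ∈ Module.support A (T ω j M)) : j ≤ 0 := by
  have hjle := le_topDeg hω p M j hp
  obtain ⟨c, -, hc2⟩ := hcoh p
  omega

include hω in
theorem hasSk_iff_of_equidim_gen
    (hcoh : ∀ q : PrimeSpectrum A, ∃ c : ℕ, Order.coheight q = c ∧ topDeg hω q = -(c : ℤ))
    (M : Type u) [AddCommGroup M] [Module A M] [Module.Finite A M] (δ : ℕ)
    (hδ : ∀ Q ∈ Module.support A M, (∀ p ∈ Module.support A M, p ≤ Q → p = Q) →
      Order.coheight Q = δ) (k : ℕ) :
    LocCoh.HasSk k A M ↔
      ∀ j : ℤ, j ≠ -(δ : ℤ) →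
        (-j - (k : ℤ) < 0 → Subsingleton (T ω j M)) ∧
        (0 ≤ -j - (k : ℤ) →
          Module.supportDim A (T ω j M) ≤ ((-j - (k : ℤ)).toNat : WithBot ℕ∞)) := by
  have hfin := finT_of_isDualizing' hω
  have htopQ : ∀ Q ∈ Module.support A M, (∀ p ∈ Module.support A M, p ≤ Q → p = Q) →
      topDeg hω Q = -(δ : ℤ) := by
    intro Q hQM hmin
    obtain ⟨c, hc1, hc2⟩ := hcoh Q
    have := hδ Q hQM hmin
    rw [hc1] at this
    have hcd : c = δ := by exact_mod_cast this
    rw [hc2, hcd]
  -- (a) `-δ` always occurs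
  have ha : ∀ p : PrimeSpectrum A, p ∈ Module.support A M →
      p ∈ Module.support A (T ω (-(δ : ℤ)) M) := by
    intro p hp
    obtain ⟨Q, hQM, hQP, hmin⟩ := exists_minimal_le M p hp
    have h3 := htopQ Q hQM hmin
    have h4 := (mem_support_T_iff_of_minimal hω M Q hQM hmin (-(δ : ℤ))).mpr h3.symm
    exact Module.mem_support_mono hQP h4
  -- (b) lower bound
  have hb : ∀ (p : PrimeSpectrum A) (j : ℤ), p ∈ Module.support A (T ω j M) → -(δ : ℤ) ≤ j := by
    intro p j hp
    obtain ⟨q, hq, hann⟩ := exists_prime_of_mem_support_T ω j p M hp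
    have hqM : q ∈ Module.support A M := by
      rw [Module.mem_support_iff_of_finite]
      exact hann
    have hjle := le_topDeg hω p M j hp
    obtain ⟨l, hl1, hl2, hl3⟩ := exists_series_of_mem_support_T_quot hω p
      (topDeg hω p - j).toNat q j (by omega) hq
    have h1 := topDeg_series hω l
    rw [hl1, hl2, hl3] at h1
    obtain ⟨Q, hQM, hQq, hmin⟩ := exists_minimal_le M q hqM
    have h2 := htopQ Q hQM hmin
    have h3 := topDeg_mono hω hQq
    omega
  -- (c) `dim M_p = δ - dim A/p`
  have hc : ∀ (p : PrimeSpectrum A) (c : ℕ), Order.coheight p = c → p ∈ Module.support A M →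
      ∃ e : ℕ, Module.supportDim (Localization.AtPrime p.asIdeal)
        (LocalizedModule p.asIdeal.primeCompl M) = e ∧ e + c = δ := by
    intro p c hcp hp
    obtain ⟨e, r, he, hr, hre, hmin, hmax, hall⟩ := exists_depth_dim hω M p hp
    obtain ⟨c', hc'1, hc'2⟩ := hcoh p
    have hcc' : c' = c := by
      rw [hcp] at hc'1
      exact_mod_cast hc'1.symm
    have h1 := (hall _ (ha p hp)).1
    have h2 := hb p _ hmin
    refine ⟨e, he, ?_⟩
    omega
  have hcohnat : ∀ p : PrimeSpectrum A, ∃ c : ℕ, Order.coheight p = c := fun p => by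
    obtain ⟨c, hc1, -⟩ := hcoh p
    exact ⟨c, hc1⟩
  constructor
  · intro hSk j hj
    have key : ∀ (p : PrimeSpectrum A) (c : ℕ), Order.coheight p = c →
        p ∈ Module.support A (T ω j M) → (c : ℤ) ≤ -j - k := by
      intro p c hcp hpj
      have hp : p ∈ Module.support A M := support_T_subset ω j M hpj
      obtain ⟨e, he, hec⟩ := hc p c hcp hp
      have hjδ : -(δ : ℤ) < j := lt_of_le_of_ne (hb p j hpj) (Ne.symm hj)
      have h1 := (skCond_iff hω k M p).mp (hSk p.asIdeal) j (-(δ : ℤ)) hjδ hpj (ha p hp)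
      rw [he] at h1
      have h2 : ((k : ℤ) + j - -(δ : ℤ)).toNat ≤ e := by exact_mod_cast h1
      omega
    constructor
    · intro hneg
      by_contra hcon
      rw [not_subsingleton_iff_nontrivial] at hcon
      obtain ⟨p, hp⟩ := Module.nonempty_support_of_nontrivial (R := A) (M := T ω j M)
      obtain ⟨c, hcp⟩ := hcohnat p
      have := key p c hcp hp
      omega
    · intro hpos
      have h0 : (((-j - (k : ℤ)).toNat : ℕ) : WithBot ℕ∞) =
          ((((-j - (k : ℤ)).toNat : ℕ) : ℕ∞) : WithBot ℕ∞) := rfl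
      rw [h0, supportDim_le_iff]
      intro p hp
      obtain ⟨c, hcp⟩ := hcohnat p
      have := key p c hcp hp
      rw [hcp]
      have : c ≤ (-j - (k : ℤ)).toNat := by omega
      exact_mod_cast this
  · intro h p hpprime
    let P : PrimeSpectrum A := ⟨p, hpprime⟩
    refine (skCond_iff hω k M P).mpr ?_
    intro i j hji hi hj
    have hP : P ∈ Module.support A M := support_T_subset ω i M hi
    obtain ⟨c, hcp⟩ := hcohnat P
    obtain ⟨e, he, hec⟩ := hc P c hcp hP
    have hjδ := hb P j hj
    have hiδ : i ≠ -(δ : ℤ) := by omega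
    obtain ⟨h1, h2⟩ := h i hiδ
    have hpos : 0 ≤ -i - (k : ℤ) := by
      by_contra hneg
      push Not at hneg
      haveI := h1 hneg
      rw [Module.support_eq_empty] at hi
      exact absurd hi (Set.notMem_empty P)
    have h3 := h2 hpos
    have h0 : (((-i - (k : ℤ)).toNat : ℕ) : WithBot ℕ∞) =
        ((((-i - (k : ℤ)).toNat : ℕ) : ℕ∞) : WithBot ℕ∞) := rfl
    rw [h0, supportDim_le_iff] at h3
    have h4 := h3 P hi
    rw [hcp] at h4
    have h5 : c ≤ (-i - (k : ℤ)).toNat := by exact_mod_cast h4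
    rw [he]
    have : ((k : ℤ) + i - j).toNat ≤ e := by omega
    exact_mod_cast this

end Gen

end Groth.Agent.H2.DualCx
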