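import Mathlib
import Groth.Agent.H26.DepthInf
import Groth.Agent.H34.Depth
import Groth.Agent.H34.SkHom

/-!
# `(S_k)` for the ring and ideals of height `≥ k`  (helper2)

* `le_idealDepth_self_of_hasSk`: `A` Noetherian with `(S_k)`, `k ≤ ht J` ⇒ `k ≤ depth_J A`.
* `two_le_idealDepth_linearMap`: `2 ≤ depth_J N` ⇒ `2 ≤ depth_J Hom(M, N)`.
-/

set_option autoImplicit false

namespace Groth.Agent.H2.SkSelf

universe u

variable {A : Type u} [CommRing A] [IsNoetherianRing A]

theorem le_idealDepth_self_of_hasSk (k : ℕ) (J : Ideal A) (hJ : (k : ℕ∞) ≤ J.height)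
    (h : LocCoh.HasSk k A A) : (k : ℕ∞) ≤ LocCoh.idealDepth J A := by
  rw [Groth.Agent.H26.idealDepth_eq_iInf_depth_localization J A]
  refine le_iInf₂ fun p hp => ?_
  have h1 := h p.asIdeal
  have h2 : Module.supportDim (Localization.AtPrime p.asIdeal)
      (LocalizedModule p.asIdeal.primeCompl A) = (p.asIdeal.height : WithBot ℕ∞) := by
    have e1 : Module.supportDim (Localization.AtPrime p.asIdeal)
      (LocalizedModule p.asIdeal.primeCompl A) =
        Module.supportDim (Localization.AtPrime p.asIdeal) (Localization.AtPrime p.asIdeal) := rfl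
    rw [e1, Module.supportDim_self_eq_ringKrullDim,
      IsLocalization.AtPrime.ringKrullDim_eq_height p.asIdeal]
  rw [h2] at h1
  have h3 : J.height ≤ p.asIdeal.height := Ideal.height_mono hp
  have h4 : ((k : ℕ∞) : WithBot ℕ∞) ≤ (p.asIdeal.height : WithBot ℕ∞) :=
    WithBot.coe_le_coe.mpr (hJ.trans h3)
  have h5 : min ((k : ℕ) : WithBot ℕ∞) (p.asIdeal.height : WithBot ℕ∞) = ((k : ℕ∞) : WithBot ℕ∞) :=
    min_eq_left h4
  rw [h5] at h1
  exact WithBot.coe_le_coe.mp h1

theorem two_le_idealDepth_linearMap (J : Ideal A) (M N : Type u) [AddCommGroup M] [Module A M]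
    [AddCommGroup N] [Module A N] [Module.Finite A N] (h : 2 ≤ LocCoh.idealDepth J N) :
    2 ≤ LocCoh.idealDepth J (M →ₗ[A] N) := by
  by_cases hN : J • (⊤ : Submodule A N) = ⊤
  · obtain ⟨r, hr, hrn⟩ := Submodule.exists_mem_and_smul_eq_self_of_fg_of_le_smul J
      (⊤ : Submodule A N) Module.Finite.fg_top (le_of_eq hN.symm)
    have htop : J • (⊤ : Submodule A (M →ₗ[A] N)) = ⊤ := by
      rw [eq_top_iff]
      intro φ _
      have : φ = r • φ := by
        ext m
        simp only [LinearMap.smul_apply]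
        exact (hrn (φ m) trivial).symm
      rw [this]
      exact Submodule.smul_mem_smul hr trivial
    rw [Groth.Agent.H34.idealDepth_of_smul_top_eq_top J _ htop]
    exact le_top
  · obtain ⟨a, ha, b, hb, h1, h2⟩ := Groth.Agent.H34.exists_regular_of_two_le_idealDepth J N hN h
    exact Groth.Agent.H34.two_le_idealDepth_of_regular J (M →ₗ[A] N) a b ha hb
      (Groth.Agent.H34.isSMulRegular_linearMap M N a h1)
      (Groth.Agent.H34.isSMulRegular_quotSMulTop_linearMap M N a b h1 h2)

end Groth.Agent.H2.SkSelf
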